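import Cfsg.Agent.Lib.Aschbacher.OrthEven.PlusType
import Cfsg.Agent.Lib.Aschbacher.OrthFrames
import Cfsg.Agent.Lib.Aschbacher.SympGeneral

/-!
Geometric structures over groups of isometries in even dimension: reducible groups, fields.
-/

set_option autoImplicit false

namespace CfsgLib.Aschbacher

open Matrix Module

variable {F : Type*} [Field F] {ι : Type} [Fintype ι] [DecidableEq ι]

lemma quad_map_zero {Q : (ι → F) → F} (hQ : Cfsg.Geo.IsNondegenerateQuadraticForm Q) : Q 0 = 0 := by
  have h := hQ.smul 0 0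
  rwa [zero_smul, zero_pow two_ne_zero, zero_mul] at h

/-- The polar form as a reflexive form. -/
lemma isRefl_polarForm {Q : (ι → F) → F} (hQ : Cfsg.Geo.IsNondegenerateQuadraticForm Q) :
    IsRefl (RingEquiv.refl F) (1 : F) (QuadraticMap.polar Q) :=
  ⟨isSesq_of_bilinear hQ.polar_bilinear, fun u v => by
    rw [one_mul, RingEquiv.refl_apply, QuadraticMap.polar_comm], fun _ => rfl, hQ.nondegenerate⟩

/-- An additive map which is homogeneous of degree two and invariant under an irreducible group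
vanishes in dimension at least two. -/
theorem additive_square_eq_zero [Finite F] (hn : 2 ≤ Fintype.card ι) {H : Subgroup (GL ι F)}
    (hirr : Irr H) (d : (ι → F) → F) (hadd : ∀ u v, d (u + v) = d u + d v)
    (hsm : ∀ (c : F) v, d (c • v) = c ^ 2 * d v)
    (hinv : ∀ g ∈ H, ∀ v, d ((g : Matrix ι ι F) *ᵥ v) = d v) (v : ι → F) : d v = 0 := by
  by_cases h2 : (2 : F) = 0
  swap
  · have h := hadd v v
    rw [← two_smul F v, hsm] at h
    exact (mul_eq_zero.1 (show (2 : F) * d v = 0 by linear_combination h)).resolve_left h2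
  let D : (ι → F) →+ F := AddMonoidHom.mk' d hadd
  let W : Submodule F (ι → F) :=
    { carrier := {x | d x = 0}
      add_mem' := fun {x y} (hx : d x = 0) (hy : d y = 0) => by
        show d (x + y) = 0
        rw [hadd, hx, hy, add_zero]
      zero_mem' := map_zero D
      smul_mem' := fun c x (hx : d x = 0) => by
        show d (c • x) = 0
        rw [hsm, hx, mul_zero] }
  have hW : Inv H W := fun g hg x (hx : d x = 0) => by
    show d _ = 0
    rw [hinv g hg, hx]
  rcases irr_iff.1 hirr W hW with h | h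
  swap
  · exact (show v ∈ W by rw [h]; exact Submodule.mem_top)
  exfalso
  haveI : Fintype F := Fintype.ofFinite F
  have hinj : Function.Injective D := (injective_iff_map_eq_zero D).2 fun x hx =>
    (Submodule.mem_bot F).1 (h ▸ (show x ∈ W from hx))
  have hle := Fintype.card_le_of_injective D hinj
  rw [Fintype.card_fun] at hle
  have h1 : 1 < Fintype.card F := Fintype.one_lt_card
  exact absurd hle (not_le.2 (by
    calc Fintype.card F = Fintype.card F ^ 1 := (pow_one _).symm
      _ < _ := Nat.pow_lt_pow_right h1 (by omega)))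

variable {Q : (ι → F) → F} (hQ : Cfsg.Geo.IsNondegenerateQuadraticForm Q) {H : Subgroup (GL ι F)}

include hQ in
/-- A reducible group of isometries fixes a totally singular subspace, a non-degenerate subspace of
at most half the dimension, or, in characteristic two, a non-singular point. -/
theorem reducible_even [Finite F] (hH : H ≤ Cfsg.isometryGroup F Q) (hirr : ¬ Irr H) :
    (∃ W : Submodule F (ι → F), W ≠ ⊥ ∧ W ≠ ⊤ ∧ Cfsg.Geo.IsTotallySingularQuad Q W ∧
        H ≤ Cfsg.Geo.subspaceStabilizer W) ∨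
    (∃ W : Submodule F (ι → F), W ≠ ⊥ ∧ W ≠ ⊤ ∧
        Cfsg.Geo.IsNondegenerateOn (QuadraticMap.polar Q) W ∧ 2 * finrank F W ≤ Fintype.card ι ∧
        H ≤ Cfsg.Geo.subspaceStabilizer W) ∨
    ((2 : F) = 0 ∧ ∃ v : ι → F, Q v ≠ 0 ∧
        H ≤ Cfsg.Geo.subspaceStabilizer (Submodule.span F {v})) := by
  have hs := isSesq_of_bilinear hQ.polar_bilinear
  have hHf := fixesPolar_of_le hH
  rw [irr_iff] at hirr
  push Not at hirr
  obtain ⟨W, hW, hWb, hWt⟩ := hirr
  have hWp := inv_perp hs hHf hW
  by_cases hrad : W ⊓ perp hs W = ⊥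
  · obtain ⟨hdim, hperp⟩ := perp_inf_perp hQ hrad
    have hWpos : finrank F W ≠ 0 := fun h => hWb (Submodule.finrank_eq_zero.1 h)
    have hWlt : finrank F W < Fintype.card ι := by
      rw [← Module.finrank_fintype_fun_eq_card F]
      exact Submodule.finrank_lt hWt
    refine Or.inr (Or.inl ?_)
    rcases Nat.lt_or_ge (Fintype.card ι) (2 * finrank F W) with h | h
    · refine ⟨_, fun hb => ?_, fun ht => ?_, nondegenerateOn_polar hQ hperp, by omega,
        le_subspaceStabilizer hWp⟩
      · rw [hb, finrank_bot] at hdim; omega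
      · rw [ht, finrank_top, Module.finrank_fintype_fun_eq_card] at hdim; omega
    · exact ⟨W, hWb, hWt, nondegenerateOn_polar hQ hrad, h, le_subspaceStabilizer hW⟩
  have hts := totallySingular_inf_perp hs W
  have hinv := inv_inf H hW hWp
  have hUt : W ⊓ perp hs W ≠ ⊤ := fun h => hWt (eq_top_iff.2 (h ▸ inf_le_left))
  by_cases h2 : (2 : F) = 0
  swap
  · exact Or.inl ⟨_, hrad, hUt, tsQuad_of_tsPolar hQ h2 hts, le_subspaceStabilizer hinv⟩
  let S := singPart hQ h2 hts
  have hSU : S ≤ W ⊓ perp hs W := fun w hw => hw.1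
  have hSinv : Inv H S := fun g hg w hw =>
    ⟨hinv g hg w hw.1, by rw [mem_isometryGroup.1 (hH hg)]; exact hw.2⟩
  by_cases hS0 : S = ⊥
  · refine Or.inr (Or.inr ⟨h2, ?_⟩)
    have h1 := singPart_finrank hQ h2 hts
    rw [show singPart hQ h2 hts = ⊥ from hS0, finrank_bot] at h1
    obtain ⟨v, hv, hv0⟩ := Submodule.exists_mem_ne_zero_of_ne_bot hrad
    have hspan : Submodule.span F {v} = W ⊓ perp hs W :=
      Submodule.eq_of_le_of_finrank_le ((Submodule.span_singleton_le_iff_mem _ _).2 hv)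
        (by rw [finrank_span_singleton hv0]; exact h1)
    refine ⟨v, fun hQv => hv0 ?_, hspan ▸ le_subspaceStabilizer hinv⟩
    have : v ∈ S := ⟨hv, hQv⟩
    rwa [hS0, Submodule.mem_bot] at this
  · exact Or.inl ⟨S, hS0, fun h => hUt (eq_top_iff.2 (h ▸ hSU)), fun w hw => hw.2,
      le_subspaceStabilizer hSinv⟩

open Cfsg.Geo in
/-- A normalised field of prime degree of self-adjoint maps, alternating in characteristic two. -/
def HasSelfAdjointField (Q : (ι → F) → F) (H : Subgroup (GL ι F)) : Prop :=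
  ∃ (r : ℕ) (K : Subalgebra F (Matrix ι ι F)), r.Prime ∧ r ∣ Fintype.card ι ∧
    IsFieldSubalgebra r K ∧ IsSelfAdjointFor (QuadraticMap.polar Q) K ∧
    ((2 : F) = 0 → ∀ k ∈ K, ∀ v, QuadraticMap.polar Q (k *ᵥ v) v = 0) ∧
    H ≤ subalgebraNormalizer K

open Cfsg.Geo in
/-- A normalised quadratic field of similarities. -/
def HasUnitaryField (Q : (ι → F) → F) (H : Subgroup (GL ι F)) : Prop :=
  ∃ K : Subalgebra F (Matrix ι ι F), IsFieldSubalgebra 2 K ∧
    IsAdjointClosedFor (QuadraticMap.polar Q) K ∧ ¬ IsSelfAdjointFor (QuadraticMap.polar Q) K ∧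
    (∀ k ∈ K, ∃ c : F, ∀ v : ι → F, Q (k *ᵥ v) = c * Q v) ∧ H ≤ subalgebraNormalizer K

include hQ in
/-- In a quadratic field normalised by an irreducible group every element is a similarity. -/
theorem quad_similar_of_field [Fintype F] (hn : 2 ≤ Fintype.card ι) (hH : H ≤ Cfsg.isometryGroup F Q)
    (hirr : Irr H) {e : ℕ} {K : Subalgebra F (Matrix ι ι F)} (hK : Cfsg.Geo.IsFieldSubalgebra e K)
    (hadj : ∀ k ∈ K, (isRefl_polarForm hQ).adj k ∈ K) (hle : H ≤ Cfsg.Geo.subalgebraNormalizer K)
    (hfix : ∀ k ∈ K, (isRefl_polarForm hQ).adj k = k → ∃ c : F, k = c • (1 : Matrix ι ι F))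
    (htr : ∀ k ∈ K, ∃ c : F, k + (isRefl_polarForm hQ).adj k = c • (1 : Matrix ι ι F)) :
    ∀ k ∈ K, ∃ c : F, ∀ v : ι → F, Q (k *ᵥ v) = c * Q v := by
  have hf := isRefl_polarForm hQ
  have hfix' := fixesPolar_of_le hH
  have hB := hQ.polar_bilinear
  intro k hk
  obtain ⟨s, hs⟩ := htr k hk
  obtain ⟨c, hc⟩ := hfix (k * hf.adj k) (mul_mem hk (hadj k hk)) (by rw [hf.adj_mul, hf.adj_adj])
  have ha : hf.adj k = s • 1 - k := eq_sub_of_add_eq' hs
  -- the conjugates of `k`
  have hconj : ∀ g ∈ H, ∃ k', (k' = k ∨ k' = hf.adj k) ∧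
      (g : Matrix ι ι F) * k' = k * (g : Matrix ι ι F) := by
    intro g hg
    obtain ⟨k', hk'⟩ : ∃ k', ((g⁻¹ : GL ι F) : Matrix ι ι F) * k * (g : Matrix ι ι F) = k' :=
      ⟨_, rfl⟩
    have hk'K : k' ∈ K := by
      have := (hle (H.inv_mem hg) k).1 hk
      rw [inv_inv, hk'] at this
      exact this
    refine ⟨k', ?_, by rw [← hk', ← mul_assoc, ← mul_assoc, Units.mul_inv, one_mul]⟩
    by_contra hne
    push Not at hne
    have he1 : k' + hf.adj k' = s • 1 := by
      have h1 : hf.adj k' = ((g⁻¹ : GL ι F) : Matrix ι ι F) * hf.adj k * (g : Matrix ι ι F) := by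
        have := hf.adj_conj hfix' (H.inv_mem hg) k
        rw [inv_inv, hk'] at this
        exact this
      rw [h1, ← hk', ← add_mul, ← mul_add, hs, Matrix.mul_smul, mul_one, Matrix.smul_mul,
        Units.inv_mul]
    have he2 : k' * hf.adj k' = c • 1 := by
      have h1 : hf.adj k' = ((g⁻¹ : GL ι F) : Matrix ι ι F) * hf.adj k * (g : Matrix ι ι F) := by
        have := hf.adj_conj hfix' (H.inv_mem hg) k
        rw [inv_inv, hk'] at this
        exact this
      rw [h1, ← hk']
      calc _ = ((g⁻¹ : GL ι F) : Matrix ι ι F) * (k * ((g : Matrix ι ι F) *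
            ((g⁻¹ : GL ι F) : Matrix ι ι F)) * hf.adj k) * (g : Matrix ι ι F) := by
            simp only [mul_assoc]
        _ = _ := by
          rw [Units.mul_inv, mul_one, hc, Matrix.mul_smul, mul_one, Matrix.smul_mul, Units.inv_mul]
    have hroot : (k' - k) * (k' - hf.adj k) = 0 := by
      have e1 : hf.adj k' = s • 1 - k' := eq_sub_of_add_eq' he1
      have e2 : k' * k' = s • k' - c • 1 := by
        rw [e1, mul_sub, Matrix.mul_smul, mul_one] at he2
        rw [← he2]; abel
      have e3 : k * hf.adj k = c • 1 := hc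
      have e4 : k' * hf.adj k = s • k' - k' * k := by rw [ha, mul_sub, Matrix.mul_smul, mul_one]
      rw [sub_mul, mul_sub, mul_sub, e2, e3, e4, hK.comm k hk k' hk'K]
      abel
    exact sub_ne_zero.2 hne.2 (fieldSubalgebra_mul_eq_zero hK (sub_mem hk'K hk) hroot
      (sub_ne_zero.2 hne.1))
  -- the trace part
  let φ : (ι → F) → F := fun v => QuadraticMap.polar Q (k *ᵥ v) v - s * Q v
  have hsym : ∀ u v, QuadraticMap.polar Q u v = QuadraticMap.polar Q v u :=
    fun u v => QuadraticMap.polar_comm Q u v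
  have hadjv : ∀ u v, QuadraticMap.polar Q (k *ᵥ u) v =
      s * QuadraticMap.polar Q u v - QuadraticMap.polar Q u (k *ᵥ v) := by
    intro u v
    rw [hf.adj_spec, ha, Matrix.sub_mulVec, Matrix.smul_mulVec, Matrix.one_mulVec, hf.sesq.sub_right,
      hB.smul_right]
  have hφ : ∀ v, φ v = 0 := by
    refine additive_square_eq_zero hn hirr φ (fun u v => ?_) (fun a v => ?_) fun g hg v => ?_
    · simp only [φ]
      rw [quad_add hQ, Matrix.mulVec_add, hB.add_left, hB.add_right, hB.add_right, hadjv u v,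
        hsym u (k *ᵥ v)]
      ring
    · simp only [φ]
      rw [Matrix.mulVec_smul, hB.smul_left, hB.smul_right, hQ.smul]
      ring
    · simp only [φ]
      obtain ⟨k', hk', hgk⟩ := hconj g hg
      rw [mem_isometryGroup.1 (hH hg), Matrix.mulVec_mulVec, ← hgk, ← Matrix.mulVec_mulVec,
        isometry_apply hfix' hg]
      rcases hk' with rfl | rfl
      · rfl
      · rw [hsym (hf.adj k *ᵥ v), ← hf.adj_spec]
  let d : (ι → F) → F := fun v => Q (k *ᵥ v) - c * Q v
  have hd : ∀ v, d v = 0 := by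
    refine additive_square_eq_zero hn hirr d (fun u v => ?_) (fun a v => ?_) fun g hg v => ?_
    · simp only [d]
      have hkk : QuadraticMap.polar Q (k *ᵥ u) (k *ᵥ v) = c * QuadraticMap.polar Q u v := by
        rw [hf.adj_spec, Matrix.mulVec_mulVec,
          show hf.adj k * k = c • (1 : Matrix ι ι F) by rw [hK.comm _ (hadj k hk) k hk, hc],
          Matrix.smul_mulVec, Matrix.one_mulVec, hB.smul_right]
      rw [quad_add hQ, Matrix.mulVec_add, quad_add hQ, hkk]
      ring
    · simp only [d]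
      rw [Matrix.mulVec_smul, hQ.smul, hQ.smul]
      ring
    · simp only [d]
      obtain ⟨k', hk', hgk⟩ := hconj g hg
      rw [mem_isometryGroup.1 (hH hg), Matrix.mulVec_mulVec, ← hgk, ← Matrix.mulVec_mulVec,
        mem_isometryGroup.1 (hH hg)]
      rcases hk' with rfl | rfl
      · rfl
      · have hv := hφ v
        simp only [φ] at hv
        rw [ha, Matrix.sub_mulVec, Matrix.smul_mulVec, Matrix.one_mulVec,
          show s • v - k *ᵥ v = s • v + (-1 : F) • (k *ᵥ v) by module,
          quad_add hQ, hQ.smul, hQ.smul, hB.smul_left, hB.smul_right, hsym v]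
        linear_combination (-s) * hv
  exact ⟨c, fun v => sub_eq_zero.1 (hd v)⟩

include hQ in
/-- An adjoint-closed normalised field gives one of the two classes of fields. -/
theorem field_classes [Fintype F] (hn : 2 ≤ Fintype.card ι) (hH : H ≤ Cfsg.isometryGroup F Q)
    (hirr : Irr H) {e : ℕ}
    {K : Subalgebra F (Matrix ι ι F)} (hK : Cfsg.Geo.IsFieldSubalgebra e K) (he : 1 < e)
    (hadj : ∀ k ∈ K, (isRefl_polarForm hQ).adj k ∈ K)
    (hle : H ≤ Cfsg.Geo.subalgebraNormalizer K) : HasSelfAdjointField Q H ∨ HasUnitaryField Q H := by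
  have : Nonempty ι := Fintype.card_pos_iff.1 (by omega)
  have hf := isRefl_polarForm hQ
  rcases field_involution hf hK he hadj (fixesPolar_of_le hH) hle with
    ⟨r, K₀, hr, hK₀, hself, hle₀⟩ | ⟨rfl, hfix, htr⟩
  · have hsa : Cfsg.Geo.IsSelfAdjointFor (QuadraticMap.polar Q) K₀ := fun k hk u v => by
      rw [hf.adj_spec, hself k hk]
    refine Or.inl ⟨r, K₀, hr, fieldSubalgebra_dvd hK₀, hK₀, hsa, fun h2 k hk v => ?_, hle₀⟩
    obtain ⟨l, hl, rfl⟩ := exists_sq_of_field h2 hK₀ hk
    rw [← Matrix.mulVec_mulVec, hsa l hl, polar_self hQ, h2, zero_mul]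
  · refine Or.inr ⟨K, hK, fun k hk => ⟨_, hadj k hk, hf.adj_spec k⟩, fun hself => ?_,
      quad_similar_of_field hQ hn hH hirr hK hadj hle hfix htr, hle⟩
    have hle1 : Subalgebra.toSubmodule K ≤ F ∙ (1 : Matrix ι ι F) := fun k hk => by
      obtain ⟨c, hc⟩ := hfix k hk (hf.adj_eq (hself k hk))
      exact Submodule.mem_span_singleton.2 ⟨c, hc.symm⟩
    have h3 := Submodule.finrank_mono hle1
    rw [Subalgebra.finrank_toSubmodule, hK.finrank_eq, finrank_span_singleton one_ne_zero] at h3
    omega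

end CfsgLib.Aschbacher
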