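import Cfsg.Agent.Lib.Aschbacher.OrthEven.Shape
import Cfsg.Agent.Lib.FiniteForms.Congr
import Cfsg.Agent.Lib.FiniteForms.Quad
import Cfsg.Agent.Lib.MaxSub.RationalTools
import Cfsg.Agent.Lib.MaxSub.DecompTools

/-!
Decompositions in even dimension: planes, complements, discriminants of two halves, frames over a
subfield.
-/

set_option autoImplicit false

namespace CfsgLib.Aschbacher.OrthEven

open Matrix Module

variable {F : Type*} [Field F] {ι : Type} [Fintype ι] [DecidableEq ι] {Q : (ι → F) → F}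
  (hQ : Cfsg.Geo.IsNondegenerateQuadraticForm Q)

include hQ in
/-- At least three orthogonal blocks of dimension at least two are moved by a Siegel element. -/
theorem not_le_orthBlocks [Fintype F] (hn : 5 ≤ Fintype.card ι) {t k : ℕ} (ht : 3 ≤ t) (hk : 2 ≤ k)
    {D : Fin t → Submodule F (ι → F)}
    (hD : Cfsg.Geo.IsNondegenerateMDecomposition (QuadraticMap.polar Q) k D) :
    ¬ Cfsg.Geo.omegaGL Q ≤ Cfsg.Geo.decompositionStabilizer D := by
  classical
  intro hle
  have hB := hQ.polar_bilinear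
  obtain ⟨u, -, -, hu0, hu, -, -, -⟩ := exists_triple hQ hn
  obtain ⟨p, zp, hzp, hup⟩ : ∃ p, ∃ z ∈ D p, QuadraticMap.polar Q u z ≠ 0 := by
    by_contra hcon
    push Not at hcon
    obtain ⟨-, v, hv⟩ := hQ.nondegenerate u hu0
    refine hv ?_
    let L : (ι → F) →ₗ[F] F :=
      { toFun := fun y => QuadraticMap.polar Q u y
        map_add' := fun x y => hB.add_right u x y
        map_smul' := fun c x => by simpa using hB.smul_right c u x }
    have : (⊤ : Submodule F (ι → F)) ≤ LinearMap.ker L := by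
      rw [← hD.decomp.iSup_eq_top]
      exact iSup_le fun i y hy => hcon i y hy
    exact this Submodule.mem_top
  obtain ⟨l, m, hlp, hmp, hlm⟩ : ∃ l m : Fin t, l ≠ p ∧ m ≠ p ∧ l ≠ m := by
    have h2 : 1 < (Finset.univ.erase p).card := by
      rw [Finset.card_erase_of_mem (Finset.mem_univ p), Finset.card_univ, Fintype.card_fin]; omega
    obtain ⟨l, hl, m, hm, hlm⟩ := Finset.one_lt_card.1 h2
    exact ⟨l, m, Finset.ne_of_mem_erase hl, Finset.ne_of_mem_erase hm, hlm⟩
  have hperp : ∀ i, ∃ x ∈ D i, x ≠ 0 ∧ QuadraticMap.polar Q x u = 0 := by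
    intro i
    let L : D i →ₗ[F] F := (polarDual hQ u).comp (D i).subtype
    have hker : LinearMap.ker L ≠ ⊥ := fun hb => by
      have h1 := L.finrank_range_add_finrank_ker
      have h2 := Submodule.finrank_le (LinearMap.range L)
      rw [hb, finrank_bot, hD.decomp.finrank_eq] at h1
      rw [finrank_self] at h2
      omega
    obtain ⟨⟨x, hx⟩, hxk, hx0⟩ := Submodule.exists_mem_ne_zero_of_ne_bot hker
    exact ⟨x, hx, fun h => hx0 (Subtype.ext h), hxk⟩
  obtain ⟨x, hx, hx0, hxu⟩ := hperp l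
  obtain ⟨y, hy, hy0, hyu⟩ := hperp m
  set a := x + y with ha
  have hau : QuadraticMap.polar Q a u = 0 := by rw [ha, hB.add_left, hxu, hyu, add_zero]
  have h : SiegelPair Q u a := ⟨hu, hau⟩
  obtain ⟨σ, hσ⟩ := hle (siegel_mem hQ hn h)
  -- witnesses in three blocks
  obtain ⟨⟨zl, hzl, hxl⟩, -⟩ := hD.nondegenerate l x hx hx0
  obtain ⟨⟨zm, hzm, hym⟩, -⟩ := hD.nondegenerate m y hy hy0
  have hal : QuadraticMap.polar Q zl a ≠ 0 := by
    rw [ha, hB.add_right, hD.orthogonal l m hlm zl hzl y hy, add_zero]; exact hxl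
  have ham : QuadraticMap.polar Q zm a ≠ 0 := by
    rw [ha, hB.add_right, hD.orthogonal m l hlm.symm zm hzm x hx, zero_add]; exact hym
  set W := Submodule.span F ({u, a} : Set (ι → F)) with hW
  have hW2 : finrank F W ≤ 2 := by
    have := (finrank_span_finset_le_card (R := F) ({u, a} : Finset (ι → F))).trans Finset.card_le_two
    rw [Finset.coe_pair] at this
    rw [hW]; exact this
  have hdiff : ∀ v, (siegel hQ h : Matrix ι ι F) *ᵥ v - v ∈ W := fun v => by
    rw [siegel_mulVec' hQ h, add_sub_assoc, add_sub_cancel_left]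
    exact sub_mem (Submodule.smul_mem _ _ (Submodule.subset_span (by simp)))
      (Submodule.smul_mem _ _ (Submodule.subset_span (by simp)))
  by_cases hid : ∀ i, σ i = i
  swap
  · -- two blocks contain the displacements
    push Not at hid
    obtain ⟨i, hi⟩ := hid
    let L : D i →ₗ[F] (ι → F) :=
      (Matrix.toLin' (siegel hQ h : Matrix ι ι F) - LinearMap.id).comp (D i).subtype
    have hL : ∀ v : D i, L v = (siegel hQ h : Matrix ι ι F) *ᵥ (v : ι → F) - v := fun v => rfl
    have hs : ∀ v : D i, (siegel hQ h : Matrix ι ι F) *ᵥ (v : ι → F) ∈ D (σ i) := fun v =>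
      (hσ i).le ⟨v, v.2, Matrix.toLin'_apply _ _⟩
    have hinj : Function.Injective L := by
      rw [injective_iff_map_eq_zero]
      intro v hv
      rw [hL, sub_eq_zero] at hv
      exact Subtype.ext (Submodule.disjoint_def.1 (hD.decomp.indep.pairwiseDisjoint hi) _
        (hv ▸ hs v) v.2)
    have heq : LinearMap.range L = W := Submodule.eq_of_le_of_finrank_le
      (by rintro _ ⟨v, rfl⟩; rw [hL]; exact hdiff _)
      (by rw [LinearMap.finrank_range_of_inj hinj, hD.decomp.finrank_eq]; omega)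
    have hzero : ∀ q, q ≠ i → q ≠ σ i → ∀ z ∈ D q, ∀ w ∈ W, QuadraticMap.polar Q z w = 0 := by
      intro q hqi hqσ z hz w hw
      rw [← heq] at hw
      obtain ⟨v, rfl⟩ := hw
      rw [hL, sub_eq_add_neg, ← neg_one_smul F, hB.add_right, hB.smul_right,
        hD.orthogonal q _ hqσ z hz _ (hs v), hD.orthogonal q i hqi z hz _ v.2]
      ring
    by_cases h1 : p ≠ i ∧ p ≠ σ i
    · exact hup (by
        rw [QuadraticMap.polar_comm]
        exact hzero p h1.1 h1.2 zp hzp u (Submodule.subset_span (by simp)))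
    by_cases h2 : l ≠ i ∧ l ≠ σ i
    · exact hal (hzero l h2.1 h2.2 zl hzl a (Submodule.subset_span (by simp)))
    by_cases h3 : m ≠ i ∧ m ≠ σ i
    · exact ham (hzero m h3.1 h3.2 zm hzm a (Submodule.subset_span (by simp)))
    simp only [not_and_or, not_ne_iff] at h1 h2 h3
    rcases h1 with h1 | h1 <;> rcases h2 with h2 | h2 <;> rcases h3 with h3 | h3 <;>
      first
        | exact hlp (h2.trans h1.symm)
        | exact hmp (h3.trans h1.symm)
        | exact hlm (h2.trans h3.symm)
  -- all blocks fixed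
  let L : (ι → F) →ₗ[F] (ι → F) := Matrix.toLin' (siegel hQ h : Matrix ι ι F) - LinearMap.id
  have hL : ∀ v, L v = (siegel hQ h : Matrix ι ι F) *ᵥ v - v := fun v => rfl
  have hrange : LinearMap.range L ≤ ⨆ i, D i ⊓ W := by
    rw [← Submodule.map_top, ← hD.decomp.iSup_eq_top, Submodule.map_iSup]
    refine iSup_mono fun i => ?_
    rintro _ ⟨v, hv, rfl⟩
    rw [hL]
    exact ⟨sub_mem (hid i ▸ (hσ i).le ⟨v, hv, Matrix.toLin'_apply _ _⟩) hv, hdiff v⟩
  have hzu : QuadraticMap.polar Q zp u ≠ 0 := by rwa [QuadraticMap.polar_comm]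
  have hza : QuadraticMap.polar Q zp a = 0 := by
    rw [ha, hB.add_right, hD.orthogonal p l hlp.symm zp hzp x hx,
      hD.orthogonal p m hmp.symm zp hzp y hy, add_zero]
  have huR : u ∈ LinearMap.range L := by
    set v := zl + (-(QuadraticMap.polar Q zl u / QuadraticMap.polar Q zp u)) • zp with hv
    have h1 : QuadraticMap.polar Q v u = 0 := by
      rw [hv, hB.add_left, hB.smul_left, neg_mul, div_mul_cancel₀ _ hzu, add_neg_cancel]
    have h2 : QuadraticMap.polar Q v a = QuadraticMap.polar Q zl a := by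
      rw [hv, hB.add_left, hB.smul_left, hza, mul_zero, add_zero]
    refine ⟨(-(QuadraticMap.polar Q zl a)⁻¹) • v, ?_⟩
    rw [map_smul, hL, siegel_mulVec' hQ h, h1, h2]
    match_scalars
    all_goals field_simp
    all_goals ring
  have haR : a ∈ LinearMap.range L := by
    have h1 : L zp + (Q a * QuadraticMap.polar Q zp u) • u =
        QuadraticMap.polar Q zp u • a := by
      rw [hL, siegel_mulVec' hQ h, hza]
      module
    refine (Submodule.smul_mem_iff _ hzu).1 ?_
    rw [← h1]
    exact add_mem (LinearMap.mem_range_self _ _) (Submodule.smul_mem _ _ huR)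
  have hint : ∀ q, (∃ z ∈ D q, QuadraticMap.polar Q z u ≠ 0 ∨ QuadraticMap.polar Q z a ≠ 0) →
      ∃ w ∈ D q, w ∈ W ∧ w ≠ 0 := by
    rintro q ⟨z, hz, hne⟩
    by_contra hcon
    push Not at hcon
    have hS : (⨆ i, D i ⊓ W) ≤ LinearMap.ker (polarDual hQ z) := by
      refine iSup_le fun i w hw => ?_
      rw [LinearMap.mem_ker]
      show QuadraticMap.polar Q w z = 0
      by_cases hiq : i = q
      · subst hiq
        rw [hcon w hw.1 hw.2]
        simpa using hB.smul_left 0 z z
      · exact hD.orthogonal i q hiq w hw.1 z hz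
    rcases hne with hne | hne <;> refine hne ?_ <;> rw [QuadraticMap.polar_comm]
    · exact hS (hrange huR)
    · exact hS (hrange haR)
  obtain ⟨wp, hwp, hwpW, hwp0⟩ := hint p ⟨zp, hzp, Or.inl hzu⟩
  obtain ⟨wl, hwl, hwlW, hwl0⟩ := hint l ⟨zl, hzl, Or.inr hal⟩
  obtain ⟨wm, hwm, hwmW, hwm0⟩ := hint m ⟨zm, hzm, Or.inr ham⟩
  let f : Fin 3 → Fin t := ![p, l, m]
  have hf : Function.Injective f := fun i j hij => by
    fin_cases i <;> fin_cases j <;> simp [f] at hij <;>
      first
        | rfl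
        | exact absurd hij hlp | exact absurd hij.symm hlp | exact absurd hij hmp
        | exact absurd hij.symm hmp | exact absurd hij hlm | exact absurd hij.symm hlm
  have hli : LinearIndependent F (![wp, wl, wm] : Fin 3 → ι → F) := by
    refine (hD.decomp.indep.comp hf).linearIndependent (fun i => D (f i)) (fun i => ?_) fun i => ?_
    · fin_cases i <;> simp [f] <;> assumption
    · fin_cases i <;> simp <;> assumption
  have h3 := finrank_span_eq_card hli
  have hle' : Submodule.span F (Set.range ![wp, wl, wm]) ≤ W := Submodule.span_le.2 (by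
    rintro _ ⟨i, rfl⟩
    fin_cases i <;> simp <;> assumption)
  have := Submodule.finrank_mono hle'
  rw [h3, Fintype.card_fin] at this
  omega

include hQ in
/-- A non-degenerate half and its perpendicular. -/
theorem compl_decomp [Finite F] {k : ℕ} (hk : 2 * k = Fintype.card ι) (hk0 : 0 < k)
    {W : Submodule F (ι → F)} (hnd : Cfsg.Geo.IsNondegenerateOn (QuadraticMap.polar Q) W)
    (hd : finrank F W = k) :
    ∃ D : Fin 2 → Submodule F (ι → F),
      Cfsg.Geo.IsNondegenerateMDecomposition (QuadraticMap.polar Q) k D ∧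
      Cfsg.Geo.subspaceStabilizer W ⊓ Cfsg.isometryGroup F Q ≤
        Cfsg.Geo.decompositionStabilizer D := by
  classical
  set hs := isSesq_of_bilinear hQ.polar_bilinear
  have hrad : W ⊓ perp hs W = ⊥ := by
    refine (Submodule.eq_bot_iff _).2 fun w ⟨hw, hw'⟩ => ?_
    by_contra h0
    obtain ⟨-, x, hx, hx'⟩ := hnd w hw h0
    exact hx' (hw' x hx)
  obtain ⟨hdim, hperp⟩ := perp_inf_perp hQ hrad
  set U := perp hs W with hU
  have hUd : finrank F U = k := by omega
  have hdis : Disjoint W U := disjoint_iff.2 hrad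
  have hsup : W ⊔ U = ⊤ := by
    refine Submodule.eq_top_of_finrank_eq ?_
    have := Submodule.finrank_sup_add_finrank_inf_eq W U
    rw [hrad, finrank_bot, add_zero] at this
    rw [this, Module.finrank_fintype_fun_eq_card, hdim]
  let D : Fin 2 → Submodule F (ι → F) := ![W, U]
  have hUnd := nondegenerateOn_polar hQ hperp
  have hdec : Cfsg.Geo.IsMDecomposition k D := by
    refine ⟨le_rfl, hk0, fun i => by
      fin_cases i
      exacts [hd, hUd], ?_, ?_⟩
    · refine iSupIndep_def.2 fun i => ?_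
      fin_cases i
      · refine hdis.mono_right (iSup₂_le fun j hj => ?_)
        fin_cases j <;> simp [D] at hj ⊢
      · refine hdis.symm.mono_right (iSup₂_le fun j hj => ?_)
        fin_cases j <;> simp [D] at hj ⊢
    · refine eq_top_iff.2 (hsup ▸ sup_le ?_ ?_)
      exacts [le_iSup D 0, le_iSup D 1]
  refine ⟨D, ⟨hdec, fun i => by fin_cases i <;> assumption, fun i j hij => ?_⟩, ?_⟩
  · fin_cases i <;> fin_cases j <;> simp at hij <;> intro x hx y hy
    · show QuadraticMap.polar Q x y = 0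
      rw [QuadraticMap.polar_comm]; exact hy x hx
    · exact hx y hy
  rintro g ⟨hg, hgi⟩
  refine CfsgLib.MaxSub.Decomp.mem_stab_of hdec fun i => ⟨i, ?_⟩
  fin_cases i
  · exact fun x hx => (hg x).1 hx
  · intro x hx w hw
    have h1 := hx (((g⁻¹ : GL ι F) : Matrix ι ι F) *ᵥ w) ((hg _).2 (show (g : Matrix ι ι F) *ᵥ _ ∈ W by rwa [mulVec_inv_cancel]))
    have h2 := isometry_apply (fixesPolar_of_le (H := Cfsg.isometryGroup F Q) le_rfl) hgi x
      (((g⁻¹ : GL ι F) : Matrix ι ι F) *ᵥ w)
    rw [mulVec_inv_cancel] at h2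
    exact h2.trans h1

/-- The matrix of the polar form on a basis of a subspace. -/
noncomputable def blockGram (Q : (ι → F) → F) {W : Submodule F (ι → F)} {k : ℕ} (b : Basis (Fin k) F W) :
    Matrix (Fin k) (Fin k) F :=
  Matrix.of fun i j => QuadraticMap.polar Q (b i : ι → F) (b j)

include hQ in
lemma blockGram_apply {W : Submodule F (ι → F)} {k : ℕ} (b : Basis (Fin k) F W) (x y : W) :
    QuadraticMap.polar Q (x : ι → F) (y : ι → F) =
      b.equivFun x ⬝ᵥ (blockGram Q b *ᵥ b.equivFun y) := by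
  obtain ⟨R, hR, -⟩ := CfsgLib.MaxSub.Orth.exists_form hQ
  subst hR
  conv_lhs => rw [← b.sum_equivFun x, ← b.sum_equivFun y]
  show QuadraticMap.polarBilin R _ _ = _
  simp only [Submodule.coe_sum, Submodule.coe_smul_of_tower, map_sum, map_smul,
    LinearMap.sum_apply, LinearMap.smul_apply, smul_eq_mul,
    QuadraticMap.polarBilin_apply_apply, dotProduct, Matrix.mulVec, blockGram, Matrix.of_apply,
    Finset.mul_sum]
  rw [Finset.sum_comm]
  refine Finset.sum_congr rfl fun i _ => Finset.sum_congr rfl fun j _ => ?_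
  ring

include hQ in
lemma blockGram_det_ne_zero {W : Submodule F (ι → F)}
    (hnd : Cfsg.Geo.IsNondegenerateOn (QuadraticMap.polar Q) W) {k : ℕ} (b : Basis (Fin k) F W) :
    (blockGram Q b).det ≠ 0 := fun h0 => by
  obtain ⟨v, hv0, hv⟩ := Matrix.exists_mulVec_eq_zero_iff.2 h0
  set w := b.equivFun.symm v
  obtain ⟨⟨x, hx, hxw⟩, -⟩ := hnd _ w.2 fun h => hv0 (by
    rw [← b.equivFun.apply_symm_apply v, show b.equivFun.symm v = 0 from Subtype.ext h, map_zero])
  refine hxw ?_
  rw [show QuadraticMap.polar Q x (w : ι → F) = _ from blockGram_apply hQ b ⟨x, hx⟩ w,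
    LinearEquiv.apply_symm_apply, hv, dotProduct_zero]

include hQ in
/-- Subspaces with the same discriminant are isometric. -/
theorem isometric_of_det [Fintype F] (h2 : (2 : F) ≠ 0) {W W' : Submodule F (ι → F)}
    (hnd : Cfsg.Geo.IsNondegenerateOn (QuadraticMap.polar Q) W)
    (hnd' : Cfsg.Geo.IsNondegenerateOn (QuadraticMap.polar Q) W') {k : ℕ}
    (b : Basis (Fin k) F W) (b' : Basis (Fin k) F W')
    (hsq : IsSquare ((blockGram Q b).det * (blockGram Q b').det)) :
    Cfsg.Geo.AreIsometricFor Q W W' := by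
  classical
  have hsym : ∀ {U : Submodule F (ι → F)} (c : Basis (Fin k) F U), (blockGram Q c).IsSymm :=
    fun c => Matrix.IsSymm.ext fun i j => QuadraticMap.polar_comm _ _ _
  obtain ⟨P, hP, hPeq⟩ := (CfsgLib.FiniteForms.congr_iff h2 (hsym b') (hsym b)
    (blockGram_det_ne_zero hQ hnd' b') (blockGram_det_ne_zero hQ hnd b)).2 (by rwa [mul_comm])
  haveI := Matrix.invertibleOfIsUnitDet P (isUnit_iff_ne_zero.mpr hP)
  let T := b.equivFun.trans ((Matrix.toLinearEquiv' P inferInstance).trans b'.equivFun.symm)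
  refine ⟨T, fun w => mul_left_cancel₀ h2 ?_⟩
  have hT : b'.equivFun (T w) = P *ᵥ b.equivFun w := by
    simp only [T, LinearEquiv.trans_apply, LinearEquiv.apply_symm_apply]
    rfl
  rw [← polar_self hQ, ← polar_self hQ, blockGram_apply hQ b', blockGram_apply hQ b, hT, ← hPeq,
    ← Matrix.mulVec_mulVec, ← Matrix.mulVec_mulVec, Matrix.dotProduct_mulVec _ Pᵀ,
    Matrix.vecMul_transpose]

include hQ in
/-- The type from two orthogonal halves. -/
theorem plus_iff_halves [Finite F] (h2 : (2 : F) ≠ 0) {k : ℕ} {D : Fin 2 → Submodule F (ι → F)}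
    (hD : Cfsg.Geo.IsNondegenerateMDecomposition (QuadraticMap.polar Q) k D)
    (b : ∀ i, Basis (Fin k) F (D i)) :
    Cfsg.Geo.IsPlusTypeOn Q ⊤ ↔
      IsSquare ((-1 : F) ^ k * ((blockGram Q (b 0)).det * (blockGram Q (b 1)).det)) := by
  classical
  have hI : DirectSum.IsInternal D :=
    DirectSum.isInternal_submodule_of_iSupIndep_of_iSup_eq_top hD.decomp.indep
      hD.decomp.iSup_eq_top
  let c := (hI.collectedBasis b).reindex
    ((Equiv.sigmaEquivProd (Fin 2) (Fin k)).trans (Equiv.prodComm _ _))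
  have hc : ∀ p : Fin k × Fin 2, c p = (b p.2 p.1 : ι → F) := fun p => by
    simp [c, DirectSum.IsInternal.collectedBasis_coe]
    rfl
  have hmat : (Matrix.of fun i j => QuadraticMap.polar Q (c i) (c j)) =
      Matrix.blockDiagonal fun i : Fin 2 => blockGram Q (b i) := by
    ext ⟨a, i⟩ ⟨a', j⟩
    rw [Matrix.of_apply, hc, hc, Matrix.blockDiagonal_apply]
    split_ifs with hij
    · subst hij; rfl
    · exact hD.orthogonal i j hij _ (b i a).2 _ (b j a').2
  rw [plus_iff_disc hQ h2 c (m := k) (by simp [mul_comm]), hmat, Matrix.det_blockDiagonal,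
    Fin.prod_univ_two]

include hQ in
/-- In minus type, halves of odd dimension are isometric exactly for `q ≡ 3 (mod 4)`. -/
theorem isometric_halves_minus [Fintype F] (h2 : (2 : F) ≠ 0) {k : ℕ} (hk : Odd k)
    {D : Fin 2 → Submodule F (ι → F)}
    (hD : Cfsg.Geo.IsNondegenerateMDecomposition (QuadraticMap.polar Q) k D)
    (hminus : ¬ Cfsg.Geo.IsPlusTypeOn Q ⊤) :
    (Fintype.card F % 4 = 3 ∧ ∀ i j, Cfsg.Geo.AreIsometricFor Q (D i) (D j)) ∨
      (Fintype.card F % 4 = 1 ∧ ¬ Cfsg.Geo.AreIsometricFor Q (D 0) (D 1)) := by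
  classical
  let b : ∀ i, Basis (Fin k) F (D i) := fun i =>
    Module.finBasisOfFinrankEq F _ (hD.decomp.finrank_eq i)
  have hcard := Nat.odd_iff.1 (odd_of_two_ne_zero h2)
  have hns : ¬ IsSquare ((-1 : F) * ((blockGram Q (b 0)).det * (blockGram Q (b 1)).det)) := by
    have := (plus_iff_halves hQ h2 hD b).not.1 hminus
    rwa [hk.neg_one_pow] at this
  have h0 := blockGram_det_ne_zero hQ (hD.nondegenerate 0) (b 0)
  have h1 := blockGram_det_ne_zero hQ (hD.nondegenerate 1) (b 1)
  by_cases hneg : IsSquare (-1 : F)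
  · refine Or.inr ⟨?_, fun hiso => hns (hneg.mul ?_)⟩
    · have := FiniteField.isSquare_neg_one_iff.1 hneg
      omega
    · obtain ⟨e, he⟩ := hiso
      have hB : blockGram Q ((b 0).map e) = blockGram Q (b 0) := Matrix.ext fun i j => by
        simp only [blockGram, Matrix.of_apply, Basis.map_apply, QuadraticMap.polar,
          ← Submodule.coe_add, ← map_add, he]
      set M := ((b 1).toMatrix ((b 0).map e))
      have hM : blockGram Q ((b 0).map e) = Mᵀ * blockGram Q (b 1) * M := Matrix.ext fun i j => by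
        simp only [blockGram, Matrix.of_apply]
        rw [show QuadraticMap.polar Q (((b 0).map e i : D 1) : ι → F) _ = _ from
          blockGram_apply hQ (b 1) _ _]
        simp only [Matrix.mul_apply, dotProduct, Matrix.mulVec, Matrix.transpose_apply, M,
          Basis.toMatrix_apply, Basis.equivFun_apply, Finset.sum_mul, Finset.mul_sum, blockGram,
          Matrix.of_apply]
        rw [Finset.sum_comm]
        exact Finset.sum_congr rfl fun x _ => Finset.sum_congr rfl fun y _ => by ring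
      rw [← hB, hM, Matrix.det_mul, Matrix.det_mul, Matrix.det_transpose]
      exact ⟨M.det * (blockGram Q (b 1)).det, by ring⟩
  · have hsq : IsSquare ((blockGram Q (b 0)).det * (blockGram Q (b 1)).det) := by
      by_contra hc
      exact hns ((CfsgLib.FiniteForms.isSquare_mul_iff (neg_ne_zero.2 one_ne_zero)
        (mul_ne_zero h0 h1)).2 (iff_of_false hneg hc))
    refine Or.inl ⟨?_, fun i j => ?_⟩
    · rw [FiniteField.isSquare_neg_one_iff, not_not] at hneg
      exact hneg
    · refine isometric_of_det hQ h2 (hD.nondegenerate i) (hD.nondegenerate j) (b i) (b j) ?_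
      fin_cases i <;> fin_cases j
      · exact ⟨_, rfl⟩
      · exact hsq
      · rwa [mul_comm]
      · exact ⟨_, rfl⟩

include hQ in
/-- The stabiliser of an orthogonal frame over a proper extension is realised over a subfield. -/
theorem frame_subfield [Fintype F] (h2 : (2 : F) ≠ 0) {F₀ : Subfield F} {t : ℕ}
    {D : Fin t → Submodule F (ι → F)} (hD : Cfsg.Geo.IsOrthogonalMDecomposition Q 1 D)
    {H : Subgroup (GL ι F)} (hH : H ≤ Cfsg.isometryGroup F Q)
    (hle : H ≤ Cfsg.Geo.decompositionStabilizer D) :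
    ∃ (P : GL ι F) (ζ : F), ζ ≠ 0 ∧
      Cfsg.Geo.IsQuadFormRationalStructure (fun v => ζ * Q v) F₀ P ∧
      H ≤ Cfsg.Geo.subfieldSubgroup F₀ P := by
  classical
  have hB := hQ.polar_bilinear
  have ht := hD.decomp.decomp.two_le
  let i₀ : Fin t := ⟨0, by omega⟩
  obtain ⟨v₀, hv₀, hv₀0⟩ := Submodule.exists_mem_ne_zero_of_ne_bot (show D i₀ ≠ ⊥ from fun h => by
    have := hD.decomp.decomp.finrank_eq i₀
    rw [h, finrank_bot] at this
    exact zero_ne_one this)
  choose φ hφ using fun i => hD.isometric i₀ i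
  let v : Fin t → ι → F := fun i => (φ i ⟨v₀, hv₀⟩ : ι → F)
  have hv : ∀ i, v i ∈ D i := fun i => (φ i _).2
  set d := Q v₀ with hd
  have hQv : ∀ i, Q (v i) = d := fun i => hφ i _
  have hv0 : ∀ i, v i ≠ 0 := fun i h => hv₀0 (by
    have : φ i ⟨v₀, hv₀⟩ = 0 := Subtype.ext h
    exact congrArg Subtype.val ((LinearEquiv.map_eq_zero_iff _).1 this))
  have hline : ∀ i, ∀ w ∈ D i, ∃ c : F, w = c • v i := fun i w hw => by
    obtain ⟨c, hc⟩ := (finrank_eq_one_iff_of_nonzero' (⟨v i, hv i⟩ : D i)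
      (fun h => hv0 i (congrArg Subtype.val h))).1 (hD.decomp.decomp.finrank_eq i) ⟨w, hw⟩
    exact ⟨c, (congrArg Subtype.val hc).symm⟩
  have hd0 : d ≠ 0 := by
    intro h0
    obtain ⟨⟨w, hw, hne⟩, -⟩ := hD.decomp.nondegenerate i₀ v₀ hv₀ hv₀0
    obtain ⟨c, rfl⟩ := hline i₀ w hw
    obtain ⟨c', hc'⟩ := hline i₀ v₀ hv₀
    rw [hc', hB.smul_left, hB.smul_right, polar_self hQ, hQv, h0] at hne
    simp at hne
  have ht' : t * 1 = Fintype.card ι := mDecomposition_mul_eq hD.decomp.decomp
  let σ : Fin t ≃ ι := (Fintype.equivFinOfCardEq (by omega)).symm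
  have hindep : LinearIndependent F v :=
    hD.decomp.decomp.indep.linearIndependent D hv hv0
  let P₀ : Matrix ι ι F := Matrix.of fun i j => v (σ.symm j) i
  have hP₀ : IsUnit P₀ := Matrix.linearIndependent_cols_iff_isUnit.1
    (hindep.comp σ.symm σ.symm.injective)
  obtain ⟨P, hP⟩ : ∃ P : GL ι F, (P : Matrix ι ι F) = P₀ := ⟨hP₀.unit, rfl⟩
  have hPcol : ∀ j, (P : Matrix ι ι F) *ᵥ Pi.single j 1 = v (σ.symm j) := fun j => by
    rw [hP, Matrix.mulVec_single_one]; rfl
  refine ⟨P, d⁻¹, inv_ne_zero hd0, ?_, ?_⟩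
  · intro u hu
    have h1 : (P : Matrix ι ι F) *ᵥ u = ∑ j, u j • v (σ.symm j) := by
      funext i
      simp [hP, P₀, Matrix.mulVec, dotProduct, mul_comm]
    show d⁻¹ * Q ((P : Matrix ι ι F) *ᵥ u) ∈ F₀
    rw [h1, quad_sum_orth hQ _ _ fun a _ b _ hab => by
      rw [hB.smul_left, hB.smul_right, hD.decomp.orthogonal _ _
        (fun h => hab (σ.symm.injective h)) _ (hv _) _ (hv _), mul_zero, mul_zero]]
    rw [Finset.mul_sum]
    refine F₀.sum_mem fun j _ => ?_
    rw [hQ.smul, hQv, show d⁻¹ * (u j ^ 2 * d) = u j ^ 2 by field_simp]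
    exact pow_mem (hu j) 2
  · intro g hg
    obtain ⟨π, hπ⟩ := hle hg
    choose c hc using fun i => hline (π i) _
      ((hπ i).le ⟨v i, hv i, Matrix.toLin'_apply _ _⟩)
    have hc2 : ∀ i, c i ∈ F₀ := fun i => by
      have h := mem_isometryGroup.1 (hH hg) (v i)
      rw [hc i, hQ.smul, hQv, hQv] at h
      have : c i ^ 2 = 1 := mul_right_cancel₀ hd0 (h.trans (one_mul d).symm)
      rcases sq_eq_one_iff.1 this with h | h <;> rw [h]
      exacts [F₀.one_mem, F₀.neg_mem F₀.one_mem]
    refine CfsgLib.MaxSub.Rational.mem_of_entries (c := 1) one_ne_zero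
      (N := ((P⁻¹ * g * P : GL ι F) : Matrix ι ι F)) (fun i j => ?_) (one_smul _ _).symm
    have hcol : ((P⁻¹ * g * P : GL ι F) : Matrix ι ι F) *ᵥ Pi.single j 1 =
        c (σ.symm j) • Pi.single (σ (π (σ.symm j))) 1 := by
      rw [mul_mulVec, mul_mulVec, hPcol, hc]
      refine mulVec_injective P ?_
      show (P : Matrix ι ι F) *ᵥ _ = (P : Matrix ι ι F) *ᵥ _
      rw [mulVec_inv_cancel, Matrix.mulVec_smul, hPcol, Equiv.symm_apply_apply]
    have := congrFun hcol i
    rw [Matrix.mulVec_single_one, Matrix.col_apply] at this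
    rw [this, Pi.smul_apply, smul_eq_mul, Pi.single_apply]
    split_ifs
    · rw [mul_one]; exact hc2 _
    · rw [mul_zero]; exact F₀.zero_mem

end CfsgLib.Aschbacher.OrthEven
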