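import Cfsg.Agent.Lib.Aschbacher.OrthEven.Basic
import Cfsg.Agent.Lib.Aschbacher.SympTwoGroup

/-!
Groups of isometries which are abelian modulo scalars: the dimension is a power of two and the
form has plus type.
-/

set_option autoImplicit false

namespace CfsgLib.Aschbacher

open Matrix Module

variable {F : Type*} [Field F] {ι : Type} [Fintype ι] [DecidableEq ι] {Q : (ι → F) → F}

/-- An absolutely irreducible group of isometries with scalar commutators. -/
theorem class_six_even [Fintype F] (hQ : Cfsg.Geo.IsNondegenerateQuadraticForm Q)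
    (hn : 4 ≤ Fintype.card ι) (heven : Even (Fintype.card ι)) {N : Subgroup (GL ι F)}
    (hN : AbsIrr N) (hNQ : N ≤ Cfsg.isometryGroup F Q) (h : ScalarCommutators N) :
    (2 : F) ≠ 0 ∧ (∃ k, Fintype.card ι = 2 ^ k) ∧ Cfsg.Geo.IsPlusTypeOn Q ⊤ := by
  classical
  have : Nonempty ι := Fintype.card_pos_iff.1 (by omega)
  have hB := hQ.polar_bilinear
  have hfix := fixesPolar_of_le hNQ
  have hNs : ¬ N ≤ Cfsg.Geo.scalars ι F := not_le_scalars_of_irr (by omega) hN.1
  have hsq1 : ∀ c : Fˣ, scalarGL ι c ∈ N → (c : F) * c = 1 := by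
    intro c hc
    let w : ι → F := Pi.single (Classical.arbitrary ι) 1
    obtain ⟨-, x, hx⟩ := hQ.nondegenerate w fun h0 => by
      simpa [w] using congrFun h0 (Classical.arbitrary ι)
    have h := isometry_apply hfix hc w x
    rw [scalarGL_mulVec, scalarGL_mulVec, hB.smul_left, hB.smul_right, ← mul_assoc] at h
    exact mul_right_cancel₀ hx (h.trans (one_mul _).symm)
  have hcomm : ∀ x ∈ N, ∀ y ∈ N, ∃ c : F, (c = 1 ∨ c = -1) ∧
      (x : Matrix ι ι F) * (y : Matrix ι ι F) = c • ((y : Matrix ι ι F) * (x : Matrix ι ι F)) := by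
    intro x hx y hy
    obtain ⟨c, hc⟩ := h.exists_comm hx hy
    have hmem : scalarGL ι c ∈ N := by
      have : scalarGL ι c = x * y * x⁻¹ * y⁻¹ := by rw [hc]; group
      rw [this]
      exact N.mul_mem (N.mul_mem (N.mul_mem hx hy) (N.inv_mem hx)) (N.inv_mem hy)
    refine ⟨c, mul_self_eq_one_iff.1 (hsq1 c hmem), ?_⟩
    have := congrArg Units.val hc
    rw [Units.val_mul, Units.val_mul, scalarGL_val, Matrix.smul_mul, one_mul, Units.val_mul] at this
    exact this
  have h2 : (2 : F) ≠ 0 := fun h2 => hNs fun a ha => hN.mem_scalars fun b hb => by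
    obtain ⟨c, hc, he⟩ := hcomm a ha b hb
    have hc1 : c = 1 := hc.elim id fun h => by rw [h]; linear_combination -h2
    rw [hc1, one_smul] at he
    exact Units.ext he
  -- squares
  have hsq : ∀ x ∈ N, ∃ c : Fˣ, x * x = scalarGL ι c ∧ ((c : F) = 1 ∨ (c : F) = -1) := by
    intro x hx
    have hs : x * x ∈ Cfsg.Geo.scalars ι F := hN.mem_scalars fun y hy => Units.ext (by
      obtain ⟨c, hc, he⟩ := hcomm x hx y hy
      simp only [Units.val_mul]
      rw [mul_assoc, he, Matrix.mul_smul, ← mul_assoc, he, Matrix.smul_mul, smul_smul,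
        mul_assoc, show c * c = 1 by rcases hc with rfl | rfl <;> ring, one_smul])
    obtain ⟨c, hc⟩ := mem_scalars.1 hs
    exact ⟨c, hc, mul_self_eq_one_iff.1 (hsq1 c (hc ▸ N.mul_mem hx hx))⟩
  obtain ⟨k, hk⟩ : ∃ k, Fintype.card ι = 2 ^ k := by
    have hp : IsPGroup 2 (N ⧸ (Cfsg.Geo.scalars ι F).subgroupOf N) := fun q => by
      refine ⟨1, ?_⟩
      induction q using QuotientGroup.induction_on with
      | H x =>
        rw [pow_one, pow_two, ← QuotientGroup.mk_mul, QuotientGroup.eq_one_iff,
          Subgroup.mem_subgroupOf]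
        obtain ⟨c, hc, -⟩ := hsq _ x.2
        exact mem_scalars.2 ⟨c, hc⟩
    haveI : Fact (Nat.Prime 2) := ⟨Nat.prime_two⟩
    obtain ⟨j, hj⟩ := IsPGroup.iff_card.1 hp
    rw [card_quotient_scalars hN h] at hj
    obtain ⟨k, -, hk⟩ := (Nat.dvd_prime_pow Nat.prime_two).1
      (⟨Fintype.card ι, by rw [← hj, sq]⟩ : Fintype.card ι ∣ 2 ^ j)
    exact ⟨k, hk⟩
  refine ⟨h2, ⟨k, hk⟩, ?_⟩
  -- an involution outside the scalars
  obtain ⟨x, hxN, hxs, hx2⟩ : ∃ x ∈ N, x ∉ Cfsg.Geo.scalars ι F ∧ x * x = 1 := by
    obtain ⟨x, hx, y, hy, hne⟩ : ∃ x ∈ N, ∃ y ∈ N, x * y ≠ y * x := by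
      by_contra h
      push Not at h
      exact hNs fun a ha => hN.mem_scalars fun b hb => h a ha b hb
    have hnots : ∀ {a b : GL ι F}, a * b ≠ b * a → a ∉ Cfsg.Geo.scalars ι F :=
      fun {a b} hab ha => hab (scalars_comm ha b)
    have hxy : (x : Matrix ι ι F) * y = (-1 : F) • ((y : Matrix ι ι F) * x) := by
      obtain ⟨c, hc, he⟩ := hcomm x hx y hy
      rcases hc with rfl | rfl
      · exact absurd (Units.ext (by simpa using he)) hne
      · exact he
    have hyx : (y : Matrix ι ι F) * x = (-1 : F) • ((x : Matrix ι ι F) * y) := by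
      rw [hxy, smul_smul]; simp
    have hone : ∀ {a : GL ι F}, a ∈ N → a ∉ Cfsg.Geo.scalars ι F →
        (∀ {b : GL ι F}, b = a → b * b ≠ 1) →
          (a : Matrix ι ι F) * a = (-1 : F) • (1 : Matrix ι ι F) := by
      intro a ha has hne1
      obtain ⟨c, hc, hcv⟩ := hsq a ha
      rcases hcv with hcv | hcv
      · exact absurd (by rw [hc, show c = 1 from Units.ext hcv, scalarGL_one]) (hne1 rfl)
      · have := congrArg Units.val hc
        rw [Units.val_mul, scalarGL_val, hcv] at this
        exact this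
    by_contra hcon
    push Not at hcon
    have hx' := hone hx (hnots hne) (fun {b} hb => hb ▸ hcon x hx (hnots hne))
    have hy' := hone hy (hnots (fun h => hne h.symm)) (fun {b} hb => hb ▸ hcon y hy
      (hnots (fun h => hne h.symm)))
    -- commuting with both
    obtain ⟨z, hzN, hzs, hzx, hzy⟩ : ∃ z ∈ N, z ∉ Cfsg.Geo.scalars ι F ∧
        (z : Matrix ι ι F) * x = (x : Matrix ι ι F) * z ∧
        (z : Matrix ι ι F) * y = (y : Matrix ι ι F) * z := by
      by_contra hcon'
      push Not at hcon'
      let S : Submodule F (Matrix ι ι F) := Submodule.span F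
        ↑({1, (x : Matrix ι ι F), (y : Matrix ι ι F), (x : Matrix ι ι F) * y} :
          Finset (Matrix ι ι F))
      have hS : ∀ g ∈ N, (g : Matrix ι ι F) ∈ S := by
        intro g hg
        have key : ∀ w ∈ N, (w : Matrix ι ι F) ∈ ({1, (x : Matrix ι ι F), (y : Matrix ι ι F),
              (x : Matrix ι ι F) * y} : Finset (Matrix ι ι F)) →
            ((g * w : GL ι F) : Matrix ι ι F) * x = (x : Matrix ι ι F) * (g * w : GL ι F) →
            ((g * w : GL ι F) : Matrix ι ι F) * y = (y : Matrix ι ι F) * (g * w : GL ι F) →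
            (g : Matrix ι ι F) ∈ S := by
          intro w hw hmem h1 h2'
          have hgw : g * w ∈ Cfsg.Geo.scalars ι F := by
            by_contra hns
            exact hcon' _ (N.mul_mem hg hw) hns h1 h2'
          obtain ⟨d, hd⟩ := mem_scalars.1 hgw
          obtain ⟨cw, hcw, -⟩ := hsq w hw
          have hinv : g = scalarGL ι d * (scalarGL ι cw⁻¹ * w) := by
            rw [← hd, scalarGL_inv, ← hcw]; group
          rw [hinv, Units.val_mul, Units.val_mul, scalarGL_val, scalarGL_val, Matrix.smul_mul,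
            Matrix.smul_mul, one_mul, one_mul]
          exact S.smul_mem _ (S.smul_mem _ (Submodule.subset_span hmem))
        obtain ⟨a, ha, hga⟩ := hcomm g hg x hx
        obtain ⟨b, hb, hgb⟩ := hcomm g hg y hy
        have hxx : ∀ M : Matrix ι ι F, (x : Matrix ι ι F) * ((x : Matrix ι ι F) * M) = -M := by
          intro M; rw [← mul_assoc, hx', Matrix.smul_mul, one_mul, neg_one_smul]
        rcases ha with rfl | rfl <;> rcases hb with rfl | rfl
        · refine key 1 N.one_mem (by simp) ?_ ?_ <;> simp only [mul_one]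
          · simpa using hga
          · simpa using hgb
        · refine key x hx (by simp) ?_ ?_ <;> simp only [Units.val_mul]
          · rw [mul_assoc, ← mul_assoc (x : Matrix ι ι F), ← (show (g : Matrix ι ι F) * x =
              (x : Matrix ι ι F) * g by simpa using hga), mul_assoc]
          · rw [mul_assoc, hxy, Matrix.mul_smul, ← mul_assoc, hgb, Matrix.smul_mul, smul_smul,
              mul_assoc]
            simp
        · refine key y hy (by simp) ?_ ?_ <;> simp only [Units.val_mul]
          · rw [mul_assoc, hyx, Matrix.mul_smul, ← mul_assoc, hga, Matrix.smul_mul, smul_smul,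
              mul_assoc]
            simp
          · rw [mul_assoc, ← mul_assoc (y : Matrix ι ι F), ← (show (g : Matrix ι ι F) * y =
              (y : Matrix ι ι F) * g by simpa using hgb), mul_assoc]
        · refine key (x * y) (N.mul_mem hx hy) (by simp) ?_ ?_ <;> simp only [Units.val_mul]
          · calc (g : Matrix ι ι F) * ((x : Matrix ι ι F) * y) * x
                = (g : Matrix ι ι F) * x * ((y : Matrix ι ι F) * x) := by simp only [mul_assoc]
              _ = _ := by
                rw [hyx, hga]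
                simp only [Matrix.smul_mul, Matrix.mul_smul, smul_smul, mul_assoc]
                simp
          · calc (g : Matrix ι ι F) * ((x : Matrix ι ι F) * y) * y
                = ((g : Matrix ι ι F) * x) * ((y : Matrix ι ι F) * y) := by simp only [mul_assoc]
              _ = _ := by
                rw [hy', Matrix.mul_smul, mul_one, show (y : Matrix ι ι F) *
                  ((g : Matrix ι ι F) * ((x : Matrix ι ι F) * y)) =
                  ((y : Matrix ι ι F) * g) * x * y by simp only [mul_assoc],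
                  show (y : Matrix ι ι F) * g = (-1 : F) • ((g : Matrix ι ι F) * y) by
                    rw [hgb, smul_smul]; simp]
                simp only [Matrix.smul_mul]
                rw [mul_assoc (g : Matrix ι ι F), hyx]
                simp only [Matrix.smul_mul, Matrix.mul_smul, smul_smul, mul_assoc, hy', mul_one]
                simp
      have henv : envelope N ≤ S := Submodule.span_le.2 (by rintro _ ⟨g, hg, rfl⟩; exact hS g hg)
      rw [envelope_eq_top hN] at henv
      have h3 := (Submodule.finrank_mono henv).trans (finrank_span_finset_le_card _)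
      rw [finrank_top, Module.finrank_matrix, Module.finrank_self, mul_one] at h3
      have h4 := h3.trans Finset.card_le_four
      have : 4 * 4 ≤ Fintype.card ι * Fintype.card ι := Nat.mul_le_mul hn hn
      omega
    have hzx' : z * x = x * z := Units.ext hzx
    have hz' := hone hzN hzs (fun {b} hb => hb ▸ hcon z hzN hzs)
    refine hcon (x * z) (N.mul_mem hx hzN) (hnots (b := y) ?_) (Units.ext ?_)
    · intro h
      refine hne (Units.ext ?_)
      have h1 := congrArg Units.val h
      simp only [Units.val_mul] at h1 ⊢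
      rw [mul_assoc, hzy, ← mul_assoc, ← mul_assoc] at h1
      exact z.isUnit.mul_right_cancel h1
    · simp only [Units.val_mul, Units.val_one]
      calc (x : Matrix ι ι F) * z * (x * z)
          = (x : Matrix ι ι F) * ((z : Matrix ι ι F) * x) * z := by simp only [mul_assoc]
        _ = ((x : Matrix ι ι F) * x) * ((z : Matrix ι ι F) * z) := by rw [hzx]; simp only [mul_assoc]
        _ = 1 := by rw [hx', hz']; simp
  obtain ⟨y, hyN, hxy⟩ : ∃ y ∈ N,
      (x : Matrix ι ι F) * y = (-1 : F) • ((y : Matrix ι ι F) * x) := by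
    by_contra hcon
    push Not at hcon
    refine hxs (hN.mem_scalars fun b hb => ?_)
    obtain ⟨c, hc, he⟩ := hcomm x hxN b hb
    rcases hc with rfl | rfl
    · exact Units.ext (by simpa using he)
    · exact absurd he (hcon b hb)
  have hxx : ∀ v, (x : Matrix ι ι F) *ᵥ ((x : Matrix ι ι F) *ᵥ v) = v := fun v => by
    rw [← mul_mulVec, hx2, Units.val_one, Matrix.one_mulVec]
  let D : Fin 2 → Submodule F (ι → F) := fun i =>
    LinearMap.ker (Matrix.toLin' (x : Matrix ι ι F) - ((-1 : F) ^ (i : ℕ)) • LinearMap.id)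
  have hD : ∀ i v, v ∈ D i ↔ (x : Matrix ι ι F) *ᵥ v = ((-1 : F) ^ (i : ℕ)) • v := by
    intro i v
    simp [D, sub_eq_zero]
  have hy : ∀ i, ∀ v ∈ D i, (y : Matrix ι ι F) *ᵥ v ∈ D (1 - i) := by
    intro i v hv
    rw [hD] at hv ⊢
    rw [Matrix.mulVec_mulVec, hxy, Matrix.smul_mulVec, ← Matrix.mulVec_mulVec, hv,
      Matrix.mulVec_smul, smul_smul]
    congr 1
    fin_cases i <;> simp
  have hdisj : Disjoint (D 0) (D 1) := Submodule.disjoint_def.2 fun v h0 h1 => by
    rw [hD] at h0 h1
    rw [h0] at h1
    have : (2 : F) • v = 0 := by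
      simp only [Fin.val_zero, Fin.val_one, pow_zero, pow_one, one_smul, neg_one_smul] at h1
      rw [two_smul]; exact eq_neg_iff_add_eq_zero.1 h1
    exact (smul_eq_zero.1 this).resolve_left h2
  have hsplit : ∀ v, ∃ u ∈ D 0, ∃ w ∈ D 1, u + w = v := fun v => by
    refine ⟨(2 : F)⁻¹ • (v + (x : Matrix ι ι F) *ᵥ v), (hD _ _).2 ?_,
      (2 : F)⁻¹ • (v - (x : Matrix ι ι F) *ᵥ v), (hD _ _).2 ?_, ?_⟩
    · simp [Matrix.mulVec_smul, Matrix.mulVec_add, hxx, add_comm]
    · simp only [Matrix.mulVec_smul, Matrix.mulVec_sub, hxx, Fin.val_one, pow_one]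
      module
    · rw [← smul_add, show v + (x : Matrix ι ι F) *ᵥ v + (v - (x : Matrix ι ι F) *ᵥ v) =
        (2 : F) • v by module, smul_smul, inv_mul_cancel₀ h2, one_smul]
  have horth : ∀ i j, i ≠ j → Cfsg.Geo.AreOrthogonalFor (QuadraticMap.polar Q) (D i) (D j) := by
    intro i j hij u hu v hv
    have h := isometry_apply hfix hxN u v
    rw [(hD i u).1 hu, (hD j v).1 hv, hB.smul_left, hB.smul_right] at h
    refine (mul_eq_zero.1 (show (2 : F) * QuadraticMap.polar Q u v = 0 from ?_)).resolve_left h2
    fin_cases i <;> fin_cases j <;> first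
      | exact absurd rfl hij
      | (simp at h; linear_combination -h)
  have hfr : ∀ i, finrank F (D i) ≤ finrank F (D (1 - i)) := fun i =>
    LinearMap.finrank_le_finrank_of_injective
      (f := (Matrix.toLin' (y : Matrix ι ι F)).restrict (p := D i) (q := D (1 - i))
        (fun v hv => by rw [Matrix.toLin'_apply]; exact hy i v hv))
      (fun u v huv => Subtype.ext (mulVec_injective y (by
        simpa [Subtype.ext_iff] using huv)))
  have hsum : finrank F (D 0) + finrank F (D 1) = Fintype.card ι := by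
    have := Submodule.finrank_sup_add_finrank_inf_eq (D 0) (D 1)
    rw [disjoint_iff.1 hdisj, finrank_bot, add_zero] at this
    rw [← this, show D 0 ⊔ D 1 = ⊤ from eq_top_iff.2 fun v _ => by
      obtain ⟨u, hu, w, hw, rfl⟩ := hsplit v
      exact Submodule.add_mem_sup hu hw, finrank_top, Module.finrank_fintype_fun_eq_card]
  obtain ⟨m, hm⟩ : ∃ m, Fintype.card ι = 2 * m := even_iff_two_dvd.1 heven
  have hd : ∀ i, finrank F (D i) = m := fun i => by
    have h0 := hfr 0
    have h1 := hfr 1
    rw [show (1 : Fin 2) - 0 = 1 by decide] at h0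
    rw [show (1 : Fin 2) - 1 = 0 by decide] at h1
    fin_cases i <;> simp <;> omega
  have hDm : Cfsg.Geo.IsMDecomposition m D := by
    refine ⟨le_rfl, by omega, hd, ?_, ?_⟩
    · refine iSupIndep_def.2 fun i => ?_
      fin_cases i
      · exact hdisj.mono_right (iSup₂_le fun j hj => by fin_cases j <;> simp at hj ⊢)
      · exact hdisj.symm.mono_right (iSup₂_le fun j hj => by fin_cases j <;> simp at hj ⊢)
    · refine eq_top_iff.2 fun v _ => ?_
      obtain ⟨u, hu, w, hw, rfl⟩ := hsplit v
      exact add_mem (Submodule.mem_iSup_of_mem 0 hu) (Submodule.mem_iSup_of_mem 1 hw)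
  have hnd : ∀ i, Cfsg.Geo.IsNondegenerateOn (QuadraticMap.polar Q) (D i) := by
    intro i
    refine nondegenerateOn_polar hQ (eq_bot_iff.2 fun u hu => (Submodule.mem_bot F).2 ?_)
    by_contra hu0
    obtain ⟨-, v, hv⟩ := hQ.nondegenerate u hu0
    obtain ⟨a, ha, b, hb, rfl⟩ := hsplit v
    refine hv ?_
    rw [hB.add_right]
    fin_cases i
    · rw [horth 0 1 (by decide) u hu.1 b hb, hu.2 a ha, add_zero]
    · rw [horth 1 0 (by decide) u hu.1 a ha, hu.2 b hb, add_zero]
  have hiso : ∀ i j, Cfsg.Geo.AreIsometricFor Q (D i) (D j) := by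
    intro i j
    by_cases hij : i = j
    · subst hij; exact ⟨LinearEquiv.refl _ _, fun w => rfl⟩
    have hj : j = 1 - i := by fin_cases i <;> fin_cases j <;> simp_all
    subst hj
    let φ := (Matrix.toLin' (y : Matrix ι ι F)).restrict (p := D i) (q := D (1 - i))
      (fun v hv => by rw [Matrix.toLin'_apply]; exact hy i v hv)
    refine ⟨LinearEquiv.ofInjectiveOfFinrankEq φ (fun u v huv => Subtype.ext (mulVec_injective y
      (by simpa [φ, Subtype.ext_iff] using huv))) (by rw [hd, hd]), fun w => ?_⟩
    show Q (φ w : ι → F) = _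
    simp [φ, mem_isometryGroup.1 (hNQ hyN)]
  refine plus_of_even_blocks hQ ⟨⟨hDm, hnd, horth⟩, hiso⟩ (t := 2) (m := m) even_two (by omega) ?_
  have hme : Even m := by
    rcases k with _ | _ | k
    · rw [pow_zero] at hk; omega
    · rw [pow_one] at hk; omega
    · exact ⟨2 ^ k, by rw [pow_succ, pow_succ] at hk; omega⟩
  rw [hme.neg_one_pow]
  exact IsSquare.one

end CfsgLib.Aschbacher
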