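import Cfsg.Agent.Lib.Aschbacher.OrthEven.Power
import Cfsg.Agent.Lib.Aschbacher.OrthEven.ClassSix
import Cfsg.Agent.Lib.Aschbacher.UnitaryForm
import Cfsg.Agent.Lib.Aschbacher.UnitaryRational

/-!
Aschbacher's theorem for groups of isometries of a quadratic form in even dimension at least six,
any characteristic.
-/

set_option autoImplicit false

namespace CfsgLib.Aschbacher

open Matrix Module

open scoped Kronecker

variable {F : Type*} [Field F] [Fintype F] {ι : Type} [Fintype ι] [DecidableEq ι]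

open Cfsg.Geo in
/-- A totally singular pair of halves permuted by `H`. -/
def HasSingularPair (Q : (ι → F) → F) (H : Subgroup (GL ι F)) : Prop :=
  ∃ (k : ℕ) (D : Fin 2 → Submodule F (ι → F)), 2 * k = Fintype.card ι ∧ IsMDecomposition k D ∧
    (∀ i, IsTotallySingularQuad Q (D i)) ∧ H ≤ decompositionStabilizer D

open Cfsg.Geo in
/-- A stabilised subfield structure carrying a multiple of the form. -/
def HasSubfield (Q : (ι → F) → F) (H : Subgroup (GL ι F)) : Prop :=
  ∃ (F₀ : Subfield F) (r : ℕ) (P : GL ι F) (ζ : F), r.Prime ∧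
    Fintype.card F = Nat.card F₀ ^ r ∧ ζ ≠ 0 ∧
    IsQuadFormRationalStructure (fun v => ζ * Q v) F₀ P ∧ H ≤ subfieldSubgroup F₀ P

open Cfsg.Geo in
/-- A geometric structure over `H` for a quadratic form in even dimension. -/
def InOrthEvenOver (Q : (ι → F) → F) (H : Subgroup (GL ι F)) : Prop :=
  (∃ W : Submodule F (ι → F), W ≠ ⊥ ∧ W ≠ ⊤ ∧ IsTotallySingularQuad Q W ∧
      H ≤ subspaceStabilizer W) ∨
  (∃ W : Submodule F (ι → F), W ≠ ⊥ ∧ W ≠ ⊤ ∧ IsNondegenerateOn (QuadraticMap.polar Q) W ∧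
      2 * finrank F W ≤ Fintype.card ι ∧ H ≤ subspaceStabilizer W) ∨
  ((2 : F) = 0 ∧ ∃ v : ι → F, Q v ≠ 0 ∧ H ≤ subspaceStabilizer (Submodule.span F {v})) ∨
  (∃ (t k : ℕ) (D : Fin t → Submodule F (ι → F)), IsOrthogonalMDecomposition Q k D ∧
      H ≤ decompositionStabilizer D) ∨
  HasSingularPair Q H ∨ HasSelfAdjointField Q H ∨ HasUnitaryField Q H ∨ HasAltTensor Q H ∨
  HasSymTensor Q H ∨
  (∃ k t : ℕ, 2 ≤ k ∧ 2 ≤ t ∧ Fintype.card ι = k ^ t ∧ (k = 2 ∧ t = 3 → IsPlusTypeOn Q ⊤)) ∨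
  ((2 : F) ≠ 0 ∧ (∃ k, Fintype.card ι = 2 ^ k) ∧ IsPlusTypeOn Q ⊤) ∨
  HasSubfield Q H

variable {Q : (ι → F) → F} (hQ : Cfsg.Geo.IsNondegenerateQuadraticForm Q)
  {H : Subgroup (GL ι F)}

namespace InOrthEvenOver

lemma of_decomp {t k : ℕ} {D : Fin t → Submodule F (ι → F)}
    (hD : Cfsg.Geo.IsOrthogonalMDecomposition Q k D)
    (hle : H ≤ Cfsg.Geo.decompositionStabilizer D) : InOrthEvenOver Q H :=
  Or.inr (Or.inr (Or.inr (Or.inl ⟨t, k, D, hD, hle⟩)))

lemma of_pair (h : HasSingularPair Q H) : InOrthEvenOver Q H :=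
  Or.inr (Or.inr (Or.inr (Or.inr (Or.inl h))))

lemma of_selfAdjoint (h : HasSelfAdjointField Q H) : InOrthEvenOver Q H :=
  Or.inr (Or.inr (Or.inr (Or.inr (Or.inr (Or.inl h)))))

lemma of_unitary (h : HasUnitaryField Q H) : InOrthEvenOver Q H :=
  Or.inr (Or.inr (Or.inr (Or.inr (Or.inr (Or.inr (Or.inl h))))))

lemma of_altTensor (h : HasAltTensor Q H) : InOrthEvenOver Q H :=
  Or.inr (Or.inr (Or.inr (Or.inr (Or.inr (Or.inr (Or.inr (Or.inl h)))))))

lemma of_symTensor (h : HasSymTensor Q H) : InOrthEvenOver Q H :=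
  Or.inr (Or.inr (Or.inr (Or.inr (Or.inr (Or.inr (Or.inr (Or.inr (Or.inl h))))))))

lemma of_power (h : ∃ k t : ℕ, 2 ≤ k ∧ 2 ≤ t ∧ Fintype.card ι = k ^ t ∧
    (k = 2 ∧ t = 3 → Cfsg.Geo.IsPlusTypeOn Q ⊤)) : InOrthEvenOver Q H :=
  Or.inr (Or.inr (Or.inr (Or.inr (Or.inr (Or.inr (Or.inr (Or.inr (Or.inr (Or.inl h)))))))))

lemma of_classSix (h : (2 : F) ≠ 0 ∧ (∃ k, Fintype.card ι = 2 ^ k) ∧
    Cfsg.Geo.IsPlusTypeOn Q ⊤) : InOrthEvenOver Q H :=
  Or.inr (Or.inr (Or.inr (Or.inr (Or.inr (Or.inr (Or.inr (Or.inr (Or.inr (Or.inr (Or.inl h))))))))))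

lemma of_subfield (h : HasSubfield Q H) : InOrthEvenOver Q H :=
  Or.inr (Or.inr (Or.inr (Or.inr (Or.inr (Or.inr (Or.inr (Or.inr (Or.inr (Or.inr (Or.inr h))))))))))

end InOrthEvenOver

include hQ in
/-- A normalised subgroup gives a class, consists of scalars or is absolutely irreducible. -/
theorem even_trichotomy (hn : 6 ≤ Fintype.card ι) (hH : H ≤ Cfsg.isometryGroup F Q)
    (hirr : Irr H) {A : Subgroup (GL ι F)} (hAH : A ≤ H)
    (hnA : ∀ g ∈ H, ∀ a ∈ A, g * a * g⁻¹ ∈ A) :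
    InOrthEvenOver Q H ∨ A ≤ Cfsg.Geo.scalars ι F ∨ AbsIrr A := by
  classical
  have : Nonempty ι := Fintype.card_pos_iff.1 (by omega)
  have hf := isRefl_polarForm hQ
  have hfix := fixesPolar_of_le hH
  have hA := fixesForm_mono hAH hfix
  rcases form_components hf hirr hfix hAH hnA with ⟨t, k, D, hD, hle⟩ | ⟨k, D, hk, hD, hts, hle⟩ |
    hfa
  · exact Or.inl (.of_decomp (isometric_of_irr hD hH hirr hle) hle)
  · exact Or.inl (.of_pair ⟨k, D, hk, hD,
      pair_totallySingular hQ hH hirr (by omega) hD hts hle, hle⟩)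
  have hfield : ∀ {e : ℕ} {K : Subalgebra F (Matrix ι ι F)}, Cfsg.Geo.IsFieldSubalgebra e K →
      1 < e → (∀ k ∈ K, hf.adj k ∈ K) → H ≤ Cfsg.Geo.subalgebraNormalizer K →
      InOrthEvenOver Q H := by
    intro e K hK he hadj hle
    rcases field_classes hQ (by omega) hH hirr hK he hadj hle with h | h
    · exact .of_selfAdjoint h
    · exact .of_unitary h
  obtain ⟨S, -, hS⟩ := exists_minInv (inv_top A) (top_ne_bot (α := Submodule F (ι → F)))
  by_cases htop : S = ⊤
  · have hAirr : Irr A := irr_iff.2 fun W hW => by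
      rcases hS.min W (htop ▸ le_top) hW with h | h
      · exact Or.inl h
      · exact Or.inr (h.trans htop)
    have hK := commutant_isField hAirr
    by_cases h1 : 1 < finrank F (commutant A)
    · exact Or.inl (hfield hK h1 (fun k hk => hf.adj_mem_commutant hA hk)
        (le_normalizer_commutant hnA))
    · right; right
      refine absIrr_of_commutant hAirr fun M hM => ?_
      have : Nontrivial ↥(commutant A) :=
        ⟨⟨0, 1, fun h => zero_ne_one (congrArg (fun x : ↥(commutant A) =>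
          (x : Matrix ι ι F)) h)⟩⟩
      have h2 : finrank F (commutant A) = 1 := by
        have : 0 < finrank F (commutant A) := Module.finrank_pos
        omega
      obtain ⟨c, hc⟩ := (finrank_eq_one_iff_of_nonzero' (1 : ↥(commutant A))
        one_ne_zero).1 h2 ⟨M, hM⟩
      exact ⟨c, (congrArg Subtype.val hc).symm⟩
  · have hfS := hfa S hS
    have hK := centre_isField hS hfS
    by_cases h1 : 1 < finrank F ↥(envAlg A ⊓ commutant A)
    · exact Or.inl (hfield hK h1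
        (fun k hk => ⟨mem_envAlg.2 (hf.adj_mem_envelope hA (mem_envAlg.1 hk.1)),
          hf.adj_mem_commutant hA hk.2⟩) (centre_normalised hnA))
    have hcen : ∀ M ∈ envelope A, M ∈ commutant A →
        ∃ c : F, M = c • (1 : Matrix ι ι F) := by
      intro M hM hMc
      have : Nontrivial ↥(envAlg A ⊓ commutant A) :=
        ⟨⟨0, 1, fun h => zero_ne_one (congrArg (fun x : ↥(envAlg A ⊓ commutant A) =>
          (x : Matrix ι ι F)) h)⟩⟩
      have h2 : finrank F ↥(envAlg A ⊓ commutant A) = 1 := by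
        have : 0 < finrank F ↥(envAlg A ⊓ commutant A) := Module.finrank_pos
        omega
      obtain ⟨c, hc⟩ := (finrank_eq_one_iff_of_nonzero' (1 : ↥(envAlg A ⊓ commutant A))
        one_ne_zero).1 h2 ⟨M, hM, hMc⟩
      exact ⟨c, (congrArg Subtype.val hc).symm⟩
    obtain ⟨E, hE, hEmem, hEspan⟩ := exists_units_of_faithful hS hfS hcen
    rcases Nat.lt_or_ge (finrank F S) 2 with ha | ha
    · right; left
      have hpos : 0 < finrank F S := Nat.pos_of_ne_zero fun h =>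
        hS.ne_bot (Submodule.finrank_eq_zero.1 h)
      refine le_scalars_of_commutant fun a haA => ?_
      obtain ⟨c, hc⟩ := (Submodule.mem_span_range_iff_exists_fun F).1 (hEspan (mem_envelope haA))
      have : Subsingleton (Fin (finrank F S)) := Fin.subsingleton_iff_le_one.2 (by omega)
      let i₀ : Fin (finrank F S) := ⟨0, hpos⟩
      have h00 : E i₀ i₀ = 1 := by
        rw [← hE.sum]
        rw [Finset.sum_eq_single i₀ (fun b _ hb => absurd (Subsingleton.elim b i₀) hb) (by simp)]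
      refine ⟨∑ p, c p, ?_⟩
      rw [← hc, Finset.sum_smul]
      refine Finset.sum_congr rfl fun p _ => ?_
      rw [Subsingleton.elim p.1 i₀, Subsingleton.elim p.2 i₀, h00]
    · left
      have han : finrank F S < Fintype.card ι := by
        have := Submodule.finrank_lt htop
        rwa [Module.finrank_fintype_fun_eq_card] at this
      rcases tensor_classes hQ hn hH hirr ha han hE
        (fun k l => hEspan (hf.adj_mem_envelope hA (hEmem k l)))
        (fun g hg k l => hEspan (conj_mem_envelope hnA hg (hEmem k l))) with h | h | h | h | h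
      · exact .of_altTensor h
      · exact .of_symTensor h
      · exact .of_selfAdjoint h
      · exact .of_unitary h
      · exact .of_pair h

include hQ in
/-- A normalised absolutely irreducible group of isometries realised over a subfield. -/
theorem even_subfield (hn : 2 ≤ Fintype.card ι) (hH : H ≤ Cfsg.isometryGroup F Q)
    {P : Subgroup (GL ι F)} (hP : AbsIrr P) (hPH : P ≤ H)
    (hPn : ∀ g ∈ H, ∀ a ∈ P, g * a * g⁻¹ ∈ P) {F₀ : Subfield F} (hF₀ : F₀ ≠ ⊤)
    (hreal : Cfsg.Geo.RealisableOver F₀ (Cfsg.Geo.matrixSet P)) : HasSubfield Q H := by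
  classical
  have : Nonempty ι := Fintype.card_pos_iff.1 (by omega)
  have hf := isRefl_polarForm hQ
  have hPQ : P ≤ Cfsg.isometryGroup F Q := hPH.trans hH
  obtain ⟨F₁, r, hle', hr, hc⟩ := exists_subfield_prime hF₀
  obtain ⟨B, hB⟩ := realisableOver_mono hle' hreal
  set C : Matrix ι ι F := ((B⁻¹ : GL ι F) : Matrix ι ι F) with hC
  set f' := pullForm (Equiv.refl _) (B⁻¹ : GL ι F) (QuadraticMap.polar Q) with hf'
  have hr' : IsRefl (RingEquiv.refl F) (1 : F) f' := hf.pull _ _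
  set G := Cfsg.Geo.gramMatrix f' with hG
  obtain ⟨i, j, hij⟩ : ∃ i j, G i j ≠ 0 := by
    by_contra h
    push Not at h
    exact (hr'.sesq.gram_isUnit hr'.nondeg).ne_zero (Matrix.ext h)
  obtain ⟨π, hπ⟩ : ∃ π : F →ₗ[F₁] F₁, π (G i j) ≠ 0 := by
    by_contra h
    push Not at h
    exact hij ((Module.forall_dual_apply_eq_zero_iff F₁ _).1 h)
  set G₀ : Matrix ι ι F := fun a b => (π (G a b) : F) with hG₀
  have hinv : ∀ s ∈ Cfsg.Geo.matrixSet P,
      ((B : Matrix ι ι F) * s * C)ᵀ * G₀ * ((B : Matrix ι ι F) * s * C) = G₀ := by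
    intro s hs
    obtain ⟨g, hg, rfl⟩ := hs
    set X := (B : Matrix ι ι F) * (g : Matrix ι ι F) * C with hX
    have hXe : ∀ a b, X a b ∈ F₁ := hB _ ⟨g, hg, rfl⟩
    have h1 : Xᵀ * G * X = G := by
      have := hr'.sesq.gram_comp X
      rw [show X.map (RingEquiv.refl F : F ≃+* F) = X from Matrix.map_id X] at this
      rw [hG, ← this]
      ext p q
      refine pullForm_isometry _ _ (g := g) ?_ (isometry_apply (fixesPolar_of_le hPQ) hg) _ _
      rw [frAlg_apply, hX]
      simp [mul_assoc, hC]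
    ext a b
    have h2 := congrArg (fun M : Matrix ι ι F => (π (M a b) : F)) h1
    simp only [Matrix.mul_apply, Matrix.transpose_apply, map_sum, Finset.sum_mul,
      AddSubmonoidClass.coe_finsetSum] at h2
    simp only [Matrix.mul_apply, Matrix.transpose_apply, Finset.sum_mul]
    refine Eq.trans ?_ h2
    refine Finset.sum_congr rfl fun c _ => Finset.sum_congr rfl fun d _ => ?_
    have h3 : X d a * G d c * X c b = (⟨X d a, hXe d a⟩ * ⟨X c b, hXe c b⟩ : F₁) • G d c := by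
      show _ = ((X d a * X c b : F)) * G d c
      ring
    rw [h3, map_smul, hG₀]
    simp only [smul_eq_mul, Subfield.coe_mul]
    ring
  let f₀ : (ι → F) → (ι → F) → F := fun u v =>
    Cfsg.Geo.formOfGram id G₀ ((B : Matrix ι ι F) *ᵥ u) ((B : Matrix ι ι F) *ᵥ v)
  have hs₀ : IsSesq (RingEquiv.refl F) f₀ :=
    ⟨fun x y v => by simp [f₀, formOfGram_eq, Matrix.mulVec_add, add_dotProduct],
      fun c x v => by simp [f₀, formOfGram_eq, Matrix.mulVec_smul, smul_dotProduct],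
      fun v x y => by simp [f₀, formOfGram_eq, Matrix.mulVec_add, dotProduct_add],
      fun c v x => by simp [f₀, formOfGram_eq, Matrix.mulVec_smul]⟩
  have hBs : ∀ (s : Matrix ι ι F) w, (B : Matrix ι ι F) *ᵥ (s *ᵥ w) =
      ((B : Matrix ι ι F) * s * C) *ᵥ ((B : Matrix ι ι F) *ᵥ w) := fun s w => by
    simp only [hC, Matrix.mulVec_mulVec, mul_assoc, Units.inv_mul, mul_one]
  have hfix₀ : Cfsg.Geo.FixesForm (Cfsg.Geo.matrixSet P) f₀ := by
    intro s hs u v
    have key : ∀ (X : Matrix ι ι F) (x y : ι → F),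
        (X *ᵥ x) ⬝ᵥ (G₀ *ᵥ (X *ᵥ y)) = x ⬝ᵥ ((Xᵀ * G₀ * X) *ᵥ y) := by
      intro X x y
      rw [← Matrix.mulVec_mulVec, ← Matrix.mulVec_mulVec, Matrix.dotProduct_mulVec x Xᵀ,
        Matrix.vecMul_transpose]
    simp only [f₀, formOfGram_eq, Function.id_comp, hBs]
    rw [key, hinv s hs]
  obtain ⟨c, hcf⟩ := exists_eq_smul hP hf.sesq hs₀ hf.nondeg (fixesPolar_of_le hPQ) hfix₀
  have hcG : ∀ a b, G₀ a b = c * G a b := by
    intro a b
    have h := hcf (C *ᵥ Pi.single a 1) (C *ᵥ Pi.single b 1)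
    simp only [f₀, hC, mulVec_inv_cancel] at h
    exact ((congrFun (congrFun (gramMatrix_formOfGram (σ := RingEquiv.refl F) G₀) a) b).symm.trans h)
  have hc0 : c ≠ 0 := by
    intro h0
    have := hcG i j
    rw [h0, zero_mul] at this
    exact hπ (Subtype.ext this)
  refine ⟨F₁, r, B⁻¹, c, hr, hc, hc0, ?_, le_subfieldSubgroup_of_entries hPn (envelope_eq_top hP) hB⟩
  obtain ⟨τ, -, hτfix⟩ := exists_frobenius_subfield F₁
  -- the twisted form agrees with the given one
  have hpolc : ∀ x y, τ (c * f' (τ.symm ∘ x) (τ.symm ∘ y)) = c * f' x y := by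
    intro x y
    rw [hr'.sesq.eq_formOfGram, hr'.sesq.eq_formOfGram]
    simp only [Cfsg.Geo.formOfGram, Finset.mul_sum, map_sum, Function.comp_apply,
      RingEquiv.refl_apply]
    refine Finset.sum_congr rfl fun a _ => Finset.sum_congr rfl fun b _ => ?_
    have hfixed : τ (c * G a b) = c * G a b := (hτfix _).2 (by rw [← hcG]; exact (π (G a b)).2)
    rw [show c * (τ.symm (x a) * Cfsg.Geo.gramMatrix f' a b * τ.symm (y b)) =
      τ.symm (x a) * (c * G a b) * τ.symm (y b) by rw [hG]; ring, map_mul, map_mul, hfixed,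
      τ.apply_symm_apply, τ.apply_symm_apply, hG]
    ring
  let D : (ι → F) → F := fun v =>
    τ (c * Q (C *ᵥ (τ.symm ∘ ((B : Matrix ι ι F) *ᵥ v)))) - c * Q v
  have hD : ∀ v, D v = 0 := by
    refine additive_square_eq_zero hn hP.1 D (fun u v => ?_) (fun a v => ?_) fun g hg v => ?_
    · simp only [D]
      have h1 : τ.symm ∘ ((B : Matrix ι ι F) *ᵥ (u + v)) =
          τ.symm ∘ ((B : Matrix ι ι F) *ᵥ u) + τ.symm ∘ ((B : Matrix ι ι F) *ᵥ v) := by
        funext l; simp [Matrix.mulVec_add]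
      have h3 : QuadraticMap.polar Q (C *ᵥ (τ.symm ∘ ((B : Matrix ι ι F) *ᵥ u)))
          (C *ᵥ (τ.symm ∘ ((B : Matrix ι ι F) *ᵥ v))) =
          f' (τ.symm ∘ ((B : Matrix ι ι F) *ᵥ u)) (τ.symm ∘ ((B : Matrix ι ι F) *ᵥ v)) := rfl
      have h4 : f' ((B : Matrix ι ι F) *ᵥ u) ((B : Matrix ι ι F) *ᵥ v) =
          QuadraticMap.polar Q u v := by
        show QuadraticMap.polar Q _ _ = _
        simp [inv_mulVec_cancel]
      rw [h1, Matrix.mulVec_add, quad_add hQ, quad_add hQ, h3, mul_add, mul_add, map_add, map_add,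
        hpolc, h4]
      ring
    · simp only [D]
      have h1 : τ.symm ∘ ((B : Matrix ι ι F) *ᵥ (a • v)) =
          τ.symm a • (τ.symm ∘ ((B : Matrix ι ι F) *ᵥ v)) := by
        funext l; simp [Matrix.mulVec_smul]
      rw [h1, Matrix.mulVec_smul, hQ.smul, hQ.smul]
      simp only [map_mul, map_pow, τ.apply_symm_apply]
      ring
    · simp only [D]
      set t := (B : Matrix ι ι F) * (g : Matrix ι ι F) * C with ht
      have h1 : τ.symm ∘ ((B : Matrix ι ι F) *ᵥ ((g : Matrix ι ι F) *ᵥ v)) =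
          t *ᵥ (τ.symm ∘ ((B : Matrix ι ι F) *ᵥ v)) := by
        rw [hBs, comp_mulVec, ← ht]
        congr 1
        ext p q
        exact τ.symm_apply_eq.2 ((hτfix _).2 (hB _ ⟨g, hg, rfl⟩ p q)).symm
      have hCt : ∀ w, C *ᵥ (t *ᵥ w) = (g : Matrix ι ι F) *ᵥ (C *ᵥ w) := fun w => by
        simp only [ht, hC, Matrix.mulVec_mulVec, ← mul_assoc, Units.inv_mul, one_mul]
      rw [h1, hCt, mem_isometryGroup.1 (hPQ hg), mem_isometryGroup.1 (hPQ hg)]
  intro u hu
  show c * Q (C *ᵥ u) ∈ F₁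
  have h := hD (C *ᵥ u)
  simp only [D] at h
  rw [show (B : Matrix ι ι F) *ᵥ (C *ᵥ u) = u from mulVec_inv_cancel B u,
    show τ.symm ∘ u = u from funext fun l => τ.symm_apply_eq.2 ((hτfix _).2 (hu l)).symm,
    sub_eq_zero] at h
  exact (hτfix _).1 h

include hQ in
/-- Commuting conjugates give a tensor power. -/
theorem even_factors (hH : H ≤ Cfsg.isometryGroup F Q) (hirr : Irr H) {N Qs : Subgroup (GL ι F)}
    (hN : AbsIrr N) (hNH : N ≤ H) (hnorm : ∀ g ∈ H, ∀ a ∈ N, g * a * g⁻¹ ∈ N)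
    (hQs : ¬ Qs ≤ Cfsg.Geo.scalars ι F) (hQN : Qs ≤ N)
    (hne : ∃ c ∈ H, Qs.map (MulAut.conj c).toMonoidHom ≠ Qs)
    (hcomm : ∀ c ∈ H, ∀ d ∈ H,
      Qs.map (MulAut.conj c).toMonoidHom ≠ Qs.map (MulAut.conj d).toMonoidHom →
        ∀ x ∈ Qs.map (MulAut.conj c).toMonoidHom, ∀ y ∈ Qs.map (MulAut.conj d).toMonoidHom,
          x * y = y * x)
    (hgen : N ≤ Subgroup.closure
      (⋃ c ∈ H, (Qs.map (MulAut.conj c).toMonoidHom : Set (GL ι F))) ⊔ Cfsg.Geo.scalars ι F)
    [Nonempty ι] :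
    ∃ k t : ℕ, 2 ≤ k ∧ 2 ≤ t ∧ Fintype.card ι = k ^ t ∧
      (k = 2 ∧ t = 3 → Cfsg.Geo.IsPlusTypeOn Q ⊤) := by
  classical
  have hf := isRefl_polarForm hQ
  have hfix := fixesPolar_of_le hH
  obtain ⟨t, m, E, X, ht, hm, hE, hc, hscal, hX, hmem, hspan, hperm, htrans⟩ :=
    exists_family_of_factors hN hQs hne hcomm hgen
  obtain ⟨e, P, hEfac, hfr⟩ := exists_frame_of_family (by omega) (by omega) hE hc hscal
  refine ⟨m, t, hm, ht, by rw [Fintype.card_congr e]; simp, ?_⟩
  rintro ⟨rfl, rfl⟩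
  have hXH : ∀ i, X i ≤ H := by
    intro i
    obtain ⟨c, hcH, hXc⟩ := hX i
    rw [hXc]
    rintro _ ⟨x, hx, rfl⟩
    exact hNH (hnorm c hcH x (hQN hx))
  obtain ⟨P', G, α, c₀, hc₀, hGu, hαt, hGt, hpull, -, helem⟩ :=
    power_frame_form hf hEfac hfr (fun i k l => hspan i
      (hf.adj_mem_envelope (fixesForm_mono (hXH i) hfix) (hmem i k l))) hfix
      (fun g hg => (hperm g hg).imp fun σ hσ i k l => hspan _ (hσ i k l))
      (fun j => by
        obtain ⟨g, hg, hgj⟩ := htrans 0 j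
        obtain ⟨σ, hσ⟩ := hperm g hg
        refine ⟨g, hg, σ, ?_, fun i k l => hspan _ (hσ i k l)⟩
        by_contra hne'
        let a : Fin 2 := 0
        let b : Fin 2 := 1
        have hab : a ≠ b := by simp [a, b]
        have h1 := hspan _ (hσ 0 a b)
        have h2 := hspan _ (hgj b a)
        obtain ⟨c1, hc1⟩ := (Submodule.mem_span_range_iff_exists_fun F).1 h1
        obtain ⟨c2, hc2⟩ := (Submodule.mem_span_range_iff_exists_fun F).1 h2
        have hcc : Commute (∑ p, c1 p • E (σ 0) p.1 p.2) (∑ p, c2 p • E j p.1 p.2) :=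
          Commute.sum_left _ _ _ fun p _ => Commute.sum_right _ _ _ fun r _ =>
            ((hc _ _ hne' _ _ _ _).smul_left _).smul_right _
        rw [hc1, hc2] at hcc
        have h3 : E 0 a b * E 0 b a = E 0 b a * E 0 a b := by
          have h4 := congrArg (fun M => ((g⁻¹ : GL ι F) : Matrix ι ι F) * M * (g : Matrix ι ι F))
            hcc.eq
          simpa [mul_assoc] using h4
        rw [(hE 0).mul_same, (hE 0).mul_same] at h3
        have h5 := congrArg (fun M => E 0 a a * M) h3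
        simp only [(hE 0).mul_same, (hE 0).mul_ne hab] at h5
        have h6 := congrArg (fun M => E 0 b a * M * E 0 a b) h5
        simp only [(hE 0).mul_same, mul_zero, zero_mul] at h6
        have h7 : ∀ k, E 0 k k = 0 := fun k => by
          rw [← (hE 0).mul_same k b k, ← (hE 0).mul_same k b b, h6, mul_zero, zero_mul]
        refine one_ne_zero (show (1 : Matrix ι ι F) = 0 from ?_)
        rw [← (hE 0).sum]
        exact Finset.sum_eq_zero fun k _ => h7 k)
  have hα2 : α * α = 1 := by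
    have h := congrArg Matrix.transpose hGt
    rw [Matrix.transpose_transpose, Matrix.transpose_smul, hGt, smul_smul] at h
    exact (smul_cancel_matrix hGu.ne_zero (h.symm.trans (one_smul F G).symm))
  obtain rfl : α = 1 := by
    rw [pow_succ, sq, hα2, one_mul] at hαt
    exact hαt
  rw [one_smul] at hGt
  exact plus_of_cube hQ hH hirr hc₀ hGt hpull helem

include hQ in
/-- **Aschbacher's theorem** for quadratic forms in even dimension at least six. -/
theorem orth_even_aschbacher (hn : 6 ≤ Fintype.card ι) (heven : Even (Fintype.card ι))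
    (hH : H ≤ Cfsg.isometryGroup F Q) :
    InOrthEvenOver Q H ∨ Cfsg.Geo.InOrthogonalResidualClass H := by
  classical
  have : Nonempty ι := Fintype.card_pos_iff.1 (by omega)
  have hcard : 1 < Fintype.card ι := by omega
  by_cases hirr : Irr H
  swap
  · left
    rcases reducible_even hQ hH hirr with h | h | h
    · exact Or.inl h
    · exact Or.inr (Or.inl h)
    · exact Or.inr (Or.inr (Or.inl h))
  obtain ⟨N, ⟨hNH, hNn, hNZ, hNs⟩, hNmin⟩ := (Set.toFinite {N : Subgroup (GL ι F) |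
    N ≤ H ∧ (∀ g ∈ H, ∀ a ∈ N, g * a * g⁻¹ ∈ N) ∧ H ⊓ Cfsg.Geo.scalars ι F ≤ N ∧
      ¬ N ≤ Cfsg.Geo.scalars ι F}).exists_minimal
    ⟨H, le_rfl, fun g hg a ha => H.mul_mem (H.mul_mem hg ha) (H.inv_mem hg), inf_le_left,
      not_le_scalars_of_irr hcard hirr⟩
  have hmin : ∀ M ≤ N, (∀ g ∈ H, ∀ a ∈ M, g * a * g⁻¹ ∈ M) →
      (∀ z ∈ N, z ∈ Cfsg.Geo.scalars ι F → z ∈ M) →
      M ≤ Cfsg.Geo.scalars ι F ∨ M = N := by
    intro M hMN hMn hMZ
    by_cases hMs : M ≤ Cfsg.Geo.scalars ι F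
    · exact Or.inl hMs
    · exact Or.inr (le_antisymm hMN (hNmin ⟨hMN.trans hNH, hMn,
        fun z hz => hMZ z (hNZ hz) hz.2, hMs⟩ hMN))
  rcases even_trichotomy hQ hn hH hirr hNH hNn with h | hs | hNabs
  · exact Or.inl h
  · exact absurd hs hNs
  by_cases h2 : ∀ a ∈ N, ∀ b ∈ N, a * b * a⁻¹ * b⁻¹ ∈ Cfsg.Geo.scalars ι F
  · exact Or.inl (.of_classSix (class_six_even hQ (by omega) heven hNabs (hNH.trans hH) h2))
  rcases core_or_factors hNabs hNH hNn hmin h2 with
    ⟨hPabs, hPperf, hPn, hPsimp, hPna⟩ | ⟨Qs, hQs, -, hQN, hne, hcomm, hgen⟩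
  swap
  · exact Or.inl (.of_power (even_factors hQ hH hirr hNabs hNH hNn hQs hQN hne hcomm hgen))
  have hPH : ⁅N, N⁆ ≤ H := (Subgroup.commutator_le.2 fun a ha b hb =>
      N.mul_mem (N.mul_mem (N.mul_mem ha hb) (N.inv_mem ha)) (N.inv_mem hb)).trans hNH
  by_cases hreal : ∃ F₀ : Subfield F, F₀ ≠ ⊤ ∧
      Cfsg.Geo.RealisableOver F₀ (Cfsg.Geo.matrixSet ⁅N, N⁆)
  · obtain ⟨F₀, hF₀, hreal⟩ := hreal
    exact Or.inl (.of_subfield (even_subfield hQ (by omega) hH hPabs hPH hPn hF₀ hreal))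
  refine Or.inr ⟨⁅N, N⁆, ⟨hPH, hPn, hPperf, hPsimp, hPna, ?_, hPabs, ?_⟩, ?_⟩
  · intro h _ hc
    exact hPabs.mem_scalars (commutator_mem_scalars_comm hPperf hc)
  · exact fun F₀ hF₀ hr => hreal ⟨F₀, hF₀, hr⟩
  · rintro ⟨σ, f, hf, hfix⟩
    obtain ⟨q, hq, hσ⟩ := exists_sq_of_involutive' hf.ne_refl hf.involutive
    exact hreal (realisableOver_of_two_forms hq hσ hf hPabs hfix hQ.polar_bilinear
      hQ.nondegenerate (fixesPolar_of_le (hPH.trans hH)))

end CfsgLib.Aschbacher
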