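import Cfsg.Agent.Lib.Aschbacher.OrthEven.General

/-!
A self-adjoint field of odd degree over which the space is a plane: the normalising group preserves
a quadratic field of similarities or a pair of totally singular halves.
-/

set_option autoImplicit false

namespace CfsgLib.Aschbacher.OrthEven

open Matrix Module

open scoped IntermediateField

variable {F : Type*} [Field F] {ι : Type} [Fintype ι] [DecidableEq ι] {Q : (ι → F) → F}
  (hQ : Cfsg.Geo.IsNondegenerateQuadraticForm Q)

include hQ in
/-- An operator with a quadratic equation whose norm is the form. -/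
theorem operator_classes [Fintype F] [Nonempty ι] {H : Subgroup (GL ι F)}
    {J : Matrix ι ι F} {s c : F} (hJ2 : J * J = s • J + c • 1)
    (hne : ∀ a : F, J ≠ a • 1) (hsep : ∀ μ : F, μ * μ = s * μ + c → 2 * μ ≠ s)
    (hfJ : ∀ v w, QuadraticMap.polar Q (J *ᵥ v) w + QuadraticMap.polar Q v (J *ᵥ w) =
      s * QuadraticMap.polar Q v w)
    (hvJ : ∀ v, QuadraticMap.polar Q v (J *ᵥ v) = s * Q v)
    (hQJ : ∀ v, Q (J *ᵥ v) = -c * Q v)
    (hnorm : ∀ g ∈ H, (g : Matrix ι ι F) * J * ((g⁻¹ : GL ι F) : Matrix ι ι F) = J ∨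
      (g : Matrix ι ι F) * J * ((g⁻¹ : GL ι F) : Matrix ι ι F) = s • 1 - J) :
    HasUnitaryField Q H ∨ HasSingularPair Q H := by
  classical
  have hB := hQ.polar_bilinear
  have hind : ∀ a b : F, a • (1 : Matrix ι ι F) + b • J = 0 → a = 0 ∧ b = 0 := by
    intro a b h
    by_cases hb : b = 0
    · rw [hb, zero_smul, add_zero] at h
      exact ⟨(smul_eq_zero.1 h).resolve_right one_ne_zero, hb⟩
    · refine absurd ?_ (hne (-(a / b)))
      have h1 : b • J = (-a) • (1 : Matrix ι ι F) := by
        rw [neg_smul]; exact eq_neg_of_add_eq_zero_right h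
      calc J = b⁻¹ • (b • J) := by rw [smul_smul, inv_mul_cancel₀ hb, one_smul]
        _ = _ := by rw [h1, smul_smul]; congr 1; field_simp
  by_cases hroot : ∃ μ : F, μ * μ = s * μ + c
  · right
    obtain ⟨μ, hμ⟩ := hroot
    let m : Fin 2 → F := ![μ, s - μ]
    have hm : ∀ i, m i * m i = s * m i + c := fun i => by
      fin_cases i <;> simp [m] <;> linear_combination hμ
    have hdiff : μ - (s - μ) ≠ 0 := fun h => hsep μ hμ (by linear_combination h)
    let D : Fin 2 → Submodule F (ι → F) := fun i => LinearMap.ker (Matrix.toLin' (J - m i • 1))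
    have hmem : ∀ i v, v ∈ D i ↔ J *ᵥ v = m i • v := by
      intro i v
      simp only [D, LinearMap.mem_ker, Matrix.toLin'_apply, Matrix.sub_mulVec, Matrix.smul_mulVec,
        Matrix.one_mulVec, sub_eq_zero]
    have hts : ∀ i, Cfsg.Geo.IsTotallySingularQuad Q (D i) := by
      intro i v hv
      have h := hvJ v
      rw [(hmem i v).1 hv, hB.smul_right, polar_self hQ] at h
      refine (mul_eq_zero.1 (show (2 * m i - s) * Q v = 0 by linear_combination h)).resolve_left ?_
      exact sub_ne_zero.2 (hsep _ (hm i))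
    have hJv : ∀ v, J *ᵥ (J *ᵥ v) = s • (J *ᵥ v) + c • v := fun v => by
      rw [Matrix.mulVec_mulVec, hJ2, Matrix.add_mulVec, Matrix.smul_mulVec, Matrix.smul_mulVec,
        Matrix.one_mulVec]
    have hsup : D 0 ⊔ D 1 = ⊤ := by
      refine eq_top_iff.2 fun v _ => Submodule.mem_sup.2
        ⟨(μ - (s - μ))⁻¹ • (J *ᵥ v - (s - μ) • v), (hmem 0 _).2 ?_,
          (μ - (s - μ))⁻¹ • (μ • v - J *ᵥ v), (hmem 1 _).2 ?_, ?_⟩
      · simp only [m, Matrix.cons_val_zero, Matrix.mulVec_smul, Matrix.mulVec_sub, hJv]
        match_scalars <;> first | ring1 | linear_combination (-(μ - (s - μ))⁻¹) * hμ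
      · simp only [m, Matrix.cons_val_one, Matrix.cons_val_zero, Matrix.mulVec_smul,
          Matrix.mulVec_sub, hJv]
        match_scalars <;> first | ring1 | linear_combination ((μ - (s - μ))⁻¹) * hμ
      · rw [← smul_add, show J *ᵥ v - (s - μ) • v + (μ • v - J *ᵥ v) = (μ - (s - μ)) • v by
          module, smul_smul, inv_mul_cancel₀ hdiff, one_smul]
    have hdisj : Disjoint (D 0) (D 1) := by
      rw [Submodule.disjoint_def]
      intro v h0 h1
      have h : μ • v = (s - μ) • v := ((hmem 0 v).1 h0).symm.trans ((hmem 1 v).1 h1)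
      rw [← sub_eq_zero, ← sub_smul] at h
      exact (smul_eq_zero.1 h).resolve_left hdiff
    have hsum : finrank F (D 0) + finrank F (D 1) = Fintype.card ι := by
      rw [Submodule.finrank_add_eq_of_isCompl (IsCompl.of_eq (disjoint_iff.1 hdisj) hsup),
        Module.finrank_fintype_fun_eq_card]
    have hf := isRefl_polarForm hQ
    have hfr : ∀ i, 2 * finrank F (D i) ≤ Fintype.card ι := by
      intro i
      have h1 := hf.finrank_perp (D i)
      have h3 : finrank F (D i) ≤ finrank F (perp hf.sesq (D i)) :=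
        Submodule.finrank_mono fun v hv w hw => by
          show QuadraticMap.polar Q v w = 0
          simp only [QuadraticMap.polar, hts i v hv, hts i w hw, hts i _ (add_mem hv hw), sub_self]
      omega
    have h00 := hfr 0
    have h11 := hfr 1
    have hpos : 0 < Fintype.card ι := Fintype.card_pos
    refine ⟨finrank F (D 0), D, by omega, ⟨le_rfl, by omega, fun i => ?_, ?_, ?_⟩, hts, ?_⟩
    · fin_cases i
      · rfl
      · show finrank F (D 1) = _
        omega
    · refine iSupIndep_def.2 fun i => ?_
      fin_cases i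
      · refine hdisj.mono_right (iSup₂_le fun j hj => ?_)
        fin_cases j <;> simp at hj ⊢
      · refine hdisj.symm.mono_right (iSup₂_le fun j hj => ?_)
        fin_cases j <;> simp at hj ⊢
    · exact eq_top_iff.2 (hsup ▸ sup_le (le_iSup D 0) (le_iSup D 1))
    · intro g hg
      -- the conjugate of an eigenspace
      have key : ∀ (J' : Matrix ι ι F), (g : Matrix ι ι F) * J * ((g⁻¹ : GL ι F) : Matrix ι ι F) = J' →
          ∀ i w, w ∈ D i → J' *ᵥ ((g : Matrix ι ι F) *ᵥ w) = m i • ((g : Matrix ι ι F) *ᵥ w) := by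
        intro J' hJ' i w hw
        rw [← hJ', ← Matrix.mulVec_mulVec, inv_mulVec_cancel, ← Matrix.mulVec_mulVec,
          (hmem i w).1 hw, Matrix.mulVec_smul]
      have hdec : Cfsg.Geo.IsMDecomposition (finrank F (D 0)) D := by
        refine ⟨le_rfl, by omega, fun i => ?_, ?_, ?_⟩
        · fin_cases i
          · rfl
          · show finrank F (D 1) = _
            omega
        · refine iSupIndep_def.2 fun i => ?_
          fin_cases i
          · refine hdisj.mono_right (iSup₂_le fun j hj => ?_)
            fin_cases j <;> simp at hj ⊢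
          · refine hdisj.symm.mono_right (iSup₂_le fun j hj => ?_)
            fin_cases j <;> simp at hj ⊢
        · exact eq_top_iff.2 (hsup ▸ sup_le (le_iSup D 0) (le_iSup D 1))
      rcases hnorm g hg with h | h
      · exact CfsgLib.MaxSub.Decomp.mem_stab_of hdec fun i => ⟨i, fun w hw =>
          (hmem i _).2 (key _ h i w hw)⟩
      · refine CfsgLib.MaxSub.Decomp.mem_stab_of hdec fun i => ⟨![1, 0] i, fun w hw => ?_⟩
        refine (hmem _ _).2 ?_
        have h' := key _ h i w hw
        rw [Matrix.sub_mulVec, Matrix.smul_mulVec, Matrix.one_mulVec, sub_eq_iff_eq_add] at h'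
        have h'' : J *ᵥ ((g : Matrix ι ι F) *ᵥ w) = (s - m i) • ((g : Matrix ι ι F) *ᵥ w) := by
          rw [sub_smul]; exact eq_sub_of_add_eq' h'.symm
        rw [h'']
        congr 1
        fin_cases i <;> simp [m]
  left
  push Not at hroot
  let K : Subalgebra F (Matrix ι ι F) :=
    { carrier := {M | ∃ a b : F, M = a • (1 : Matrix ι ι F) + b • J}
      mul_mem' := by
        rintro _ _ ⟨a, b, rfl⟩ ⟨a', b', rfl⟩
        refine ⟨a * a' + b * b' * c, a * b' + b * a' + b * b' * s, ?_⟩
        simp only [add_mul, mul_add, Matrix.smul_mul, Matrix.mul_smul, one_mul, mul_one, hJ2,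
          smul_smul, smul_add]
        module
      add_mem' := by
        rintro _ _ ⟨a, b, rfl⟩ ⟨a', b', rfl⟩
        exact ⟨a + a', b + b', by rw [add_smul, add_smul]; abel⟩
      algebraMap_mem' := fun a => ⟨a, 0, by
        rw [Algebra.algebraMap_eq_smul_one, zero_smul, add_zero]⟩ }
  refine ⟨K, ⟨?_, ?_, ?_⟩, ?_, ?_, ?_, mem_subalgebraNormalizer_of ?_⟩
  · rintro _ ⟨a, b, rfl⟩ _ ⟨a', b', rfl⟩
    simp only [add_mul, mul_add, Matrix.smul_mul, Matrix.mul_smul, one_mul, mul_one, smul_smul,
      mul_comm a, mul_comm b]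
    abel
  · rintro _ ⟨a, b, rfl⟩ hx
    have hn : a * a + a * b * s - b * b * c ≠ 0 := by
      intro h
      by_cases hb : b = 0
      · rw [hb] at h hx
        have ha : a = 0 := by simpa using h
        exact hx (by simp [ha])
      · exact hroot (-(a / b)) (by field_simp; linear_combination h)
    set N := a * a + a * b * s - b * b * c with hN
    refine ⟨((a + b * s) / N) • (1 : Matrix ι ι F) + (-b / N) • J, ⟨_, _, rfl⟩, ?_⟩
    simp only [add_mul, mul_add, Matrix.smul_mul, Matrix.mul_smul, one_mul, mul_one, hJ2, smul_smul,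
      smul_add]
    rw [show (1 : Matrix ι ι F) = (1 : F) • (1 : Matrix ι ι F) from (one_smul _ _).symm]
    simp only [smul_smul]
    match_scalars <;> field_simp <;> first | ring1 | (rw [hN]; ring1) | linear_combination hN
  · let φ : (F × F) →ₗ[F] Matrix ι ι F :=
      { toFun := fun p => p.1 • (1 : Matrix ι ι F) + p.2 • J
        map_add' := fun p q => by simp only [Prod.fst_add, Prod.snd_add, add_smul]; abel
        map_smul' := fun d p => by simp [smul_add, smul_smul] }
    have hinj : Function.Injective φ := by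
      rw [injective_iff_map_eq_zero]
      rintro ⟨a, b⟩ h
      obtain ⟨rfl, rfl⟩ := hind a b h
      rfl
    have hrange : LinearMap.range φ = Subalgebra.toSubmodule K := by
      ext M
      constructor
      · rintro ⟨⟨a, b⟩, rfl⟩; exact ⟨a, b, rfl⟩
      · rintro ⟨a, b, rfl⟩; exact ⟨(a, b), rfl⟩
    rw [← Subalgebra.finrank_toSubmodule, ← hrange, LinearMap.finrank_range_of_inj hinj,
      finrank_prod, finrank_self]
  · rintro _ ⟨a, b, rfl⟩
    refine ⟨(a + b * s) • (1 : Matrix ι ι F) + (-b) • J, ⟨_, _, rfl⟩, fun u v => ?_⟩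
    simp only [Matrix.add_mulVec, Matrix.smul_mulVec, Matrix.one_mulVec, hB.add_left, hB.add_right,
      hB.smul_left, hB.smul_right]
    linear_combination b * hfJ u v
  · intro hself
    by_cases h2 : (2 : F) = 0
    swap
    · refine hne (s / 2) ((Matrix.toLin' (R := F)).injective (LinearMap.ext fun v => ?_))
      rw [Matrix.toLin'_apply, Matrix.toLin'_apply, Matrix.smul_mulVec, Matrix.one_mulVec]
      by_contra hcon
      obtain ⟨-, z, hz⟩ := hQ.nondegenerate (J *ᵥ v - (s / 2) • v) (sub_ne_zero.2 hcon)
      refine hz ?_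
      have h1 := hfJ v z
      rw [← hself J ⟨0, 1, by simp⟩ v z] at h1
      rw [sub_eq_add_neg, ← neg_smul, hB.add_left, hB.smul_left]
      field_simp
      linear_combination h1
    · have hs : s = 0 := by
        obtain ⟨v, hv⟩ : ∃ v : ι → F, v ≠ 0 := ⟨1, one_ne_zero⟩
        obtain ⟨-, z, hz⟩ := hQ.nondegenerate v hv
        have h1 := hfJ v z
        rw [← hself J ⟨0, 1, by simp⟩ v z] at h1
        exact (mul_eq_zero.1 (show s * QuadraticMap.polar Q v z = 0 by
          linear_combination -h1 + QuadraticMap.polar Q (J *ᵥ v) z * h2)).resolve_right hz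
      obtain ⟨t, ht⟩ := CfsgLib.FiniteForms.sqrt_charTwo h2 c
      exact hroot t (by rw [hs, ← ht]; ring)
  · rintro _ ⟨a, b, rfl⟩
    refine ⟨a * a + a * b * s - b * b * c, fun v => ?_⟩
    rw [Matrix.add_mulVec, Matrix.smul_mulVec, Matrix.one_mulVec, Matrix.smul_mulVec, quad_add hQ,
      hQ.smul, hQ.smul, hQJ, hB.smul_left, hB.smul_right, hvJ]
    ring
  · rintro g hg _ ⟨a, b, rfl⟩
    rw [mul_add, add_mul, Matrix.mul_smul, Matrix.mul_smul, Matrix.smul_mul, Matrix.smul_mul,
      mul_one, Units.mul_inv]
    rcases hnorm g hg with h | h <;> rw [h]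
    · exact ⟨a, b, rfl⟩
    · exact ⟨a + b * s, -b, by module⟩

/-- An irreducible quadratic has no root in an extension of odd degree. -/
lemma no_root_odd {K : Type*} [Field K] [Algebra F K] (hodd : Odd (finrank F K)) {s c : F}
    (hno : ∀ x : F, x * x ≠ s * x + c) (z : K) :
    z * z ≠ algebraMap F K s * z + algebraMap F K c := by
  intro hz
  let p : Polynomial F := Polynomial.X ^ 2 - Polynomial.C s * Polynomial.X - Polynomial.C c
  have hdeg : p.natDegree = 2 := by
    simp only [p]
    compute_degree!
  have hp : Irreducible p := by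
    refine Polynomial.irreducible_of_degree_le_three_of_not_isRoot ?_ ?_
    · rw [hdeg]; simp
    · intro r hr
      refine hno r ?_
      simp [p] at hr
      linear_combination hr
  have hm : p.Monic := by
    simp only [p]
    monicity!
  have hfin : FiniteDimensional F K := Module.finite_of_finrank_pos hodd.pos
  have hev : Polynomial.aeval z p = 0 := by
    simp [p]
    linear_combination hz
  have hmin := minpoly.eq_of_irreducible_of_monic hp hev hm
  have h2 := minpoly.degree_dvd (K := F) (L := K) (x := z) (IsIntegral.of_finite F z)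
  rw [← hmin, hdeg] at h2
  exact Nat.not_even_iff_odd.2 hodd ((even_iff_two_dvd).2 h2)

include hQ in
/-- A plane over a field of odd degree of self-adjoint operators carries a canonical operator. -/
theorem plane_operator [Fintype F] [Nonempty ι] {K : Type*} [Field K] [Algebra F K]
    [Module K (ι → F)] [IsScalarTower F K (ι → F)] {r : ℕ} (hfinK : finrank F K = r) (hr : Odd r)
    (hn : 2 * r = Fintype.card ι)
    (hsa' : ∀ (k : K) x y, QuadraticMap.polar Q (k • x) y = QuadraticMap.polar Q x (k • y))
    (halt : (2 : F) = 0 → ∀ (k : K) (v : ι → F), QuadraticMap.polar Q (k • v) v = 0) :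
    ∃ (s c : F) (J : (ι → F) →ₗ[K] (ι → F)),
      (∀ a : F, ∃ v, J v ≠ a • v) ∧ (∀ v, J (J v) = s • J v + c • v) ∧
      (∀ μ : F, μ * μ = s * μ + c → 2 * μ ≠ s) ∧
      (∀ v w, QuadraticMap.polar Q (J v) w + QuadraticMap.polar Q v (J w) =
        s * QuadraticMap.polar Q v w) ∧
      (∀ v, QuadraticMap.polar Q v (J v) = s * Q v) ∧
      ∀ J' : (ι → F) →ₗ[K] (ι → F), (∀ v, J' (J' v) = s • J' v + c • v) →
        (∀ v, QuadraticMap.polar Q v (J' v) = s * Q v) →
        (∀ v, J' v = J v) ∨ (∀ v, J' v = s • v - J v) := by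
  classical
  have hB := hQ.polar_bilinear
  haveI : Module.Finite F K := Module.finite_of_finrank_pos (hfinK ▸ hr.pos)
  -- the functional and the pairing
  obtain ⟨π₀, hπ₀⟩ : ∃ π : K →ₗ[F] F, π 1 ≠ 0 := by
    by_contra hcon
    push Not at hcon
    exact one_ne_zero ((Module.forall_dual_apply_eq_zero_iff F (1 : K)).1 hcon)
  obtain ⟨π, hπ1⟩ : ∃ π : K →ₗ[F] F, π 1 = 1 :=
    ⟨(π₀ 1)⁻¹ • π₀, by rw [LinearMap.smul_apply, smul_eq_mul, inv_mul_cancel₀ hπ₀]⟩
  let Φ : K →ₗ[F] (K →ₗ[F] F) := (LinearMap.mul F K).compr₂ π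
  have hΦ : ∀ b k, Φ b k = π (b * k) := fun b k => rfl
  have hΦinj : Function.Injective Φ := by
    rw [injective_iff_map_eq_zero]
    intro b hb
    by_contra hb0
    have h := LinearMap.congr_fun hb b⁻¹
    rw [hΦ, mul_inv_cancel₀ hb0, hπ1, LinearMap.zero_apply] at h
    exact one_ne_zero h
  have hΦsurj : Function.Surjective Φ :=
    (LinearMap.injective_iff_surjective_of_finrank_eq_finrank Subspace.dual_finrank_eq.symm).1 hΦinj
  let fx : (ι → F) → (ι → F) → K →ₗ[F] F := fun x y =>
    { toFun := fun k => QuadraticMap.polar Q (k • x) y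
      map_add' := fun a b => by rw [add_smul, hB.add_left]
      map_smul' := fun a b => by rw [smul_assoc, hB.smul_left, RingHom.id_apply, smul_eq_mul] }
  choose B hBs using fun x y => hΦsurj (fx x y)
  have hspec : ∀ x y k, π (B x y * k) = QuadraticMap.polar Q (k • x) y := fun x y k =>
    LinearMap.congr_fun (hBs x y) k
  have huniq : ∀ b b' : K, (∀ k, π (b * k) = π (b' * k)) → b = b' := fun b b' h =>
    hΦinj (LinearMap.ext h)
  have hBadd : ∀ x x' y, B (x + x') y = B x y + B x' y := fun x x' y => huniq _ _ fun k => by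
    rw [hspec, add_mul, map_add, hspec, hspec, smul_add, hB.add_left]
  have hBsmul : ∀ (l : K) x y, B (l • x) y = l * B x y := fun l x y => huniq _ _ fun k => by
    rw [hspec, mul_assoc, ← mul_left_comm, hspec, ← mul_smul, mul_comm k l]
  have hBsymm : ∀ x y, B x y = B y x := fun x y => huniq _ _ fun k => by
    rw [hspec, hspec, hsa', QuadraticMap.polar_comm]
  have hBadd' : ∀ x y y', B x (y + y') = B x y + B x y' := fun x y y' => by
    rw [hBsymm, hBadd, hBsymm y, hBsymm y']
  have hBsmul' : ∀ (l : K) x y, B x (l • y) = l * B x y := fun l x y => by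
    rw [hBsymm, hBsmul, hBsymm y]
  have hπB : ∀ x y, π (B x y) = QuadraticMap.polar Q x y := fun x y => by
    simpa using hspec x y 1
  have hBnd : ∀ x, (∀ y, B x y = 0) → x = 0 := fun x h => by
    by_contra hx
    obtain ⟨-, y, hy⟩ := hQ.nondegenerate x hx
    exact hy (by rw [← hπB, h y, map_zero])
  have hdim : finrank F (K × K) = finrank F (ι → F) := by
    rw [finrank_prod, hfinK, Module.finrank_fintype_fun_eq_card]; omega
  by_cases h2 : (2 : F) = 0
  · -- characteristic two
    have h2K : (2 : K) = 0 := by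
      rw [← map_ofNat (algebraMap F K) 2, h2, map_zero]
    have hneg : ∀ a : K, -a = a := fun a => by linear_combination -a * h2K
    have haltB : ∀ v, B v v = 0 := fun v => huniq _ _ fun k => by
      rw [hspec, zero_mul, map_zero]; exact halt h2 k v
    obtain ⟨e, he⟩ : ∃ e : ι → F, e ≠ 0 := ⟨1, one_ne_zero⟩
    obtain ⟨u₀, hu₀⟩ : ∃ u, B e u ≠ 0 := by
      by_contra hcon; push Not at hcon; exact he (hBnd e hcon)
    obtain ⟨u, hu⟩ : ∃ u, u = (B e u₀)⁻¹ • u₀ := ⟨_, rfl⟩
    have heu : B e u = 1 := by rw [hu, hBsmul', inv_mul_cancel₀ hu₀]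
    let T : (K × K) →ₗ[F] (ι → F) :=
      ((LinearMap.toSpanSingleton K _ e).restrictScalars F).coprod
        ((LinearMap.toSpanSingleton K _ u).restrictScalars F)
    have hT : ∀ x y, T (x, y) = x • e + y • u := fun x y => rfl
    have hTu : ∀ x y, B (T (x, y)) u = x ∧ B (T (x, y)) e = y := fun x y => by
      rw [hT, hBadd, hBsmul, hBsmul, hBadd, hBsmul, hBsmul, heu, haltB, haltB, hBsymm u e, heu]
      simp
    have hTinj : Function.Injective T := fun ⟨x, y⟩ ⟨x', y'⟩ h => by
      exact Prod.ext ((hTu x y).1.symm.trans ((congrArg (fun v => B v u) h).trans (hTu x' y').1))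
        ((hTu x y).2.symm.trans ((congrArg (fun v => B v e) h).trans (hTu x' y').2))
    have hexp : ∀ v, v = B v u • e + B v e • u := fun v => by
      obtain ⟨⟨x, y⟩, rfl⟩ :=
        (LinearMap.injective_iff_surjective_of_finrank_eq_finrank hdim).1 hTinj v
      rw [(hTu x y).1, (hTu x y).2, ← hT]
    -- the additive squares on the two lines
    have hrep : ∀ z : ι → F, ∃ β : K, ∀ x : K, Q (x • z) = π (β * (x * x)) := by
      intro z
      have hsurj : ∀ y : K, ∃ x, y = x * x := fun y => by
        haveI : Finite K := Module.finite_of_finite F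
        exact CfsgLib.FiniteForms.sqrt_charTwo h2K y
      choose sq hsq using hsurj
      have hsq' : ∀ x x' : K, x * x = x' * x' → x = x' := fun x x' h => by
        have : (x + x') * (x + x') = 0 := by linear_combination h + (x' * x' + x * x') * h2K
        exact (eq_neg_of_add_eq_zero_left (mul_self_eq_zero.1 this)).trans (hneg x')
      let φ : K →ₗ[F] F :=
        { toFun := fun y => Q (sq y • z)
          map_add' := fun a b => by
            have : sq (a + b) = sq a + sq b := hsq' _ _ (by
              linear_combination -hsq (a + b) + hsq a + hsq b - (sq a * sq b) * h2K)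
            rw [this, add_smul, quad_add hQ]
            have h0 : QuadraticMap.polar Q (sq a • z) (sq b • z) = 0 := by
              rw [← hπB, hBsmul, hBsmul', haltB, mul_zero, mul_zero, map_zero]
            rw [h0, add_zero]
          map_smul' := fun a b => by
            obtain ⟨t, ht⟩ := CfsgLib.FiniteForms.sqrt_charTwo h2 a
            have : sq (a • b) = t • sq b := hsq' _ _
              ((hsq (a • b)).symm.trans (by rw [smul_mul_smul_comm, ← ht, ← hsq b]))
            rw [this, smul_assoc, hQ.smul, RingHom.id_apply, smul_eq_mul, ht, pow_two]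
            }
      obtain ⟨β, hβ⟩ := hΦsurj φ
      refine ⟨β, fun x => ?_⟩
      have := LinearMap.congr_fun hβ (x * x)
      rw [hΦ] at this
      rw [this]
      show Q (x • z) = Q (sq (x * x) • z)
      rw [hsq' (sq (x * x)) x (hsq _).symm]
    obtain ⟨β, hβ⟩ := hrep e
    obtain ⟨γ, hγ⟩ := hrep u
    let J₀ : (ι → F) →ₗ[K] (ι → F) :=
      { toFun := fun v => B v u • (e + β • u) + B v e • (γ • e)
        map_add' := fun v w => by rw [hBadd, hBadd]; module
        map_smul' := fun k v => by rw [hBsmul, hBsmul, RingHom.id_apply]; module }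
    have hJ₀ : ∀ v, J₀ v = (B v u + B v e * γ) • e + (B v u * β) • u := fun v => by
      show B v u • (e + β • u) + B v e • (γ • e) = _
      module
    have hsq₀ : ∀ v, J₀ (J₀ v) = J₀ v + (β * γ) • v := fun v => by
      conv_lhs => rw [hJ₀ (J₀ v), hJ₀ v]
      rw [show (B v u + B v e * γ) • e + (B v u * β) • u = T (_, _) from (hT _ _).symm,
        (hTu _ _).1, (hTu _ _).2]
      conv_rhs => arg 2; rw [hexp v]
      rw [hJ₀]
      module
    have hval₀ : ∀ v, QuadraticMap.polar Q v (J₀ v) = Q v := fun v => by
      rw [← hπB, hJ₀, hBadd', hBsmul', hBsmul']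
      conv_rhs => rw [hexp v, quad_add hQ, hβ, hγ, ← hπB, hBsmul, hBsmul', heu, ← map_add, ← map_add]
      congr 1
      ring
    -- adjust the constant
    haveI : Finite K := Module.finite_of_finite F
    obtain ⟨k, c, hkc, hnoroot⟩ : ∃ (k : K) (c : F), β * γ + (k * k + k) = algebraMap F K c ∧
        ∀ z : K, z * z + z = 0 → z = 0 ∨ z = 1 := by
      let AS : K →+ K := AddMonoidHom.mk' (fun z => z * z + z) fun a b => by
        linear_combination (a * b) * h2K
      have hz : ∀ z : K, z * z + z = 0 → z = 0 ∨ z = 1 := fun z h => by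
        rcases mul_eq_zero.1 (show z * (z + 1) = 0 by linear_combination h) with h | h
        · exact Or.inl h
        · exact Or.inr ((eq_neg_of_add_eq_zero_left h).trans (hneg 1))
      have hker : Nat.card AS.ker = 2 := by
        have : (AS.ker : Set K) = {0, 1} := by
          ext z
          refine ⟨fun h => hz z h, ?_⟩
          rintro (rfl | rfl)
          · show (0 : K) * 0 + 0 = 0
            ring
          · show (1 : K) * 1 + 1 = 0
            linear_combination h2K
        rw [show Nat.card AS.ker = Set.ncard (AS.ker : Set K) from Nat.card_coe_set_eq _, this,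
          Set.ncard_pair zero_ne_one]
      have hidx : AS.range.index = 2 := by rw [AddSubgroup.index_range, hker]
      by_cases hd : β * γ ∈ AS.range
      · obtain ⟨k, hk⟩ := hd
        refine ⟨k, 0, ?_, hz⟩
        rw [map_zero, ← hk]
        show k * k + k + (k * k + k) = 0
        linear_combination (k * k + k) * h2K
      · obtain ⟨c, hc⟩ : ∃ c : F, algebraMap F K c ∉ AS.range := by
          obtain ⟨c, hc⟩ : ∃ c : F, ∀ x : F, x * x ≠ x + c := by
            by_contra hcon
            push Not at hcon
            choose f hf using hcon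
            have hsurj : Function.Surjective fun x : F => x * x - x :=
              fun c => ⟨f c, by linear_combination hf c⟩
            have := (Finite.injective_iff_surjective.2 hsurj) (a₁ := (0 : F)) (a₂ := 1) (by ring)
            exact zero_ne_one this
          refine ⟨c, ?_⟩
          rintro ⟨z, hz'⟩
          refine no_root_odd (s := 1) (hfinK.symm ▸ hr) (fun x => by rw [one_mul]; exact hc x) z ?_
          have hz'' : z * z + z = algebraMap F K c := hz'
          rw [map_one]
          linear_combination hz'' - z * h2K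
        obtain ⟨k, hk⟩ := (AddSubgroup.add_mem_iff_of_index_two hidx).2 (iff_of_false hd hc)
        refine ⟨k, c, ?_, hz⟩
        rw [show k * k + k = β * γ + algebraMap F K c from hk]
        linear_combination (β * γ) * h2K
    refine ⟨1, c, J₀ + k • LinearMap.id, fun a => ?_, fun v => ?_, fun μ _ => ?_, fun v w => ?_,
      fun v => ?_, fun J' h1 h2' => ?_⟩
    · by_contra hcon
      push Not at hcon
      have hQ0 : ∀ v, Q v = 0 := fun v => by
        have h := congrArg (QuadraticMap.polar Q v) (hcon v)
        simp only [LinearMap.add_apply, LinearMap.smul_apply, LinearMap.id_apply, hB.add_right,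
          hB.smul_right, hval₀, polar_self hQ, QuadraticMap.polar_comm Q v (k • v), halt h2 k v,
          h2] at h
        linear_combination h
      obtain ⟨-, z, hz⟩ := hQ.nondegenerate e he
      exact hz (by simp [QuadraticMap.polar, hQ0])
    · simp only [LinearMap.add_apply, LinearMap.smul_apply, LinearMap.id_apply, map_add, map_smul,
        hsq₀, one_smul]
      rw [← algebraMap_smul K c v, ← hkc]
      match_scalars <;> first | ring1 | linear_combination k * h2K | linear_combination (-k) * h2K
    · rw [h2, zero_mul]; exact zero_ne_one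
    · have h := hval₀ (v + w)
      rw [map_add, hB.add_left, hB.add_right, hB.add_right, hval₀, hval₀, quad_add hQ] at h
      simp only [LinearMap.add_apply, LinearMap.smul_apply, LinearMap.id_apply, hB.add_left,
        hB.add_right]
      rw [← hsa' k v w, one_mul, QuadraticMap.polar_comm Q (J₀ v) w]
      linear_combination h + QuadraticMap.polar Q (k • v) w * h2
    · simp only [LinearMap.add_apply, LinearMap.smul_apply, LinearMap.id_apply, hB.add_right,
        hval₀, one_mul]
      rw [QuadraticMap.polar_comm Q v (k • v), halt h2 k v, add_zero]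
    · set D := J' - (J₀ + k • LinearMap.id) with hD
      have hD0 : ∀ v, B (D v) v = 0 := by
        intro v
        refine huniq _ _ fun l => ?_
        haveI : Finite K := Module.finite_of_finite F
        obtain ⟨t, rfl⟩ := CfsgLib.FiniteForms.sqrt_charTwo h2K l
        rw [zero_mul, map_zero, show B (D v) v * (t * t) = B (D (t • v)) (t • v) by
          rw [map_smul, hBsmul, hBsmul']; ring, hπB, QuadraticMap.polar_comm, hD]
        simp only [LinearMap.sub_apply, LinearMap.add_apply, LinearMap.smul_apply,
          LinearMap.id_apply]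
        rw [sub_eq_add_neg, ← neg_one_smul F, hB.add_right, hB.smul_right, hB.add_right, h2',
          hval₀, QuadraticMap.polar_comm Q (t • v) (k • (t • v)), halt h2 k]
        ring
      have h0 := fun v => hexp (D v)
      have he0 := hD0 e
      have hu0 := hD0 u
      have heu0 := hD0 (e + u)
      rw [map_add, hBadd, hBadd', hBadd', he0, hu0, zero_add, add_zero] at heu0
      set l := B (D e) u with hl
      have hDl : ∀ v, D v = l • v := by
        intro v
        conv_lhs => rw [hexp v, map_add, map_smul, map_smul, h0 e, h0 u, he0, hu0,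
          show B (D u) e = l by linear_combination heu0 - l * h2K]
        conv_rhs => rw [hexp v]
        module
      have hl2 : l * l + l = 0 := by
        have hJ : ∀ v, J' v = J₀ v + (k + l) • v := fun v => by
          have := hDl v
          simp only [hD, LinearMap.sub_apply, LinearMap.add_apply, LinearMap.smul_apply,
            LinearMap.id_apply] at this
          rw [sub_eq_iff_eq_add] at this
          rw [this]; module
        have h3 := h1 e
        rw [hJ, hJ, map_add, map_smul, hsq₀, one_smul, ← algebraMap_smul K c e, ← hkc] at h3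
        have h4 : (l * l + l) • e = 0 := by
          linear_combination (norm := match_scalars) h3
          all_goals first
            | linear_combination (k + l - l * k) * h2K
            | linear_combination -(k + l) * h2K
            | linear_combination (k + l) * h2K
        exact (smul_eq_zero.1 h4).resolve_right he
      rcases hnoroot l hl2 with hl0 | hl1
      · refine Or.inl fun v => ?_
        have := hDl v
        rw [hl0, zero_smul, hD, LinearMap.sub_apply, sub_eq_zero] at this
        exact this
      · refine Or.inr fun v => ?_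
        have := hDl v
        rw [hl1, hD, LinearMap.sub_apply, sub_eq_iff_eq_add] at this
        rw [this]
        match_scalars
        · ring
        all_goals linear_combination h2K
  · -- odd characteristic
    have h2K : (2 : K) ≠ 0 := by
      rw [← map_ofNat (algebraMap F K) 2]
      exact fun h => h2 ((map_eq_zero _).1 h)
    obtain ⟨e, he⟩ : ∃ e, B e e ≠ 0 := by
      by_contra hcon
      push Not at hcon
      refine one_ne_zero (α := ι → F) (hBnd 1 fun y => ?_)
      have h := hcon (1 + y)
      rw [hBadd, hBadd', hBadd', hcon, hcon, hBsymm y 1] at h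
      exact (mul_eq_zero.1 (show (2 : K) * B 1 y = 0 by linear_combination h)).resolve_left h2K
    obtain ⟨w, hw⟩ : ∃ w, ∀ x : K, x • e ≠ w := by
      by_contra hcon
      push Not at hcon
      have hsurj : Function.Surjective ((LinearMap.toSpanSingleton K _ e).restrictScalars F) :=
        fun w => hcon w
      have := LinearMap.finrank_le_finrank_of_surjective hsurj
      rw [hfinK, Module.finrank_fintype_fun_eq_card] at this
      have : 0 < r := hr.pos
      omega
    obtain ⟨u, hu⟩ : ∃ u, u = w + (-(B w e / B e e)) • e := ⟨_, rfl⟩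
    have heu : B u e = 0 := by
      rw [hu, hBadd, hBsmul, neg_mul, div_mul_cancel₀ _ he, add_neg_cancel]
    have hu0 : u ≠ 0 := fun h => hw (B w e / B e e) (by
      rw [hu, neg_smul, add_neg_eq_zero] at h; exact h.symm)
    let T : (K × K) →ₗ[F] (ι → F) :=
      ((LinearMap.toSpanSingleton K _ e).restrictScalars F).coprod
        ((LinearMap.toSpanSingleton K _ u).restrictScalars F)
    have hT : ∀ x y, T (x, y) = x • e + y • u := fun x y => rfl
    have hTe : ∀ x y, B (T (x, y)) e = x * B e e ∧ B (T (x, y)) u = y * B u u := fun x y => by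
      rw [hT, hBadd, hBsmul, hBsmul, hBadd, hBsmul, hBsmul, hBsymm e u, heu]
      simp
    have hTinj : Function.Injective T := by
      rw [injective_iff_map_eq_zero]
      rintro ⟨x, y⟩ h
      have hx : x = 0 := by
        have h' := (hTe x y).1
        rw [h, show B 0 e = 0 by simpa using hBsmul 0 0 e] at h'
        exact (mul_eq_zero.1 h'.symm).resolve_right he
      rw [hT, hx, zero_smul, zero_add] at h
      rw [hx, (smul_eq_zero.1 h).resolve_right hu0]
      rfl
    have hTsurj := (LinearMap.injective_iff_surjective_of_finrank_eq_finrank hdim).1 hTinj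
    have hu1 : B u u ≠ 0 := fun h => hu0 (hBnd u fun y => by
      obtain ⟨⟨p, q⟩, rfl⟩ := hTsurj y
      rw [hBsymm, (hTe p q).2, h, mul_zero])
    haveI : Finite K := Module.finite_of_finite F
    letI : Fintype K := Fintype.ofFinite _
    have hd0 : -(B e e * B u u) ≠ 0 := neg_ne_zero.2 (mul_ne_zero he hu1)
    obtain ⟨k, c, hk, hkc⟩ : ∃ (k : K) (c : F), k ≠ 0 ∧
        -(B e e * B u u) = k * k * algebraMap F K c := by
      by_cases hsq : IsSquare (-(B e e * B u u))
      · obtain ⟨k, hk⟩ := hsq
        exact ⟨k, 1, fun h => hd0 (by rw [hk, h, mul_zero]), by rw [map_one, mul_one, hk]⟩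
      · obtain ⟨c, hc⟩ := FiniteField.exists_nonsquare (F := F) (fun h => by
          haveI : CharP F 2 := ringChar.of_eq h
          exact h2 CharTwo.two_eq_zero)
        have hc0 : algebraMap F K c ≠ 0 := fun h => hc (by
          rw [(map_eq_zero _).1 h]; exact IsSquare.zero)
        have hc' : ¬ IsSquare (algebraMap F K c) := by
          rintro ⟨z, hz⟩
          refine no_root_odd (s := (0 : F)) (c := c) (hfinK.symm ▸ hr) (fun x hx => hc ⟨x, ?_⟩) z ?_
          · linear_combination -hx
          · rw [map_zero, zero_mul, zero_add, hz]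
        obtain ⟨m, hm⟩ := (CfsgLib.FiniteForms.isSquare_mul_iff hd0 (inv_ne_zero hc0)).2
          (iff_of_false hsq (fun h => hc' (by simpa using h.inv)))
        refine ⟨m, c, fun h => ?_, by rw [← hm, mul_assoc, inv_mul_cancel₀ hc0, mul_one]⟩
        rw [h, mul_zero] at hm
        exact mul_ne_zero hd0 (inv_ne_zero hc0) hm
    have hc0 : c ≠ 0 := fun h => hd0 (by rw [hkc, h, map_zero, mul_zero])
    let J : (ι → F) →ₗ[K] (ι → F) :=
      { toFun := fun v => (k⁻¹ * B v e) • u + (-(k⁻¹ * B v u)) • e
        map_add' := fun v w => by rw [hBadd, hBadd]; module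
        map_smul' := fun l v => by rw [hBsmul, hBsmul, RingHom.id_apply]; module }
    have hJT : ∀ x y, J (T (x, y)) = T (-(k⁻¹ * (y * B u u)), k⁻¹ * (x * B e e)) := fun x y => by
      show (k⁻¹ * B (T (x, y)) e) • u + (-(k⁻¹ * B (T (x, y)) u)) • e = _
      rw [(hTe x y).1, (hTe x y).2, hT]
      module
    have hskB : ∀ v w, B (J v) w = -(B v (J w)) := fun v w => by
      show B ((k⁻¹ * B v e) • u + (-(k⁻¹ * B v u)) • e) w =
        -(B v ((k⁻¹ * B w e) • u + (-(k⁻¹ * B w u)) • e))
      rw [hBadd, hBsmul, hBsmul, hBadd', hBsmul', hBsmul', hBsymm u w, hBsymm e w]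
      ring
    have hpol : ∀ v w, QuadraticMap.polar Q (J v) w + QuadraticMap.polar Q v (J w) = 0 :=
      fun v w => by rw [← hπB, ← hπB, hskB, map_neg, neg_add_cancel]
    have hJJ : ∀ v, J (J v) = c • v := fun v => by
      obtain ⟨⟨x, y⟩, rfl⟩ := hTsurj v
      rw [hJT, hJT, ← algebraMap_smul K c (T (x, y)), hT, hT, smul_add, smul_smul, smul_smul]
      match_scalars
      · field_simp; linear_combination x * hkc
      · field_simp; linear_combination y * hkc
    refine ⟨0, c, J, fun a => ?_, fun v => ?_, fun μ hμ h => hc0 ?_, fun v w => ?_, fun v => ?_,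
      fun J' h1 h3 => ?_⟩
    · by_contra hcon
      push Not at hcon
      obtain ⟨-, z, hz⟩ := hQ.nondegenerate e fun h => he (by rw [h]; simpa using hBsmul 0 0 0)
      have h1 := hpol e z
      rw [hcon, hcon, hB.smul_left, hB.smul_right] at h1
      have ha : a = 0 := (mul_eq_zero.1 (show a * (2 * QuadraticMap.polar Q e z) = 0 by
        linear_combination h1)).resolve_right (mul_ne_zero h2 hz)
      have h3 := hJJ e
      rw [hcon (J e), ha, zero_smul] at h3
      exact he (by rw [(smul_eq_zero.1 h3.symm).resolve_left hc0]; simpa using hBsmul 0 0 0)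
    · rw [hJJ, zero_smul, zero_add]
    · have : μ = 0 := (mul_eq_zero.1 h).resolve_left h2
      rw [this] at hμ
      linear_combination -hμ
    · rw [hpol, zero_mul]
    · have := hpol v v
      rw [QuadraticMap.polar_comm Q (J v) v, ← two_mul] at this
      rw [zero_mul]
      exact (mul_eq_zero.1 this).resolve_left h2
    · have hB0 : ∀ v, B v (J' v) = 0 := by
        intro v
        refine huniq _ _ fun l => ?_
        rw [zero_mul, map_zero]
        obtain ⟨a, b, rfl⟩ : ∃ a b : K, a * a + (-1) * (b * b) = l :=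
          ⟨(l + 1) * (2 : K)⁻¹, (l - 1) * (2 : K)⁻¹, by field_simp; ring⟩
        have hv : ∀ a : K, π (B v (J' v) * (a * a)) = 0 := fun a => by
          rw [show B v (J' v) * (a * a) = B (a • v) (J' (a • v)) by
            rw [map_smul, hBsmul, hBsmul']; ring, hπB, h3, zero_mul]
        rw [mul_add, show B v (J' v) * (-1 * (b * b)) = -(B v (J' v) * (b * b)) by ring,
          map_add, map_neg, hv, hv, neg_zero, add_zero]
      have he0 := hB0 e
      have hu0' := hB0 u
      have heu0 := hB0 (e + u)
      rw [map_add, hBadd, hBadd', hBadd', he0, hu0', zero_add, add_zero] at heu0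
      set l := B e (J' u) with hl
      set m := -(k * l) / (B e e * B u u) with hm
      have hJ' : ∀ v, J' v = m • J v := by
        intro v
        obtain ⟨⟨x, y⟩, rfl⟩ := hTsurj v
        have hbasis : ∀ z, z = (B z e / B e e) • e + (B z u / B u u) • u := fun z => by
          obtain ⟨⟨p, q⟩, rfl⟩ := hTsurj z
          rw [(hTe p q).1, (hTe p q).2, mul_div_cancel_right₀ _ he, mul_div_cancel_right₀ _ hu1,
            hT]
        rw [hJT, hT, hT, map_add, map_smul, map_smul, hbasis (J' e), hbasis (J' u),
          hBsymm (J' e) e, he0, hBsymm (J' u) u, hu0', hBsymm (J' u) e, ← hl,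
          hBsymm (J' e) u, show B u (J' e) = -l by linear_combination heu0, hm]
        match_scalars <;> field_simp <;> ring
      have hm2 : m * m = 1 := by
        have h4 := h1 e
        rw [zero_smul, zero_add, hJ', hJ', map_smul, hJJ, smul_smul,
          ← algebraMap_smul K c e, smul_smul] at h4
        refine mul_right_cancel₀ (fun h => hc0 ((map_eq_zero _).1 h) : algebraMap F K c ≠ 0) ?_
        refine sub_eq_zero.1 ((smul_eq_zero.1 (show ((m * m) * algebraMap F K c -
          1 * algebraMap F K c) • e = 0 by rw [sub_smul, h4, one_mul, sub_self])).resolve_right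
          fun h => he (by rw [h]; simpa using hBsmul 0 0 0))
      rcases mul_self_eq_one_iff.1 hm2 with h | h
      · exact Or.inl fun v => by rw [hJ', h, one_smul]
      · exact Or.inr fun v => by rw [hJ', h, zero_smul, zero_sub, neg_smul, one_smul]

include hQ in
/-- The operator is normalised. -/
theorem classes_of_plane [Fintype F] [Nonempty ι] {H : Subgroup (GL ι F)}
    (hH : H ≤ Cfsg.isometryGroup F Q) {K : Type*} [Field K] [Algebra F K]
    (ρ : K →ₐ[F] Matrix ι ι F) {r : ℕ} (hfinK : finrank F K = r) (hr : Odd r)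
    (hn : 2 * r = Fintype.card ι)
    (hsa : ∀ (k : K) x y, QuadraticMap.polar Q (ρ k *ᵥ x) y = QuadraticMap.polar Q x (ρ k *ᵥ y))
    (halt : (2 : F) = 0 → ∀ (k : K) v, QuadraticMap.polar Q (ρ k *ᵥ v) v = 0)
    (hnorm : ∀ g ∈ H, ∀ k : K, ∃ k' : K, ρ k * (g : Matrix ι ι F) = (g : Matrix ι ι F) * ρ k') :
    HasUnitaryField Q H ∨ HasSingularPair Q H := by
  classical
  have hB := hQ.polar_bilinear
  letI : Module K (ι → F) := Module.compHom _
    ((Matrix.toLinAlgEquiv' : Matrix ι ι F ≃ₐ[F] _).toAlgHom.toRingHom.comp ρ.toRingHom)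
  have hsmul : ∀ (k : K) (x : ι → F), k • x = ρ k *ᵥ x :=
    fun k x => Matrix.toLinAlgEquiv'_apply _ _
  haveI : IsScalarTower F K (ι → F) := ⟨fun a k x => by
    rw [hsmul, hsmul, map_smul, Matrix.smul_mulVec]⟩
  -- the normaliser transports the pairing
  have hgK : ∀ g ∈ H, ∀ k : K, ∃ k' : K, ∀ x : ι → F,
      k • ((g : Matrix ι ι F) *ᵥ x) = (g : Matrix ι ι F) *ᵥ (k' • x) := by
    intro g hg k
    obtain ⟨k', hk'⟩ := hnorm g hg k
    refine ⟨k', fun x => ?_⟩
    rw [hsmul, hsmul, Matrix.mulVec_mulVec, Matrix.mulVec_mulVec, hk']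
  have hfix := fixesPolar_of_le hH
  have hconjK : ∀ g ∈ H, ∀ (M : (ι → F) →ₗ[K] (ι → F)), ∃ N : (ι → F) →ₗ[K] (ι → F),
      ∀ x, N x = (g : Matrix ι ι F) *ᵥ M (((g⁻¹ : GL ι F) : Matrix ι ι F) *ᵥ x) := by
    intro g hg M
    refine ⟨
      { toFun := fun x => (g : Matrix ι ι F) *ᵥ M (((g⁻¹ : GL ι F) : Matrix ι ι F) *ᵥ x)
        map_add' := fun x y => by rw [Matrix.mulVec_add, map_add, Matrix.mulVec_add]
        map_smul' := fun k x => by
          obtain ⟨k', hk'⟩ := hgK g hg k
          obtain ⟨y, rfl⟩ : ∃ y, (g : Matrix ι ι F) *ᵥ y = x := ⟨_, mulVec_inv_cancel g x⟩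
          rw [RingHom.id_apply, hk', inv_mulVec_cancel, inv_mulVec_cancel, hk', map_smul] },
      fun x => rfl⟩
  obtain ⟨s, c, J, hne, hJ2, hsep, hskew, hvJ, huni⟩ := plane_operator hQ (K := K) hfinK hr hn
    (fun k x y => by rw [hsmul, hsmul]; exact hsa k x y)
    (fun h2 k v => by rw [hsmul]; exact halt h2 k v)
  let M : Matrix ι ι F := LinearMap.toMatrix' (J.restrictScalars F)
  have hM : ∀ v, M *ᵥ v = J v := fun v => by
    simp only [M, LinearMap.toMatrix'_mulVec]; rfl
  refine operator_classes hQ (J := M) (s := s) (c := c) ?_ ?_ hsep (fun v w => ?_) (fun v => ?_)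
    (fun v => ?_) (fun g hg => ?_)
  · refine Matrix.toLin'.injective (LinearMap.ext fun v => ?_)
    simp only [Matrix.toLin'_apply, ← Matrix.mulVec_mulVec, Matrix.add_mulVec, Matrix.smul_mulVec,
      Matrix.one_mulVec, hM]
    exact hJ2 v
  · intro a h
    obtain ⟨v, hv⟩ := hne a
    exact hv (by rw [← hM, h, Matrix.smul_mulVec, Matrix.one_mulVec])
  · rw [hM, hM]; exact hskew v w
  · rw [hM]; exact hvJ v
  · rw [hM]
    by_cases h2 : (2 : F) = 0
    · have h := hvJ (J v)
      rw [hJ2, hB.add_right, hB.smul_right, hB.smul_right, polar_self hQ, QuadraticMap.polar_comm,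
        hvJ] at h
      by_cases hs : s = 0
      · exfalso
        obtain ⟨t, ht⟩ := CfsgLib.FiniteForms.sqrt_charTwo h2 c
        exact hsep t (by rw [hs, zero_mul, zero_add, ← ht]) (by rw [hs, h2, zero_mul])
      refine mul_left_cancel₀ hs ?_
      linear_combination -h + (s * Q (J v) + s * c * Q v) * h2
    · refine mul_left_cancel₀ h2 ?_
      have h := hskew v (J v)
      rw [hJ2, hB.add_right, hB.smul_right, hB.smul_right, hvJ, polar_self hQ, polar_self hQ] at h
      linear_combination h
  · obtain ⟨N, hN⟩ := hconjK g hg J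
    have hgQ := mem_isometryGroup.1 (hH hg)
    have hN1 : ∀ v, N (N v) = s • N v + c • v := fun v => by
      rw [hN, hN, inv_mulVec_cancel, hJ2, Matrix.mulVec_add, Matrix.mulVec_smul, Matrix.mulVec_smul,
        mulVec_inv_cancel]
    have hN2 : ∀ v, QuadraticMap.polar Q v (N v) = s * Q v := fun v => by
      rw [hN]
      conv_lhs => arg 2; rw [← mulVec_inv_cancel g v]
      rw [isometry_apply hfix hg, hvJ, ← hgQ, mulVec_inv_cancel]
    rcases huni N hN1 hN2 with h | h
    · refine Or.inl (Matrix.toLin'.injective (LinearMap.ext fun v => ?_))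
      simp only [Matrix.toLin'_apply, ← Matrix.mulVec_mulVec, hM]
      rw [← hN]; exact h v
    · refine Or.inr (Matrix.toLin'.injective (LinearMap.ext fun v => ?_))
      simp only [Matrix.toLin'_apply, ← Matrix.mulVec_mulVec, Matrix.sub_mulVec, Matrix.smul_mulVec,
        Matrix.one_mulVec, hM]
      rw [← hN]; exact h v

include hQ in
/-- A plane over a self-adjoint field of odd degree. -/
theorem unitary_or_pair_of_half_field [Fintype F] [Nonempty ι] {H : Subgroup (GL ι F)}
    (hH : H ≤ Cfsg.isometryGroup F Q) {r : ℕ} (hr : Odd r) (hn : 2 * r = Fintype.card ι)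
    {K : Subalgebra F (Matrix ι ι F)} (hK : Cfsg.Geo.IsFieldSubalgebra r K)
    (hsa : Cfsg.Geo.IsSelfAdjointFor (QuadraticMap.polar Q) K)
    (halt : (2 : F) = 0 → ∀ k ∈ K, ∀ v, QuadraticMap.polar Q (k *ᵥ v) v = 0)
    (hle : H ≤ Cfsg.Geo.subalgebraNormalizer K) :
    HasUnitaryField Q H ∨ HasSingularPair Q H := by
  letI : Field ↥K := (isField_of_fieldSubalgebra hK).toField
  refine classes_of_plane hQ hH (K := ↥K) K.val hK.finrank_eq hr hn (fun k x y => hsa _ k.2 x y)
    (fun h2 k v => halt h2 _ k.2 v) fun g hg k => ?_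
  have hm := (hle (H.inv_mem hg) k).1 k.2
  rw [inv_inv] at hm
  exact ⟨⟨_, hm⟩, by simp [mul_assoc]⟩

/-- Subspaces invariant under a field of operators. -/
theorem dvd_finrank_invariant {K : Type*} [Field K] [Algebra F K] (ρ : K →ₐ[F] Matrix ι ι F)
    (W : Submodule F (ι → F)) (hW : ∀ k, ∀ w ∈ W, ρ k *ᵥ w ∈ W) :
    finrank F K ∣ finrank F W := by
  classical
  letI : Module K (ι → F) := Module.compHom _
    ((Matrix.toLinAlgEquiv' : Matrix ι ι F ≃ₐ[F] _).toAlgHom.toRingHom.comp ρ.toRingHom)
  have hsmul : ∀ (k : K) (x : ι → F), k • x = ρ k *ᵥ x :=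
    fun k x => Matrix.toLinAlgEquiv'_apply _ _
  haveI : IsScalarTower F K (ι → F) := ⟨fun a k x => by
    rw [hsmul, hsmul, map_smul, Matrix.smul_mulVec]⟩
  let W' : Submodule K (ι → F) :=
    { W.toAddSubmonoid with smul_mem' := fun k w hw => by rw [hsmul]; exact hW k w hw }
  have h := Module.finrank_mul_finrank F K W'
  have he : finrank F W' = finrank F W := by
    show finrank F (W'.restrictScalars F) = _
    rw [show W'.restrictScalars F = W from SetLike.ext fun v => Iff.rfl]
  exact ⟨finrank K W', by rw [← he, h]⟩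

include hQ in
/-- In characteristic two a field of self-adjoint alternating operators divides half the
dimension. -/
theorem dvd_half_of_selfAdjoint [Fintype F] [Nonempty ι] {r m : ℕ}
    (hn : 2 * m = Fintype.card ι) {K : Subalgebra F (Matrix ι ι F)}
    (hK : Cfsg.Geo.IsFieldSubalgebra r K)
    (hsa : Cfsg.Geo.IsSelfAdjointFor (QuadraticMap.polar Q) K)
    (halt : ∀ k ∈ K, ∀ v, QuadraticMap.polar Q (k *ᵥ v) v = 0) : r ∣ m := by
  classical
  have hB := hQ.polar_bilinear
  have hf := isRefl_polarForm hQ
  let S : Set (Submodule F (ι → F)) := {W | (∀ k ∈ K, ∀ w ∈ W, k *ᵥ w ∈ W) ∧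
    ∀ u ∈ W, ∀ v ∈ W, QuadraticMap.polar Q u v = 0}
  obtain ⟨W, ⟨hinv, hts⟩, hmax⟩ := (Set.toFinite S).exists_maximal
    ⟨⊥, fun k _ w hw => by rw [Submodule.mem_bot] at hw ⊢; rw [hw, Matrix.mulVec_zero],
      fun u hu v _ => by
        rw [Submodule.mem_bot] at hu
        rw [hu]; simpa using hB.smul_left 0 0 v⟩
  have heq : perp hf.sesq W = W := by
    refine le_antisymm (fun v hv => ?_) fun v hv w hw => hts v hv w hw
    by_contra hvW
    let O : Submodule F (ι → F) :=
      (Subalgebra.toSubmodule K).map ((Matrix.mulVecBilin F F).flip v)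
    have hO : ∀ u, u ∈ O ↔ ∃ k ∈ K, k *ᵥ v = u := fun u => by simp [O, Submodule.mem_map]
    have hWO : ∀ k ∈ K, ∀ w ∈ W, QuadraticMap.polar Q (k *ᵥ v) w = 0 := fun k hk w hw => by
      rw [hsa k hk]; exact hv _ (hinv k hk w hw)
    have hS : W ⊔ O ∈ S := by
      refine ⟨fun k hk x hx => ?_, fun x hx y hy => ?_⟩
      · obtain ⟨w, hw, o, ho, rfl⟩ := Submodule.mem_sup.1 hx
        obtain ⟨l, hl, rfl⟩ := (hO o).1 ho
        rw [Matrix.mulVec_add, Matrix.mulVec_mulVec]
        exact Submodule.add_mem_sup (hinv k hk w hw) ((hO _).2 ⟨_, mul_mem hk hl, rfl⟩)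
      · obtain ⟨w, hw, o, ho, rfl⟩ := Submodule.mem_sup.1 hx
        obtain ⟨l, hl, rfl⟩ := (hO o).1 ho
        obtain ⟨w', hw', o', ho', rfl⟩ := Submodule.mem_sup.1 hy
        obtain ⟨l', hl', rfl⟩ := (hO o').1 ho'
        rw [hB.add_left, hB.add_right, hB.add_right, hts w hw w' hw', hWO l hl w' hw',
          QuadraticMap.polar_comm Q w, hWO l' hl' w hw, ← hsa l' hl' (l *ᵥ v) v,
          Matrix.mulVec_mulVec, halt _ (mul_mem hl' hl) v]
        simp
    exact hvW (hmax hS le_sup_left (le_sup_right (a := W) ((hO v).2 ⟨1, one_mem K,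
      Matrix.one_mulVec v⟩)))
  have hd := hf.finrank_perp W
  rw [heq] at hd
  letI : Field ↥K := (isField_of_fieldSubalgebra hK).toField
  have h := dvd_finrank_invariant (K := ↥K) K.val W fun k w hw => hinv _ k.2 w hw
  rw [show finrank F ↥K = r from hK.finrank_eq] at h
  rwa [show finrank F W = m by omega] at h

end CfsgLib.Aschbacher.OrthEven
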