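import Cfsg.Agent.Lib.Aschbacher.OrthEven.Shape

/-!
`Ω` is not contained in the stabiliser of a tensor decomposition, any characteristic.
-/

set_option autoImplicit false

namespace CfsgLib.Aschbacher.OrthEven

open Matrix Module

open scoped Kronecker

variable {F : Type*} [Field F] [Fintype F] {ι : Type} [Fintype ι] [DecidableEq ι] {Q : (ι → F) → F}
  (hQ : Cfsg.Geo.IsNondegenerateQuadraticForm Q)

include hQ in
/-- A smaller factor of dimension at least three, or singular pure tensors. -/
theorem not_le_tensor {a b : ℕ} (ha : 2 ≤ a) (hb : 3 ≤ b) (e : ι ≃ Fin a × Fin b) (P : GL ι F)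
    (hpure : 3 ≤ a ∨ ∀ (x : Fin a → F) (y : Fin b → F),
      Q ((P : Matrix ι ι F) *ᵥ (pv x y ∘ e)) = 0) :
    ¬ Cfsg.Geo.omegaGL Q ≤ Cfsg.Geo.tensorProductSubgroup a b e P := by
  classical
  intro hle
  have hB := hQ.polar_bilinear
  have hn : 5 ≤ Fintype.card ι := by
    rw [Fintype.card_congr e, Fintype.card_prod, Fintype.card_fin, Fintype.card_fin]
    nlinarith
  obtain ⟨u, a₀, b₀, hu0, hu, hau, hbu, hab⟩ := exists_triple hQ hn
  obtain ⟨c, hcu, hQc⟩ : ∃ c, QuadraticMap.polar Q c u = 0 ∧ Q c ≠ 0 := by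
    by_contra hcon
    push Not at hcon
    have h := quad_add hQ a₀ b₀
    rw [hab, hcon a₀ hau, hcon b₀ hbu, hcon (a₀ + b₀) (by rw [hB.add_left, hau, hbu, add_zero])] at h
    simp at h
  have h : SiegelPair Q u c := ⟨hu, hcu⟩
  have hmem := hle (siegel_mem hQ hn h)
  rw [Cfsg.Geo.tensorProductSubgroup, map_glReindex_conj] at hmem
  obtain ⟨X, ⟨A, B, hX⟩, hXe⟩ := hmem
  let J : (Fin a → F) → (Fin b → F) → ι → F := fun x y => (P : Matrix ι ι F) *ᵥ (pv x y ∘ e)
  have hJ : ∀ x y, (siegel hQ h : Matrix ι ι F) *ᵥ J x y =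
      J ((A : Matrix (Fin a) (Fin a) F) *ᵥ x) ((B : Matrix (Fin b) (Fin b) F) *ᵥ y) := by
    intro x y
    rw [← hXe, MulEquiv.coe_toMonoidHom, frU_val, frAlg_mulVec, hX, kron_mulVec_pv]
  have hJinj : ∀ {x x' : Fin a → F} {y y' : Fin b → F}, J x y = J x' y' → pv x y = pv x' y' :=
    fun h' => e.surjective.injective_comp_right (mulVec_injective P h')
  let Jl : (Fin a → F) → (Fin b → F) →ₗ[F] (ι → F) := fun x =>
    (Matrix.toLin' (P : Matrix ι ι F)).comp
      ((LinearMap.funLeft F F e).comp (LinearMap.pi fun p => x p.1 • LinearMap.proj p.2))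
  have hJl : ∀ x y, Jl x y = J x y := fun x y => rfl
  -- the first factor keeps every line
  have hlines : ∀ x : Fin a → F, x ≠ 0 → ∃ d : F, (A : Matrix (Fin a) (Fin a) F) *ᵥ x = d • x := by
    intro x hx
    obtain ⟨y, hy0, hyu, hyc⟩ := exists_perp_kernel ((polarDual hQ u).comp (Jl x))
      ((polarDual hQ c).comp (Jl x)) (by rw [Module.finrank_fin_fun]; omega)
    have h2 := hJinj ((hJ x y).symm.trans (siegel_fix hQ h hyu hyc))
    obtain ⟨j, hj⟩ := Function.ne_iff.1 hy0
    obtain ⟨i, hi⟩ := Function.ne_iff.1 hx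
    have h3 : ((B : Matrix (Fin b) (Fin b) F) *ᵥ y) j ≠ 0 := fun h0 => by
      have := congrFun h2 (i, j)
      simp only [pv, h0, mul_zero] at this
      exact mul_ne_zero hi hj this.symm
    refine ⟨y j / ((B : Matrix (Fin b) (Fin b) F) *ᵥ y) j, funext fun k => ?_⟩
    have := congrFun h2 (k, j)
    simp only [pv] at this
    rw [Pi.smul_apply, smul_eq_mul, div_mul_eq_mul_div, eq_div_iff h3, this, mul_comm]
  obtain ⟨d, hd⟩ := eq_smul_one_of_lines (by omega) hlines
  set B' := d • (B : Matrix (Fin b) (Fin b) F) with hB'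
  have hJ' : ∀ x y, (siegel hQ h : Matrix ι ι F) *ᵥ J x y = J x (B' *ᵥ y) := fun x y => by
    rw [hJ, hd, hB']
    simp only [J]
    congr 1
    funext i
    simp [pv, Matrix.smul_mulVec]
    ring
  -- the image of the displacement
  set W := Submodule.span F ({u, c} : Set (ι → F)) with hW
  have hW2 : finrank F W ≤ 2 := by
    have := (finrank_span_finset_le_card (R := F) ({u, c} : Finset (ι → F))).trans Finset.card_le_two
    rw [Finset.coe_pair] at this
    rw [hW]; exact this
  have hdiff : ∀ v, (siegel hQ h : Matrix ι ι F) *ᵥ v - v ∈ W := fun v => by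
    rw [siegel_mulVec' hQ h, add_sub_assoc, add_sub_cancel_left]
    exact sub_mem (Submodule.smul_mem _ _ (Submodule.subset_span (by simp)))
      (Submodule.smul_mem _ _ (Submodule.subset_span (by simp)))
  obtain ⟨β, hβ0, hβ⟩ : ∃ β : Fin b → F, β ≠ 0 ∧ ∀ x, J x β ∈ W := by
    by_cases hfix : B' = 1
    · exfalso
      obtain ⟨-, z, hz⟩ := hQ.nondegenerate u hu0
      have hall : ∀ v, (siegel hQ h : Matrix ι ι F) *ᵥ v = v := by
        have hM : (siegel hQ h : Matrix ι ι F) * (P : Matrix ι ι F) = (P : Matrix ι ι F) := by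
          refine Matrix.toLin'.injective ((Pi.basisFun F ι).ext fun i => ?_)
          obtain ⟨⟨p, q⟩, rfl⟩ := e.symm.surjective i
          have hs : (Pi.single (e.symm (p, q)) 1 : ι → F) =
              pv (Pi.single p 1) (Pi.single q 1) ∘ e := by
            funext i
            obtain ⟨⟨p', q'⟩, rfl⟩ := e.symm.surjective i
            by_cases hp : p' = p <;> by_cases hq : q' = q <;> simp [pv, hp, hq]
          simp only [Pi.basisFun_apply, Matrix.toLin'_apply, hs, ← Matrix.mulVec_mulVec]
          have := hJ' (Pi.single p 1) (Pi.single q 1)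
          rwa [hfix, Matrix.one_mulVec] at this
        intro v
        obtain ⟨w, rfl⟩ : ∃ w, (P : Matrix ι ι F) *ᵥ w = v := ⟨_, mulVec_inv_cancel P v⟩
        rw [Matrix.mulVec_mulVec, hM]
      have h1 := hall z
      rw [siegel_mulVec' hQ h] at h1
      have hzu : QuadraticMap.polar Q z u ≠ 0 := by rwa [QuadraticMap.polar_comm]
      have h2 : QuadraticMap.polar Q z u • c =
          (QuadraticMap.polar Q z c + Q c * QuadraticMap.polar Q z u) • u := by
        rw [← sub_eq_zero]
        exact add_left_cancel (a := z) (by rw [← add_sub_assoc, h1, add_zero])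
      have h3 := congrArg Q h2
      rw [hQ.smul, hQ.smul, hu, mul_zero] at h3
      exact mul_ne_zero (pow_ne_zero 2 hzu) hQc h3
    · obtain ⟨y, hy⟩ : ∃ y, B' *ᵥ y ≠ y := by
        by_contra hcon
        push Not at hcon
        exact hfix (Matrix.toLin'.injective (LinearMap.ext fun y => by simpa using hcon y))
      refine ⟨B' *ᵥ y - y, sub_ne_zero.2 hy, fun x => ?_⟩
      have : J x (B' *ᵥ y - y) = (siegel hQ h : Matrix ι ι F) *ᵥ J x y - J x y := by
        rw [hJ', ← hJl, ← hJl, ← hJl, map_sub]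
      rw [this]
      exact hdiff _
  let K : (Fin a → F) →ₗ[F] (ι → F) :=
    (Matrix.toLin' (P : Matrix ι ι F)).comp
      ((LinearMap.funLeft F F e).comp (LinearMap.pi fun p => β p.2 • LinearMap.proj p.1))
  have hK : ∀ x, K x = J x β := fun x => by
    simp only [K, J, LinearMap.comp_apply, Matrix.toLin'_apply]
    congr 1
    funext i
    exact mul_comm _ _
  have hKinj : Function.Injective K := by
    intro x x' hxx
    rw [hK, hK] at hxx
    obtain ⟨j, hj⟩ := Function.ne_iff.1 hβ0
    funext i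
    exact mul_right_cancel₀ hj (congrFun (hJinj hxx) (i, j))
  have hrange : LinearMap.range K ≤ W := by
    rintro _ ⟨x, rfl⟩
    rw [hK]; exact hβ x
  have h1 := Submodule.finrank_mono hrange
  rw [LinearMap.finrank_range_of_inj hKinj, Module.finrank_fin_fun] at h1
  rcases hpure with h3 | h3
  · omega
  have heq : LinearMap.range K = W := Submodule.eq_of_le_of_finrank_le hrange (by
    rw [LinearMap.finrank_range_of_inj hKinj, Module.finrank_fin_fun]; omega)
  obtain ⟨x, hx⟩ : c ∈ LinearMap.range K := by rw [heq]; exact Submodule.subset_span (by simp)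
  rw [hK] at hx
  exact hQc (hx ▸ h3 x β)

end CfsgLib.Aschbacher.OrthEven
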