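import Cfsg.Agent.Lib.Aschbacher.OrthEven.Blocks
import Cfsg.Agent.Lib.Aschbacher.OrthEven.HalfField
import Cfsg.Agent.Lib.MaxSub.NotMaximalOrth

/-!
Plus type: perpendiculars of plus subspaces, blocks, isometric halves, unitary fields.
-/

set_option autoImplicit false

namespace CfsgLib.Aschbacher.OrthEven

open Matrix Module
open CfsgLib.MaxSub.Orth

variable {F : Type*} [Field F] {ι : Type} [Fintype ι] [DecidableEq ι] {Q : (ι → F) → F}
  (hQ : Cfsg.Geo.IsNondegenerateQuadraticForm Q)

omit [DecidableEq ι] in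
/-- The perpendicular of a plus subspace of a plus space has plus type. -/
theorem plus_perp [Fintype F] {R : QuadraticForm F (ι → F)}
    (hR : (QuadraticMap.polarBilin R).Nondegenerate)
    (hplus : Cfsg.Geo.IsPlusTypeOn (⇑R) ⊤) {W : Submodule F (ι → F)}
    (hnd : ∀ x ∈ W, (∀ y ∈ W, QuadraticMap.polar R x y = 0) → x = 0)
    (hW : Cfsg.Geo.IsPlusTypeOn (⇑R) W) : Cfsg.Geo.IsPlusTypeOn (⇑R) (orth R W) := by
  obtain ⟨L, -, hL, hLd⟩ := hplus
  obtain ⟨U, hUW, hU, hUd⟩ := hW
  rw [finrank_top, Module.finrank_fintype_fun_eq_card] at hLd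
  have hV : finrank F (ι → F) = Fintype.card ι := Module.finrank_fintype_fun_eq_card F
  have hLL : orth R L = L := orth_eq_self hR (k := finrank F L) (by omega) hL rfl
  -- a maximal singular subspace through `U`
  set L' := U ⊔ (L ⊓ orth R U) with hL'
  have h1 := Submodule.finrank_sup_add_finrank_inf_eq U (L ⊓ orth R U)
  have h2 := Submodule.finrank_sup_add_finrank_inf_eq L (orth R U)
  have h3 := finrank_orth hR U
  have h4 := finrank_orth hR (L ⊔ orth R U)
  have h5 : orth R (L ⊔ orth R U) = L ⊓ U := by
    ext x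
    refine ⟨fun h => ⟨?_, ?_⟩, fun h y hy => ?_⟩
    · rw [← hLL]
      exact fun y hy => h y (Submodule.mem_sup_left hy)
    · rw [← orth_orth hR U]
      exact fun y hy => h y (Submodule.mem_sup_right hy)
    · obtain ⟨a, ha, b, hb, rfl⟩ := Submodule.mem_sup.1 hy
      show QuadraticMap.polar R (a + b) x = 0
      rw [QuadraticMap.polar_add_left, polar_eq_zero_of_sing hL ha h.1, orth_comm hb h.2, add_zero]
  have h6 : U ⊓ (L ⊓ orth R U) = L ⊓ U := by
    refine le_antisymm (le_inf (inf_le_right.trans inf_le_left) inf_le_left)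
      (le_inf inf_le_right (le_inf inf_le_left fun x hx y hy => ?_))
    exact polar_eq_zero_of_sing hU hy hx.2
  rw [h5] at h4
  rw [h6] at h1
  have hL'd : finrank F L' = finrank F L := by rw [hL']; omega
  have hL's : ∀ x ∈ L', R x = 0 := by
    rintro x hx
    obtain ⟨a, ha, b, hb, rfl⟩ := Submodule.mem_sup.1 hx
    rw [QuadraticMap.map_add R, hU a ha, hL b hb.1, show QuadraticMap.polar R a b = 0 from hb.2 a ha]
    simp
  -- its part in the perpendicular
  set P := orth R W with hP
  have h7 : finrank F W + finrank F P = finrank F (ι → F) := finrank_orth hR W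
  have hWP : W ⊓ P = ⊥ := (Submodule.eq_bot_iff _).2 fun x hx =>
    hnd x hx.1 fun y hy => orth_comm hx.2 hy
  have hUP : U ⊔ P ≤ orth R U := sup_le (fun x hx y hy => polar_eq_zero_of_sing hU hy hx)
    fun x hx y hy => hx y (hUW hy)
  have h8 := Submodule.finrank_sup_add_finrank_inf_eq U P
  have hUP0 : U ⊓ P = ⊥ := le_bot_iff.1 ((inf_le_inf_right _ hUW).trans hWP.le)
  rw [hUP0, finrank_bot] at h8
  have h9 : U ⊔ P = orth R U := Submodule.eq_of_le_of_finrank_le hUP (by omega)
  have h10 := Submodule.finrank_sup_add_finrank_inf_eq L' P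
  have h11 : L' ⊔ P ≤ orth R U := sup_le (fun x hx y hy => polar_eq_zero_of_sing hL's
    (Submodule.mem_sup_left hy) hx) (le_sup_right.trans hUP)
  have h12 := Submodule.finrank_mono h11
  have h13 := Submodule.finrank_sup_add_finrank_inf_eq U (L' ⊓ P)
  have h14 : U ⊓ (L' ⊓ P) = ⊥ := le_bot_iff.1 ((inf_le_inf_left _ inf_le_right).trans hUP0.le)
  rw [h14, finrank_bot] at h13
  have h15 := Submodule.finrank_mono (show U ⊔ L' ⊓ P ≤ L' from
    sup_le le_sup_left inf_le_left)
  refine ⟨L' ⊓ P, inf_le_right, fun x hx => hL's x hx.1, ?_⟩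
  omega

include hQ in
/-- With a root of minus one, isometric blocks in odd number of a plus space have plus type. -/
theorem plus_blocks_of_sqrt [Fintype F] {s k : ℕ} {D : Fin (s + s + 1) → Submodule F (ι → F)}
    (hD : Cfsg.Geo.IsOrthogonalMDecomposition Q k D) {c : F} (hc : c * c = -1)
    (hplus : Cfsg.Geo.IsPlusTypeOn Q ⊤) : ∀ p, Cfsg.Geo.IsPlusTypeOn Q (D p) := by
  classical
  obtain ⟨R, rfl, hR⟩ := exists_form hQ
  intro p
  have hndp := nondeg_of (R := R) (hD.decomp.nondegenerate p)
  set W := orth R (D p) with hW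
  have hn : (s + s + 1) * k = Fintype.card ι := mDecomposition_mul_eq hD.decomp.decomp
  have hV : finrank F (ι → F) = Fintype.card ι := Module.finrank_fintype_fun_eq_card F
  have hWd : finrank F (D p) + finrank F W = finrank F (ι → F) := finrank_orth hR (D p)
  rw [hD.decomp.decomp.finrank_eq, hV] at hWd
  let i : Fin s → Fin (s + s + 1) := fun a => p.succAbove ⟨a, by omega⟩
  let j : Fin s → Fin (s + s + 1) := fun a => p.succAbove ⟨s + a, by omega⟩
  have hne : ∀ a b : Fin s, i a ≠ j b := fun a b h => by
    have := congrArg Fin.val (Fin.succAbove_right_injective h)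
    simp only at this
    omega
  have hii : ∀ a b : Fin s, a ≠ b → i a ≠ i b := fun a b h h' => h (by
    have := congrArg Fin.val (Fin.succAbove_right_injective h')
    exact Fin.ext this)
  have hjj : ∀ a b : Fin s, a ≠ b → j a ≠ j b := fun a b h h' => h (by
    have := congrArg Fin.val (Fin.succAbove_right_injective h')
    simp only at this
    exact Fin.ext (by omega))
  choose e he using fun a => hD.isometric (i a) (j a)
  have hB := hQ.polar_bilinear
  let L : ((a : Fin s) → D (i a)) →ₗ[F] (ι → F) :=
    ∑ a, ((D (i a)).subtype + c • (D (j a)).subtype.comp (e a).toLinearMap).comp (LinearMap.proj a)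
  have hL : ∀ x, L x = ∑ a, ((x a : ι → F) + c • (e a (x a) : ι → F)) := fun x => by simp [L]
  have hsub : ∀ q, q ≠ p → D q ≤ W := fun q hq x hx y hy => by
    show QuadraticMap.polar R y x = 0
    exact hD.decomp.orthogonal p q hq.symm y hy x hx
  have hWplus : Cfsg.Geo.IsPlusTypeOn (⇑R) W := by
    refine plusTypeOn_of_le (U := LinearMap.range L) ?_ ?_ ?_
    · rintro _ ⟨x, rfl⟩
      rw [hL, quad_sum_orth hQ]
      · refine Finset.sum_eq_zero fun a _ => ?_
        rw [quad_add hQ, hQ.smul, he, hB.smul_right,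
          hD.decomp.orthogonal _ _ (hne a a) _ (x a).2 _ (e a (x a)).2]
        linear_combination R (x a : ι → F) * hc
      · intro a _ b _ hab
        rw [hB.add_left, hB.add_right, hB.add_right, hB.smul_left, hB.smul_left, hB.smul_right,
          hB.smul_right, hD.decomp.orthogonal _ _ (hii a b hab) _ (x a).2 _ (x b).2,
          hD.decomp.orthogonal _ _ (hne a b) _ (x a).2 _ (e b (x b)).2,
          hD.decomp.orthogonal _ _ (hne b a).symm _ (e a (x a)).2 _ (x b).2,
          hD.decomp.orthogonal _ _ (hjj a b hab) _ (e a (x a)).2 _ (e b (x b)).2]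
        ring
    · rintro _ ⟨x, rfl⟩
      rw [hL]
      exact Submodule.sum_mem _ fun a _ => add_mem (hsub _ (p.succAbove_ne _) (x a).2)
        (Submodule.smul_mem _ _ (hsub _ (p.succAbove_ne _) (e a (x a)).2))
    · have hinj : Function.Injective L := by
        rw [injective_iff_map_eq_zero]
        intro x hx
        funext a
        refine Subtype.ext ?_
        by_contra h0
        obtain ⟨-, y, hy, hne'⟩ := hD.decomp.nondegenerate (i a) _ (x a).2 h0
        refine hne' ?_
        have h := congrArg ((QuadraticMap.polarBilin R).flip y) hx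
        rw [hL, map_sum, map_zero, Finset.sum_eq_single a ?_
          (fun h => absurd (Finset.mem_univ a) h)] at h
        · simp only [LinearMap.flip_apply, QuadraticMap.polarBilin_apply_apply] at h
          rwa [hB.add_left, hB.smul_left,
            hD.decomp.orthogonal _ _ (hne a a).symm _ (e a (x a)).2 _ hy, mul_zero, add_zero] at h
        · intro b _ hba
          simp only [LinearMap.flip_apply, QuadraticMap.polarBilin_apply_apply]
          rw [hB.add_left, hB.smul_left, hD.decomp.orthogonal _ _ (hii b a hba) _ (x b).2 _ hy,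
            hD.decomp.orthogonal _ _ (hne a b).symm _ (e b (x b)).2 _ hy, mul_zero, add_zero]
      rw [LinearMap.finrank_range_of_inj hinj, Module.finrank_pi_fintype]
      simp only [hD.decomp.decomp.finrank_eq, Finset.sum_const, Finset.card_univ, Fintype.card_fin,
        smul_eq_mul]
      have : (s + s + 1) * k = k + 2 * (s * k) := by ring
      omega
  have hndW : ∀ x ∈ W, (∀ y ∈ W, QuadraticMap.polar R x y = 0) → x = 0 := by
    intro x hx h
    have hxp : x ∈ D p := by
      rw [← orth_orth hR (D p)]
      exact fun y hy => by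
        show QuadraticMap.polar R y x = 0
        rw [QuadraticMap.polar_comm]; exact h y hy
    exact hndp x hxp fun y hy => orth_comm hx hy
  have := plus_perp hR hplus hndW hWplus
  rwa [hW, orth_orth hR] at this

include hQ in
/-- Isometric subspaces have the same discriminant. -/
theorem square_of_isometric {W W' : Submodule F (ι → F)} {k : ℕ} (b : Basis (Fin k) F W)
    (b' : Basis (Fin k) F W') (hiso : Cfsg.Geo.AreIsometricFor Q W W') :
    IsSquare ((blockGram Q b).det * (blockGram Q b').det) := by
  obtain ⟨e, he⟩ := hiso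
  have hB : blockGram Q (b.map e) = blockGram Q b := Matrix.ext fun i j => by
    simp only [blockGram, Matrix.of_apply, Basis.map_apply, QuadraticMap.polar,
      ← Submodule.coe_add, ← map_add, he]
  set M := b'.toMatrix (b.map e)
  have hM : blockGram Q (b.map e) = Mᵀ * blockGram Q b' * M := Matrix.ext fun i j => by
    simp only [blockGram, Matrix.of_apply]
    rw [show QuadraticMap.polar Q ((b.map e i : W') : ι → F) _ = _ from blockGram_apply hQ b' _ _]
    simp only [Matrix.mul_apply, dotProduct, Matrix.mulVec, Matrix.transpose_apply, M,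
      Basis.toMatrix_apply, Basis.equivFun_apply, Finset.sum_mul, Finset.mul_sum, blockGram,
      Matrix.of_apply]
    rw [Finset.sum_comm]
    exact Finset.sum_congr rfl fun x _ => Finset.sum_congr rfl fun y _ => by ring
  rw [← hB, hM, Matrix.det_mul, Matrix.det_mul, Matrix.det_transpose]
  exact ⟨M.det * (blockGram Q b').det, by ring⟩

include hQ in
/-- In plus type, halves of odd dimension are isometric exactly for `q ≡ 1 (mod 4)`. -/
theorem isometric_halves_plus [Fintype F] (h2 : (2 : F) ≠ 0) {k : ℕ} (hk : Odd k)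
    {D : Fin 2 → Submodule F (ι → F)}
    (hD : Cfsg.Geo.IsNondegenerateMDecomposition (QuadraticMap.polar Q) k D)
    (hplus : Cfsg.Geo.IsPlusTypeOn Q ⊤) :
    (Fintype.card F % 4 = 1 ∧ ∀ i j, Cfsg.Geo.AreIsometricFor Q (D i) (D j)) ∨
      (Fintype.card F % 4 = 3 ∧ ¬ Cfsg.Geo.AreIsometricFor Q (D 0) (D 1)) := by
  classical
  let b : ∀ i, Basis (Fin k) F (D i) := fun i =>
    Module.finBasisOfFinrankEq F _ (hD.decomp.finrank_eq i)
  have hcard := Nat.odd_iff.1 (odd_of_two_ne_zero h2)
  have hsq : IsSquare ((-1 : F) * ((blockGram Q (b 0)).det * (blockGram Q (b 1)).det)) := by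
    have := (plus_iff_halves hQ h2 hD b).1 hplus
    rwa [hk.neg_one_pow] at this
  have h01 := mul_ne_zero (blockGram_det_ne_zero hQ (hD.nondegenerate 0) (b 0))
    (blockGram_det_ne_zero hQ (hD.nondegenerate 1) (b 1))
  have hiff := (CfsgLib.FiniteForms.isSquare_mul_iff (neg_ne_zero.2 (one_ne_zero' F)) h01).1 hsq
  by_cases hneg : IsSquare (-1 : F)
  · refine Or.inl ⟨?_, fun i j => ?_⟩
    · have := FiniteField.isSquare_neg_one_iff.1 hneg
      omega
    · refine isometric_of_det hQ h2 (hD.nondegenerate i) (hD.nondegenerate j) (b i) (b j) ?_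
      fin_cases i <;> fin_cases j
      · exact ⟨_, rfl⟩
      · exact hiff.1 hneg
      · rw [mul_comm]; exact hiff.1 hneg
      · exact ⟨_, rfl⟩
  · refine Or.inr ⟨?_, fun hiso => hneg (hiff.2 (square_of_isometric hQ (b 0) (b 1) hiso))⟩
    rw [FiniteField.isSquare_neg_one_iff, not_not] at hneg
    exact hneg

include hQ in
/-- A quadratic field of similarities in plus type needs half the dimension to be even. -/
theorem even_half_of_similarities [Fintype F] [Nonempty ι] {m : ℕ} (hn : 2 * m = Fintype.card ι)
    (hplus : Cfsg.Geo.IsPlusTypeOn Q ⊤)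
    {K : Subalgebra F (Matrix ι ι F)} (hK : Cfsg.Geo.IsFieldSubalgebra 2 K)
    (hsim : ∀ k ∈ K, ∃ c : F, ∀ v : ι → F, Q (k *ᵥ v) = c * Q v) : Even m := by
  classical
  have hB := hQ.polar_bilinear
  obtain ⟨L, -, hL, hLd⟩ := hplus
  rw [finrank_top, Module.finrank_fintype_fun_eq_card] at hLd
  let Rd : Submodule F (ι → F) :=
    { carrier := {u | ∀ k ∈ K, k *ᵥ u ∈ L}
      add_mem' := fun {a b} ha hb k hk => by rw [Matrix.mulVec_add]; exact add_mem (ha k hk) (hb k hk)
      zero_mem' := fun k _ => by rw [Matrix.mulVec_zero]; exact zero_mem _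
      smul_mem' := fun c a ha k hk => by rw [Matrix.mulVec_smul]; exact L.smul_mem c (ha k hk) }
  have hRL : Rd ≤ L := fun u hu => by simpa using hu 1 (one_mem K)
  -- a generator
  obtain ⟨w, hw, hgen⟩ : ∃ w ∈ K, ∀ k ∈ K, ∃ a b : F, k = a • (1 : Matrix ι ι F) + b • w := by
    obtain ⟨w, hw, hw'⟩ : ∃ w ∈ K, w ∉ Submodule.span F {(1 : Matrix ι ι F)} := by
      by_contra hcon
      push Not at hcon
      have h3 := Submodule.finrank_mono (show Subalgebra.toSubmodule K ≤ Submodule.span F {1} from hcon)
      rw [Subalgebra.finrank_toSubmodule, hK.finrank_eq, finrank_span_singleton one_ne_zero] at h3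
      omega
    refine ⟨w, hw, fun k hk => ?_⟩
    have hli : LinearIndependent F ![(1 : Matrix ι ι F), w] := by
      refine LinearIndependent.pair_iff.2 fun a b hab => ?_
      by_cases hb : b = 0
      · rw [hb, zero_smul, add_zero] at hab
        exact ⟨(smul_eq_zero.1 hab).resolve_right one_ne_zero, hb⟩
      · refine absurd (Submodule.mem_span_singleton.2 ⟨-(a / b), ?_⟩) hw'
        have h1 : b • w = (-a) • (1 : Matrix ι ι F) := by
          rw [neg_smul]; exact eq_neg_of_add_eq_zero_right hab
        calc (-(a / b)) • (1 : Matrix ι ι F) = b⁻¹ • ((-a) • 1) := by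
              rw [smul_smul]; congr 1; field_simp
          _ = w := by rw [← h1, smul_smul, inv_mul_cancel₀ hb, one_smul]
    have hle : Submodule.span F (Set.range ![(1 : Matrix ι ι F), w]) ≤ Subalgebra.toSubmodule K :=
      Submodule.span_le.2 (by rintro _ ⟨i, rfl⟩; fin_cases i <;> simp [hw, one_mem])
    have heq := Submodule.eq_of_le_of_finrank_le hle (by
      rw [finrank_span_eq_card hli, Fintype.card_fin, Subalgebra.finrank_toSubmodule, hK.finrank_eq])
    have hk' : k ∈ Submodule.span F (Set.range ![(1 : Matrix ι ι F), w]) := heq ▸ hk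
    obtain ⟨c, hc⟩ := (Submodule.mem_span_range_iff_exists_fun F).1 hk'
    exact ⟨c 0, c 1, by rw [← hc, Fin.sum_univ_two]; rfl⟩
  -- the alternating form on the half
  have hLpol : ∀ x ∈ L, ∀ y ∈ L, QuadraticMap.polar Q x y = 0 := fun x hx y hy => by
    simp [QuadraticMap.polar, hL x hx, hL y hy, hL _ (add_mem hx hy)]
  have halt : ∀ u ∈ L, QuadraticMap.polar Q (w *ᵥ u) u = 0 := fun u hu => by
    obtain ⟨c, hc⟩ := hsim w hw
    obtain ⟨c', hc'⟩ := hsim (1 + w) (add_mem (one_mem K) hw)
    have h := hc' u
    rw [Matrix.add_mulVec, Matrix.one_mulVec, quad_add hQ, hc, hL u hu, mul_zero, mul_zero,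
      zero_add, zero_add] at h
    rw [QuadraticMap.polar_comm]; exact h
  obtain ⟨C, hC⟩ := exists_isCompl (Rd.comap L.subtype)
  haveI : Module.Free F C := Module.Free.of_divisionRing F C
  let b := Module.finBasis F C
  let f : (Fin (finrank F C) → F) → (Fin (finrank F C) → F) → F := fun x y =>
    QuadraticMap.polar Q (w *ᵥ ((b.equivFun.symm x : L) : ι → F)) ((b.equivFun.symm y : L) : ι → F)
  have hf : Cfsg.Geo.IsBilinearForm f :=
    ⟨fun x y v => by simp only [f, map_add, Submodule.coe_add, Matrix.mulVec_add, hB.add_left],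
      fun c x v => by simp only [f, map_smul, Submodule.coe_smul, Matrix.mulVec_smul, hB.smul_left],
      fun v x y => by simp only [f, map_add, Submodule.coe_add, hB.add_right],
      fun c v x => by simp only [f, map_smul, Submodule.coe_smul, hB.smul_right]⟩
  have hCeven : Even (finrank F C) := by
    refine even_finrank_of_alternating hf (fun v => halt _ (b.equivFun.symm v : L).2) _ ⊤
      (by rw [finrank_top, Module.finrank_fin_fun]) fun x _ hx => ?_
    by_contra hcon
    push Not at hcon
    set u : L := (b.equivFun.symm x : L) with hu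
    have hskew : ∀ p q : L, QuadraticMap.polar Q (w *ᵥ (p : ι → F)) (q : ι → F) =
        -QuadraticMap.polar Q (w *ᵥ (q : ι → F)) (p : ι → F) := fun p q => by
      have h := halt _ (p + q).2
      rw [Submodule.coe_add, Matrix.mulVec_add, hB.add_left, hB.add_right, hB.add_right,
        halt _ p.2, halt _ q.2] at h
      linear_combination h
    have hall : ∀ y : L, QuadraticMap.polar Q (w *ᵥ (u : ι → F)) (y : ι → F) = 0 := by
      intro y
      obtain ⟨r, hr, c, hc, rfl⟩ := Submodule.mem_sup.1
        (show y ∈ Rd.comap L.subtype ⊔ C by rw [hC.sup_eq_top]; trivial)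
      rw [Submodule.coe_add, hB.add_right, hskew u r,
        show QuadraticMap.polar Q (w *ᵥ (r : ι → F)) (u : ι → F) = 0 from hLpol _ (hr w hw) _ u.2,
        neg_zero, zero_add]
      have h := hcon (b.equivFun ⟨c, hc⟩) trivial
      simp only [f, LinearEquiv.symm_apply_apply] at h
      exact h
    have hwu : w *ᵥ (u : ι → F) ∈ L := by
      obtain ⟨R, hRe, hR⟩ := exists_form hQ
      subst hRe
      have hV : finrank F (ι → F) = Fintype.card ι := Module.finrank_fintype_fun_eq_card F
      refine (orth_eq_self hR (k := finrank F L) (by omega) hL rfl).le ?_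
      intro y hy
      show QuadraticMap.polar R y (w *ᵥ (u : ι → F)) = 0
      rw [QuadraticMap.polar_comm]
      exact hall ⟨y, hy⟩
    have huR : (u : ι → F) ∈ Rd := fun k hk => by
      obtain ⟨a, a', rfl⟩ := hgen k hk
      rw [Matrix.add_mulVec, Matrix.smul_mulVec, Matrix.one_mulVec, Matrix.smul_mulVec]
      exact add_mem (L.smul_mem _ u.2) (L.smul_mem _ hwu)
    have hu0 : u = 0 := Submodule.disjoint_def.1 hC.disjoint u huR (b.equivFun.symm x).2
    refine hx (b.equivFun.symm.injective ?_)
    rw [map_zero]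
    exact Subtype.ext hu0
  letI : Field ↥K := (isField_of_fieldSubalgebra hK).toField
  have hR2 := dvd_finrank_invariant (K := ↥K) K.val Rd fun k u hu l hl => by
    rw [Matrix.mulVec_mulVec]
    exact hu _ (mul_mem hl k.2)
  rw [show finrank F ↥K = 2 from hK.finrank_eq] at hR2
  have hsum := Submodule.finrank_add_eq_of_isCompl hC
  rw [show finrank F (Rd.comap L.subtype) = finrank F Rd from
    (Submodule.comapSubtypeEquivOfLe hRL).finrank_eq] at hsum
  obtain ⟨p, hp⟩ := hCeven
  obtain ⟨q, hq⟩ := hR2
  exact ⟨p + q, by omega⟩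

end CfsgLib.Aschbacher.OrthEven
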