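import Cfsg.Agent.Lib.Aschbacher.OrthEven.NotTensor
import Cfsg.Agent.Lib.MaxSub.NotMaximalOrthTensor

/-!
Orthogonal sums of plus spaces and tensor products of symmetric forms.
-/

set_option autoImplicit false

namespace CfsgLib.Aschbacher.OrthEven

open Matrix Module

open scoped Kronecker

variable {F : Type*} [Field F] {ι : Type} [Fintype ι] [DecidableEq ι] {Q : (ι → F) → F}
  (hQ : Cfsg.Geo.IsNondegenerateQuadraticForm Q)

lemma plusType_of_isometric {W W' : Submodule F (ι → F)}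
    (h : Cfsg.Geo.AreIsometricFor Q W W') (hW : Cfsg.Geo.IsPlusTypeOn Q W) :
    Cfsg.Geo.IsPlusTypeOn Q W' := by
  obtain ⟨g, hg⟩ := h
  obtain ⟨U, hUW, hU, hd⟩ := hW
  let L : U →ₗ[F] (ι → F) := W'.subtype.comp (g.toLinearMap.comp (Submodule.inclusion hUW))
  have hinj : Function.Injective L := fun x y hxy => by
    have := g.injective (Subtype.val_injective hxy)
    exact Submodule.inclusion_injective hUW this
  refine plusTypeOn_of_le (U := LinearMap.range L) ?_ ?_ ?_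
  · rintro _ ⟨x, rfl⟩
    show Q _ = 0
    exact (hg _).trans (hU _ x.2)
  · rintro _ ⟨x, rfl⟩
    exact (g _).2
  · rw [LinearMap.finrank_range_of_inj hinj, hd, g.finrank_eq]

include hQ in
/-- An orthogonal sum of plus spaces has plus type. -/
theorem plus_of_plus_blocks {t k : ℕ} {D : Fin t → Submodule F (ι → F)}
    (hD : Cfsg.Geo.IsNondegenerateMDecomposition (QuadraticMap.polar Q) k D)
    (hplus : ∀ i, Cfsg.Geo.IsPlusTypeOn Q (D i)) : Cfsg.Geo.IsPlusTypeOn Q ⊤ := by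
  classical
  choose U hUD hU hUd using hplus
  let L : ((i : Fin t) → U i) →ₗ[F] (ι → F) := ∑ i, (U i).subtype.comp (LinearMap.proj i)
  have hL : ∀ z, L z = ∑ i, (z i : ι → F) := fun z => by simp [L]
  have hinj : Function.Injective L := by
    rw [injective_iff_map_eq_zero]
    intro z hz
    rw [hL] at hz
    funext i
    refine Subtype.ext ?_
    by_contra h0
    obtain ⟨⟨x, hx, hxz⟩, -⟩ := hD.nondegenerate i _ (hUD i (z i).2) h0
    refine hxz ?_
    let P : (ι → F) →ₗ[F] F :=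
      { toFun := fun v => QuadraticMap.polar Q x v
        map_add' := fun u v => hQ.polar_bilinear.add_right x u v
        map_smul' := fun c v => by simpa using hQ.polar_bilinear.smul_right c x v }
    have h1 := congrArg P hz
    rw [map_sum, map_zero, Finset.sum_eq_single i
      (fun j _ hj => show P (z j : ι → F) = 0 from hD.orthogonal i j hj.symm x hx _ (hUD j (z j).2))
      (fun h => absurd (Finset.mem_univ i) h)] at h1
    exact h1
  refine plus_top_of_singular (U := LinearMap.range L) ?_ ?_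
  · rintro _ ⟨z, rfl⟩
    rw [hL, quad_sum_orth hQ _ _ fun a _ b _ hab =>
      hD.orthogonal a b hab _ (hUD a (z a).2) _ (hUD b (z b).2)]
    exact Finset.sum_eq_zero fun i _ => hU i _ (z i).2
  · rw [LinearMap.finrank_range_of_inj hinj, Module.finrank_pi_fintype, Finset.mul_sum,
      ← mDecomposition_mul_eq hD.decomp]
    simp only [hUd, hD.decomp.finrank_eq, Finset.sum_const, Finset.card_univ, Fintype.card_fin,
      smul_eq_mul]

/-- Pure tensors in the space. -/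
def ptm {a b : ℕ} (e : ι ≃ Fin a × Fin b) (P : GL ι F) :
    (Fin a → F) →ₗ[F] (Fin b → F) →ₗ[F] (ι → F) :=
  LinearMap.mk₂ F (fun x y => (P : Matrix ι ι F) *ᵥ ((fun p => x p.1 * y p.2) ∘ e))
    (fun x x' y => by rw [← Matrix.mulVec_add]; congr 1; funext i; simp [add_mul])
    (fun c x y => by rw [← Matrix.mulVec_smul]; congr 1; funext i; simp [mul_assoc])
    (fun x y y' => by rw [← Matrix.mulVec_add]; congr 1; funext i; simp [mul_add])
    (fun c x y => by rw [← Matrix.mulVec_smul]; congr 1; funext i; simp [mul_left_comm])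

lemma ptm_form {a b : ℕ} {e : ι ≃ Fin a × Fin b} {P : GL ι F}
    {f₁ : (Fin a → F) → (Fin a → F) → F} {f₂ : (Fin b → F) → (Fin b → F) → F}
    (h₁ : Cfsg.Geo.IsBilinearForm f₁) (h₂ : Cfsg.Geo.IsBilinearForm f₂) {c : F}
    (hfr : ∀ x y : Fin a × Fin b → F,
      QuadraticMap.polar Q ((P : Matrix ι ι F) *ᵥ (x ∘ e)) ((P : Matrix ι ι F) *ᵥ (y ∘ e)) =
        c * Cfsg.Geo.formOfGram id (Cfsg.Geo.gramMatrix f₁ ⊗ₖ Cfsg.Geo.gramMatrix f₂) x y)
    (x x' : Fin a → F) (y y' : Fin b → F) :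
    QuadraticMap.polar Q (ptm e P x y) (ptm e P x' y') = c * (f₁ x x' * f₂ y y') := by
  rw [← CfsgLib.MaxSub.Orth.formOfGram_pure h₁ h₂]
  exact hfr _ _

include hQ in
/-- A totally singular half of a symmetric factor gives plus type. -/
theorem plus_of_plus_factor {a b : ℕ} (h2 : (2 : F) ≠ 0) (e : ι ≃ Fin a × Fin b) (P : GL ι F)
    {f₁ : (Fin a → F) → (Fin a → F) → F} {f₂ : (Fin b → F) → (Fin b → F) → F}
    (h₁ : Cfsg.Geo.IsSymmetricForm f₁) (h₂ : Cfsg.Geo.IsSymmetricForm f₂)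
    (hfr : Cfsg.Geo.IsTensorFormStructure id (QuadraticMap.polar Q) f₁ f₂ e P)
    (hplus : Cfsg.Geo.IsPlusTypeOn (fun v : Fin b → F => f₂ v v) ⊤) :
    Cfsg.Geo.IsPlusTypeOn Q ⊤ := by
  obtain ⟨c, -, hc⟩ := hfr
  obtain ⟨U, -, hU, hUd⟩ := hplus
  rw [finrank_top, Module.finrank_fin_fun] at hUd
  have hUpol : ∀ y ∈ U, ∀ y' ∈ U, f₂ y y' = 0 := fun y hy y' hy' => by
    have h := hU _ (U.add_mem hy hy')
    have h1 := hU y hy
    have h3 := hU y' hy'
    simp only at h h1 h3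
    rw [h₂.bilinear.add_left, h₂.bilinear.add_right, h₂.bilinear.add_right, h1, h3,
      h₂.symm y' y] at h
    exact (mul_eq_zero.1 (show (2 : F) * f₂ y y' = 0 by linear_combination h)).resolve_left h2
  let L : (Fin a → U) →ₗ[F] (ι → F) :=
    ∑ i, ((ptm e P (Pi.single i 1)).comp U.subtype).comp (LinearMap.proj i)
  have hL : ∀ z, L z = ∑ i, ptm e P (Pi.single i 1) (z i : Fin b → F) := fun z => by simp [L]
  have hinj : Function.Injective L := by
    rw [injective_iff_map_eq_zero]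
    intro z hz
    have h : L z = (P : Matrix ι ι F) *ᵥ ((fun p => (z p.1 : Fin b → F) p.2) ∘ e) := by
      rw [hL]
      simp only [ptm, LinearMap.mk₂_apply, ← Matrix.mulVec_sum]
      congr 1
      funext i
      simp [Finset.sum_apply, Pi.single_apply]
    rw [hz] at h
    funext i
    refine Subtype.ext (funext fun j => ?_)
    have := congrFun (mulVec_injective P (h.symm.trans (Matrix.mulVec_zero _).symm)) (e.symm (i, j))
    simpa using this
  refine plus_top_of_singular (U := LinearMap.range L) (tsQuad_of_tsPolar hQ h2 ?_) ?_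
  · rintro _ ⟨z, rfl⟩ _ ⟨z', rfl⟩
    have hB := hQ.polar_bilinear
    rw [hL, bilinear_sum_left' hB]
    refine Finset.sum_eq_zero fun i _ => ?_
    rw [QuadraticMap.polar_comm, hL, bilinear_sum_left' hB]
    refine Finset.sum_eq_zero fun j _ => ?_
    rw [ptm_form h₁.bilinear h₂.bilinear hc, hUpol _ (z' j).2 _ (z i).2, mul_zero, mul_zero]
  · rw [LinearMap.finrank_range_of_inj hinj, Module.finrank_pi_fintype, Finset.sum_const,
      Finset.card_univ, Fintype.card_fin, smul_eq_mul, Fintype.card_congr e, Fintype.card_prod,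
      Fintype.card_fin, Fintype.card_fin, mul_left_comm, hUd]
where
  bilinear_sum_left' {f : (ι → F) → (ι → F) → F} (hf : Cfsg.Geo.IsBilinearForm f) {κ : Type}
      [Fintype κ] {v : κ → ι → F} {w : ι → F} : f (∑ i, v i) w = ∑ i, f (v i) w :=
    map_sum (AddMonoidHom.mk' (fun x => f x w) fun x y => hf.add_left x y w) v Finset.univ

include hQ in
/-- Over three elements a three-dimensional factor gives an orthogonal decomposition. -/
theorem decomp_of_three_factor [Fintype F] (hq : Fintype.card F = 3) {b : ℕ} (hb : 0 < b)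
    (e : ι ≃ Fin 3 × Fin b) (P : GL ι F)
    {f₁ : (Fin 3 → F) → (Fin 3 → F) → F} {f₂ : (Fin b → F) → (Fin b → F) → F}
    (h₁ : Cfsg.Geo.IsSymmetricForm f₁) (h₂ : Cfsg.Geo.IsSymmetricForm f₂)
    (hfr : Cfsg.Geo.IsTensorFormStructure id (QuadraticMap.polar Q) f₁ f₂ e P)
    {H : Subgroup (GL ι F)} (hH : H ≤ Cfsg.isometryGroup F Q)
    (hle : H ≤ Cfsg.Geo.tensorProductSubgroup 3 b e P) :
    ∃ D : Fin 3 → Submodule F (ι → F), Cfsg.Geo.IsOrthogonalMDecomposition Q b D ∧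
      H ≤ Cfsg.Geo.decompositionStabilizer D := by
  classical
  obtain ⟨h2, -⟩ := CfsgLib.MaxSub.Orth.field_three hq
  obtain ⟨c, hc0, hfr⟩ := hfr
  have hpol := ptm_form (Q := Q) h₁.bilinear h₂.bilinear hfr
  have hB := hQ.polar_bilinear
  set G := Cfsg.Geo.gramMatrix f₁ with hG
  have hGt : Gᵀ = G := Matrix.ext fun i j => h₁.symm _ _
  have hf₁ : ∀ x y, f₁ x y = x ⬝ᵥ (G *ᵥ y) := fun x y => by
    rw [CfsgLib.MaxSub.Orth.bilin_expand h₁.bilinear, hG]
    simp only [dotProduct, Matrix.mulVec, Finset.mul_sum, mul_assoc]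
  have hGu : IsUnit G := by
    rw [Matrix.isUnit_iff_isUnit_det, isUnit_iff_ne_zero]
    intro h0
    obtain ⟨v, hv0, hv⟩ := Matrix.exists_mulVec_eq_zero_iff.2 h0
    obtain ⟨⟨x, hx⟩, -⟩ := h₁.nondegenerate v hv0
    exact hx (by rw [hf₁, hv, dotProduct_zero])
  obtain ⟨C, l, hl, hC⟩ := exists_similar h2 (by decide : Odd 3) hGt Matrix.transpose_one hGu
    isUnit_one
  have hfC : ∀ x y, f₁ ((C : Matrix (Fin 3) (Fin 3) F) *ᵥ x) ((C : Matrix (Fin 3) (Fin 3) F) *ᵥ y) =
      l * (x ⬝ᵥ y) := fun x y => by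
    rw [hf₁, ← Matrix.vecMul_transpose (C : Matrix (Fin 3) (Fin 3) F) x, ← Matrix.dotProduct_mulVec,
      Matrix.mulVec_mulVec, Matrix.mulVec_mulVec, hC, Matrix.smul_mulVec,
      Matrix.one_mulVec, dotProduct_smul, smul_eq_mul]
  set w : Fin 3 → Fin 3 → F := fun i => (C : Matrix (Fin 3) (Fin 3) F) *ᵥ Pi.single i 1 with hw
  have hww : ∀ i j, f₁ (w i) (w j) = if i = j then l else 0 := fun i j => by
    rw [hw, hfC, single_dotProduct, one_mul, Pi.single_apply]
    split_ifs <;> simp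
  let D : Fin 3 → Submodule F (ι → F) := fun i => LinearMap.range (ptm e P (w i))
  have hw0 : ∀ i, w i ≠ 0 := fun i h => by
    have := hww i i
    rw [if_pos rfl, h] at this
    exact hl (this.symm.trans (by simpa using h₁.bilinear.smul_left 0 0 0))
  have hinj : ∀ i, Function.Injective (ptm e P (w i)) := fun i y y' h => by
    obtain ⟨k, hk⟩ := Function.ne_iff.1 (hw0 i)
    funext j
    have := congrFun (mulVec_injective P (show (P : Matrix ι ι F) *ᵥ _ = (P : Matrix ι ι F) *ᵥ _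
      from h)) (e.symm (k, j))
    exact mul_left_cancel₀ hk (by simpa using this)
  have horth : ∀ i j, i ≠ j → Cfsg.Geo.AreOrthogonalFor (QuadraticMap.polar Q) (D i) (D j) := by
    rintro i j hij _ ⟨y, rfl⟩ _ ⟨y', rfl⟩
    rw [hpol, hww, if_neg hij, zero_mul, mul_zero]
  have hnd : ∀ i, Cfsg.Geo.IsNondegenerateOn (QuadraticMap.polar Q) (D i) := by
    rintro i _ ⟨y, rfl⟩ hy
    obtain ⟨⟨z, hz⟩, -⟩ := h₂.nondegenerate y fun h => hy (by rw [h, map_zero])
    have hne : QuadraticMap.polar Q (ptm e P (w i) z) (ptm e P (w i) y) ≠ 0 := by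
      rw [hpol, hww, if_pos rfl]
      exact mul_ne_zero hc0 (mul_ne_zero hl hz)
    exact ⟨⟨_, ⟨z, rfl⟩, hne⟩, _, ⟨z, rfl⟩, by rwa [QuadraticMap.polar_comm]⟩
  have hdec : Cfsg.Geo.IsMDecomposition b D := by
    refine ⟨by norm_num, hb, fun i => by
      rw [LinearMap.finrank_range_of_inj (hinj i), Module.finrank_fin_fun], ?_, ?_⟩
    · refine iSupIndep_def.2 fun i => Submodule.disjoint_def.2 fun v hvi hv => ?_
      by_contra hv0
      obtain ⟨⟨x, hx, hxv⟩, -⟩ := hnd i v hvi hv0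
      let L : (ι → F) →ₗ[F] F :=
        { toFun := fun y => QuadraticMap.polar Q x y
          map_add' := fun p q => hB.add_right x p q
          map_smul' := fun d p => by simpa using hB.smul_right d x p }
      have hker : (⨆ (j) (_ : j ≠ i), D j) ≤ LinearMap.ker L :=
        iSup₂_le fun j hj y hy => horth i j hj.symm x hx y hy
      exact hxv (hker hv)
    · refine Submodule.eq_top_iff'.2 fun v => ?_
      let z : Fin 3 × Fin b → F := (((P⁻¹ : GL ι F) : Matrix ι ι F) *ᵥ v) ∘ e.symm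
      let d : Fin b → Fin 3 → F := fun j =>
        ((C⁻¹ : GL (Fin 3) F) : Matrix (Fin 3) (Fin 3) F) *ᵥ fun k => z (k, j)
      have hv : v = ∑ i, ptm e P (w i) (fun j => d j i) := by
        simp only [ptm, LinearMap.mk₂_apply, ← Matrix.mulVec_sum]
        conv_lhs => rw [← mulVec_inv_cancel P v]
        congr 1
        funext k
        obtain ⟨⟨p, q⟩, rfl⟩ := e.symm.surjective k
        simp only [Finset.sum_apply, Function.comp_apply, Equiv.apply_symm_apply]
        have h1 : ((C : Matrix (Fin 3) (Fin 3) F) *ᵥ d q) p = z (p, q) :=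
          congrFun (mulVec_inv_cancel C _) p
        rw [show (((P⁻¹ : GL ι F) : Matrix ι ι F) *ᵥ v) (e.symm (p, q)) = z (p, q) from rfl, ← h1]
        simp [Matrix.mulVec, dotProduct, hw, Pi.single_apply]
      rw [hv]
      exact Submodule.sum_mem _ fun i _ => le_iSup D i ⟨_, rfl⟩
  refine ⟨D, ⟨⟨hdec, hnd, horth⟩, fun i j => ?_⟩, fun g hg => ?_⟩
  · let φ : ∀ k, (Fin b → F) ≃ₗ[F] D k := fun k => LinearEquiv.ofInjective _ (hinj k)
    refine ⟨(φ i).symm.trans (φ j), fun v => ?_⟩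
    obtain ⟨y, rfl⟩ := (φ i).surjective v
    rw [LinearEquiv.trans_apply, LinearEquiv.symm_apply_apply]
    show Q (ptm e P (w j) y) = Q (ptm e P (w i) y)
    refine mul_left_cancel₀ h2 ?_
    rw [← polar_self hQ, ← polar_self hQ, hpol, hpol, hww, hww, if_pos rfl, if_pos rfl]
  -- the stabiliser
  have hT := hle hg
  rw [Cfsg.Geo.tensorProductSubgroup, map_glReindex_conj] at hT
  obtain ⟨X, ⟨A, B, hX⟩, hXg⟩ := hT
  have hgp : ∀ x y, (g : Matrix ι ι F) *ᵥ ptm e P x y =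
      ptm e P ((A : Matrix (Fin 3) (Fin 3) F) *ᵥ x) ((B : Matrix (Fin b) (Fin b) F) *ᵥ y) := by
    intro x y
    rw [← hXg, MulEquiv.coe_toMonoidHom, frU_val]
    show frAlg e P _ *ᵥ ((P : Matrix ι ι F) *ᵥ (pv x y ∘ e)) = _
    rw [frAlg_mulVec, hX, kron_mulVec_pv]
    rfl
  have hkey : ∀ x x' y y', f₁ ((A : Matrix (Fin 3) (Fin 3) F) *ᵥ x) ((A : Matrix _ _ F) *ᵥ x') *
      f₂ ((B : Matrix (Fin b) (Fin b) F) *ᵥ y) ((B : Matrix _ _ F) *ᵥ y') = f₁ x x' * f₂ y y' := by
    intro x x' y y'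
    refine mul_left_cancel₀ hc0 ?_
    rw [← hpol, ← hgp, ← hgp, ← hpol]
    exact isometry_apply (fixesPolar_of_le hH) hg _ _
  obtain ⟨u, hu, hA⟩ : ∃ u, u ≠ 0 ∧ ∀ x x', f₁ ((A : Matrix (Fin 3) (Fin 3) F) *ᵥ x)
      ((A : Matrix _ _ F) *ᵥ x') = u * f₁ x x' := by
    let y₀ : Fin b → F := Pi.single ⟨0, hb⟩ 1
    obtain ⟨⟨y', hy'⟩, -⟩ := h₂.nondegenerate y₀ (by simp [y₀])
    have h := hkey (w 0) (w 0) y' y₀
    have hne : f₂ ((B : Matrix (Fin b) (Fin b) F) *ᵥ y') ((B : Matrix _ _ F) *ᵥ y₀) ≠ 0 := fun h0 => by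
      rw [h0, mul_zero, hww, if_pos rfl] at h
      exact mul_ne_zero hl hy' h.symm
    refine ⟨f₂ y' y₀ / f₂ _ _, div_ne_zero hy' hne, fun x x' => ?_⟩
    rw [div_mul_eq_mul_div, eq_div_iff hne, hkey, mul_comm]
  set M := ((C⁻¹ : GL (Fin 3) F) : Matrix (Fin 3) (Fin 3) F) * (A : Matrix (Fin 3) (Fin 3) F) *
    (C : Matrix (Fin 3) (Fin 3) F) with hM
  have hCM : ∀ x, (C : Matrix (Fin 3) (Fin 3) F) *ᵥ (M *ᵥ x) =
      (A : Matrix (Fin 3) (Fin 3) F) *ᵥ ((C : Matrix (Fin 3) (Fin 3) F) *ᵥ x) := fun x => by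
    rw [hM, ← Matrix.mulVec_mulVec, ← Matrix.mulVec_mulVec, mulVec_inv_cancel]
  have hMM : Mᵀ * M = u • (1 : Matrix (Fin 3) (Fin 3) F) := by
    refine Matrix.ext fun i j => mul_left_cancel₀ hl ?_
    have h := hA (w i) (w j)
    rw [hww, show (A : Matrix (Fin 3) (Fin 3) F) *ᵥ w i = _ from (hCM _).symm,
      show (A : Matrix (Fin 3) (Fin 3) F) *ᵥ w j = _ from (hCM _).symm, hfC] at h
    have h' : (Mᵀ * M) i j = (M *ᵥ Pi.single i 1) ⬝ᵥ (M *ᵥ Pi.single j 1) := by
      simp [Matrix.mul_apply, dotProduct, Matrix.mulVec_single_one]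
    rw [h', h, Matrix.smul_apply, Matrix.one_apply]
    split_ifs <;> simp [mul_comm]
  refine CfsgLib.MaxSub.Decomp.mem_stab_of hdec fun i => ?_
  obtain ⟨k, z, hz⟩ := monomial_of_similar hq hu hMM i
  refine ⟨k, ?_⟩
  rintro _ ⟨y, rfl⟩
  refine ⟨z • ((B : Matrix (Fin b) (Fin b) F) *ᵥ y), ?_⟩
  have hAw : (A : Matrix (Fin 3) (Fin 3) F) *ᵥ w i = z • w k := by
    rw [hw]
    dsimp only
    rw [← hCM, hz, Matrix.mulVec_smul]
  rw [hgp, hAw, map_smul, map_smul, LinearMap.smul_apply]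

end CfsgLib.Aschbacher.OrthEven
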