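import Cfsg.Agent.Lib.Aschbacher.OrthEven.PlusBlocks
import Cfsg.Agent.Lib.Aschbacher.OrthEven.SymTensor
import Cfsg.Agent.Lib.Aschbacher.PlaneTensor

/-!
Plus type in dimension twelve: halves of the same type, and the tensor product of a three-space and
a plus four-space inside the product of a plane and a six-space.
-/

set_option autoImplicit false

namespace CfsgLib.Aschbacher.OrthEven

open Matrix Module
open CfsgLib.MaxSub.Orth

open scoped Kronecker

variable {F : Type*} [Field F] {ι : Type} [Fintype ι] [DecidableEq ι] {Q : (ι → F) → F}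
  (hQ : Cfsg.Geo.IsNondegenerateQuadraticForm Q)

omit [Fintype ι] [DecidableEq ι] in
/-- Two non-roots of the Artin–Schreier map differ by a value. -/
lemma artin_schreier_diff [Fintype F] (h2 : (2 : F) = 0) {a a' : F} (ha : ∀ t : F, t ^ 2 + t + a ≠ 0)
    (ha' : ∀ t : F, t ^ 2 + t + a' ≠ 0) : ∃ z : F, z * z + z = a + a' := by
  classical
  let AS : F →+ F := AddMonoidHom.mk' (fun z => z * z + z) fun p q => by
    linear_combination (p * q) * h2
  have hker : Nat.card AS.ker = 2 := by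
    have : (AS.ker : Set F) = {0, 1} := by
      ext z
      refine ⟨fun h => ?_, ?_⟩
      · have h' : z * (z + 1) = 0 := by
          have : z * z + z = 0 := h
          linear_combination this
        rcases mul_eq_zero.1 h' with h | h
        · exact Or.inl h
        · exact Or.inr (show z = 1 by linear_combination h - h2)
      · rintro (rfl | rfl)
        · show (0 : F) * 0 + 0 = 0
          ring
        · show (1 : F) * 1 + 1 = 0
          linear_combination h2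
    rw [show Nat.card AS.ker = Set.ncard (AS.ker : Set F) from Nat.card_coe_set_eq _, this,
      Set.ncard_pair zero_ne_one]
  have hidx : AS.range.index = 2 := by rw [AddSubgroup.index_range, hker]
  have hn : ∀ b : F, (∀ t : F, t ^ 2 + t + b ≠ 0) → b ∉ AS.range := by
    rintro b hb ⟨z, hz⟩
    have hz' : z * z + z = b := hz
    exact hb z (by linear_combination hz' + b * h2)
  exact (AddSubgroup.add_mem_iff_of_index_two hidx).2 (iff_of_false (hn a ha) (hn a' ha'))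

include hQ in
/-- Complementary halves of a plus space are isometric in even dimension. -/
theorem isometric_halves_of_plus [Fintype F] {k : ℕ} (hk : Even k) (hk0 : 0 < k)
    {D : Fin 2 → Submodule F (ι → F)}
    (hD : Cfsg.Geo.IsNondegenerateMDecomposition (QuadraticMap.polar Q) k D)
    (hplus : Cfsg.Geo.IsPlusTypeOn Q ⊤) :
    ∀ i j, Cfsg.Geo.AreIsometricFor Q (D i) (D j) := by
  classical
  suffices h : Cfsg.Geo.AreIsometricFor Q (D 0) (D 1) by
    obtain ⟨e, he⟩ := h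
    intro i j
    fin_cases i <;> fin_cases j
    · exact ⟨LinearEquiv.refl F _, fun w => rfl⟩
    · exact ⟨e, he⟩
    · exact ⟨e.symm, fun w => by simpa using (he (e.symm w)).symm⟩
    · exact ⟨LinearEquiv.refl F _, fun w => rfl⟩
  by_cases h2 : (2 : F) = 0
  swap
  · let b : ∀ i, Basis (Fin k) F (D i) := fun i =>
      Module.finBasisOfFinrankEq F _ (hD.decomp.finrank_eq i)
    have hsq := (plus_iff_halves hQ h2 hD b).1 hplus
    rw [hk.neg_one_pow, one_mul] at hsq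
    exact isometric_of_det hQ h2 (hD.nondegenerate 0) (hD.nondegenerate 1) (b 0) (b 1) hsq
  obtain ⟨m, rfl⟩ := hk
  obtain ⟨R, rfl, hR⟩ := exists_form hQ
  let S : ∀ i : Fin 2, QuadraticForm F (D i) := fun i => R.comp (D i).subtype
  have hS : ∀ i (w : D i), S i w = R (w : ι → F) := fun i w => rfl
  have hpolS : ∀ i (v w : D i),
      QuadraticMap.polar (S i) v w = QuadraticMap.polar R (v : ι → F) w := fun i v w => rfl
  have hSnd : ∀ i, CfsgLib.FiniteForms.PolarNondeg (S i) := fun i x hx =>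
    Subtype.ext (nondeg_of (R := R) (hD.nondegenerate i) x x.2 fun y hy => hx ⟨y, hy⟩)
  have hdim : ∀ i, finrank F (D i) = 2 * m := fun i => by rw [hD.decomp.finrank_eq]; ring
  -- hyperbolic halves have plus type, elliptic halves do not
  have hplusD : ∀ i, (∃ e f : Fin m → D i, CfsgLib.FiniteForms.HypFam (S i) e f) →
      Cfsg.Geo.IsPlusTypeOn (⇑R) (D i) := by
    rintro i ⟨e, f, h⟩
    refine plusTypeOn_of_le (U := (Submodule.span F (Set.range e)).map (D i).subtype) ?_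
      (Submodule.map_subtype_le _ _) ?_
    · rintro _ ⟨v, hv, rfl⟩
      obtain ⟨c, rfl⟩ := (Submodule.mem_span_range_iff_exists_fun F).1 hv
      exact CfsgLib.FiniteForms.quad_sum_eq_zero (Q := S i) _ _ _ h.qe h.ee
    · rw [(Submodule.equivMapOfInjective _ (D i).subtype_injective _).finrank_eq.symm,
        finrank_span_eq_card (R := F) (b := e)
          (h.linearIndependent.comp Sum.inl Sum.inl_injective),
        Fintype.card_fin, hdim]
  have hminusD : ∀ i, (∃ (e f : Fin (m - 1) → D i) (x y : D i),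
      CfsgLib.FiniteForms.HypFam (S i) e f ∧ x ∈ CfsgLib.FiniteForms.famPerp (S i) e f ∧
      y ∈ CfsgLib.FiniteForms.famPerp (S i) e f ∧ S i x = 1 ∧
      QuadraticMap.polar (S i) x y = 1 ∧ (∀ t : F, t ^ 2 + t + S i y ≠ 0) ∧
      LinearIndependent F ![x, y]) → ¬ Cfsg.Geo.IsPlusTypeOn (⇑R) (D i) := by
    rintro i ⟨e, f, x, y, h, hx, hy, hQx, hxy, hroot, hli⟩ ⟨U, hUW, hU, hUd⟩
    obtain ⟨g, hg⟩ := CfsgLib.FiniteForms.isometry_of_elliptic h hx hy hxy hQx hli
      (by rw [hdim]; omega)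
    have h1 := CfsgLib.FiniteForms.minus_totally_singular_le
      (CfsgLib.FiniteForms.anisotropic_of_no_root hroot)
      ((U.comap (D i).subtype).map g.toLinearMap) (by
        rintro _ ⟨u, hu, rfl⟩
        show Cfsg.quadFormMinus _ F 1 (S i y) (g u) = 0
        rw [← hg]
        exact hU _ hu)
    rw [LinearEquiv.finrank_map_eq, (Submodule.comapSubtypeEquivOfLe hUW).finrank_eq] at h1
    rw [hdim] at hUd
    omega
  have hswap : ∀ i j : Fin 2, i ≠ j → Cfsg.Geo.IsPlusTypeOn (⇑R) (D i) →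
      Cfsg.Geo.IsPlusTypeOn (⇑R) (D j) := by
    intro i j hij hi
    have hle : D j ≤ orth R (D i) := fun y hy x hx => hD.orthogonal i j hij x hx y hy
    have h1 := finrank_orth hR (D i)
    rw [hdim, Module.finrank_fintype_fun_eq_card, ← mDecomposition_mul_eq hD.decomp] at h1
    rw [Submodule.eq_of_le_of_finrank_le hle (by rw [hdim]; omega)]
    exact plus_perp hR hplus (nondeg_of (hD.nondegenerate i)) hi
  have hm1 : 1 ≤ m := by omega
  rcases CfsgLib.FiniteForms.even_dichotomy (hSnd 0) hm1 (hdim 0) with h0 | h0 <;>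
    rcases CfsgLib.FiniteForms.even_dichotomy (hSnd 1) hm1 (hdim 1) with h1 | h1
  · obtain ⟨e, f, h⟩ := h0
    obtain ⟨e', f', h'⟩ := h1
    obtain ⟨g, hg⟩ := CfsgLib.FiniteForms.isometry_of_hypFam h (hdim 0)
    obtain ⟨g', hg'⟩ := CfsgLib.FiniteForms.isometry_of_hypFam h' (hdim 1)
    refine ⟨g.trans g'.symm, fun w => ?_⟩
    show S 1 (g'.symm (g w)) = S 0 w
    rw [hg', LinearEquiv.apply_symm_apply, hg]
  · exact absurd (hswap 0 1 (by decide) (hplusD 0 h0)) (hminusD 1 h1)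
  · exact absurd (hswap 1 0 (by decide) (hplusD 1 h1)) (hminusD 0 h0)
  · obtain ⟨e, f, x, y, h, hx, hy, hQx, hxy, hroot, hli⟩ := h0
    obtain ⟨e', f', x', y', h', hx', hy', hQx', hxy', hroot', hli'⟩ := h1
    obtain ⟨z, hz⟩ := artin_schreier_diff h2 hroot hroot'
    obtain ⟨y'', hy''⟩ : ∃ v, v = y' + z • x' := ⟨_, rfl⟩
    have hym : y'' ∈ CfsgLib.FiniteForms.famPerp (S 1) e' f' :=
      hy'' ▸ add_mem hy' (Submodule.smul_mem _ _ hx')
    have hxy'' : QuadraticMap.polar (S 1) x' y'' = 1 := by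
      rw [hy'', QuadraticMap.polar_add_right, QuadraticMap.polar_smul_right, QuadraticMap.polar_self,
        hxy', hQx', smul_eq_mul]
      simp [h2]
    have hQy : S 1 y'' = S 0 y := by
      rw [hy'', QuadraticMap.map_add (S 1), QuadraticMap.map_smul, QuadraticMap.polar_smul_right,
        QuadraticMap.polar_comm (S 1) y' x', hxy', hQx', smul_eq_mul, smul_eq_mul]
      linear_combination hz + (S 1 y') * h2
    have hli'' : LinearIndependent F ![x', y''] := by
      refine LinearIndependent.pair_iff.2 fun p q hpq => ?_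
      have h1 := congrArg (fun v => QuadraticMap.polarBilin (S 1) x' v) hpq
      simp [QuadraticMap.polar_self, hQx', hxy'', h2] at h1
      rw [h1, zero_smul, add_zero] at hpq
      exact ⟨(smul_eq_zero.1 hpq).resolve_right (by simpa using hli'.ne_zero 0), h1⟩
    obtain ⟨g, hg⟩ := CfsgLib.FiniteForms.isometry_of_elliptic h hx hy hxy hQx hli
      (by rw [hdim]; omega)
    obtain ⟨g', hg'⟩ := CfsgLib.FiniteForms.isometry_of_elliptic h' hx' hym hxy'' hQx' hli''
      (by rw [hdim]; omega)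
    refine ⟨g.trans g'.symm, fun w => ?_⟩
    show S 1 (g'.symm (g w)) = S 0 w
    rw [hg', LinearEquiv.apply_symm_apply, hg, hQy]

omit [DecidableEq ι] in
lemma det_eq_one_of_mem_omega [DecidableEq ι] {g : GL ι F} (hg : g ∈ Cfsg.Geo.omegaGL Q) :
    (g : Matrix ι ι F).det = 1 := by
  obtain ⟨x, hx, rfl⟩ := hg
  let φ : Cfsg.isometryGroup F Q →* Fˣ :=
    (Matrix.GeneralLinearGroup.det).comp (Cfsg.isometryGroup F Q).subtype
  have h : φ x = 1 := Abelianization.commutator_subset_ker φ hx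
  exact congrArg Units.val h

include hQ in
/-- A three-space tensor a plus four-space inside a plane tensor a six-space. -/
theorem alt_of_sym_three_four [Fintype F] (h2 : (2 : F) ≠ 0) (hplus : Cfsg.Geo.IsPlusTypeOn Q ⊤)
    (e : ι ≃ Fin 3 × Fin 4) (P : GL ι F)
    {f₁ : (Fin 3 → F) → (Fin 3 → F) → F} {f₂ : (Fin 4 → F) → (Fin 4 → F) → F}
    (h₁ : Cfsg.Geo.IsSymmetricForm f₁) (h₂ : Cfsg.Geo.IsSymmetricForm f₂)
    (hfr : Cfsg.Geo.IsTensorFormStructure id (QuadraticMap.polar Q) f₁ f₂ e P)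
    {H : Subgroup (GL ι F)} (hH : H ≤ Cfsg.Geo.omegaGL Q)
    (hle : H ≤ Cfsg.Geo.tensorProductSubgroup 3 4 e P) :
    ∃ (e' : ι ≃ Fin 2 × Fin 6) (P' : GL ι F) (g₁ : (Fin 2 → F) → (Fin 2 → F) → F)
      (g₂ : (Fin 6 → F) → (Fin 6 → F) → F), Cfsg.Geo.IsSymplecticForm g₁ ∧
      Cfsg.Geo.IsSymplecticForm g₂ ∧
      Cfsg.Geo.IsTensorFormStructure id (QuadraticMap.polar Q) g₁ g₂ e' P' ∧
      (∀ (x₁ : Fin 2 → F) (x₂ : Fin 6 → F),
        Q ((P' : Matrix ι ι F) *ᵥ ((fun a : Fin 2 × Fin 6 => x₁ a.1 * x₂ a.2) ∘ e')) = 0) ∧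
      H ≤ Cfsg.Geo.tensorProductSubgroup 2 6 e' P' := by
  classical
  obtain ⟨c, hc, hT⟩ := hfr
  have hs₁ : IsSesq (RingEquiv.refl F) f₁ := isSesq_of_bilinear h₁.bilinear
  have hs₂ : IsSesq (RingEquiv.refl F) f₂ := isSesq_of_bilinear h₂.bilinear
  set G₁ := Cfsg.Geo.gramMatrix f₁ with hG₁
  have hG₁u : IsUnit G₁ := hs₁.gram_isUnit h₁.nondegenerate
  have hG₁s : G₁ᵀ = G₁ := Matrix.ext fun i j => h₁.symm _ _
  let fp : Fin 4 ≃ Fin 2 × Fin 2 := (finProdFinEquiv (m := 2) (n := 2)).symm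
  obtain ⟨G, hG⟩ : ∃ G, (Cfsg.Geo.gramMatrix f₂).submatrix fp.symm fp.symm = G := ⟨_, rfl⟩
  have hGu : IsUnit G := hG ▸ (Matrix.isUnit_submatrix_equiv fp.symm fp.symm).2
    (hs₂.gram_isUnit h₂.nondegenerate)
  have hGs : Gᵀ = G := by
    rw [← hG]; ext i j; exact h₂.symm _ _
  let e₁ : ι ≃ Fin 3 × (Fin 2 × Fin 2) := e.trans (Equiv.prodCongr (Equiv.refl _) fp)
  have hkron : (Cfsg.Geo.gramMatrix f₁ ⊗ₖ Cfsg.Geo.gramMatrix f₂).submatrix
      (Equiv.prodCongr (Equiv.refl (Fin 3)) fp).symm (Equiv.prodCongr (Equiv.refl (Fin 3)) fp).symm =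
      G₁ ⊗ₖ G := by
    rw [← hG]
    ext p r
    simp [hG₁]
  have hT' : ∀ x y : Fin 3 × (Fin 2 × Fin 2) → F,
      QuadraticMap.polar Q ((P : Matrix ι ι F) *ᵥ (x ∘ e₁)) ((P : Matrix ι ι F) *ᵥ (y ∘ e₁)) =
        c * (x ⬝ᵥ ((G₁ ⊗ₖ G) *ᵥ y)) := by
    intro x y
    refine (hT (x ∘ Equiv.prodCongr (Equiv.refl _) fp) (y ∘ Equiv.prodCongr (Equiv.refl _) fp)).trans ?_
    congr 1
    rw [formOfGram_eq, Function.id_comp, ← hkron, Matrix.submatrix_mulVec_equiv]
    simp only [dotProduct]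
    rw [← (Equiv.prodCongr (Equiv.refl (Fin 3)) fp).sum_comp]
    simp [Function.comp_def, hG₁, Prod.map]
  -- the second factor has plus type
  obtain ⟨C, hC⟩ : ∃ C : GL (Fin 2 × Fin 2) F,
      (C : Matrix (Fin 2 × Fin 2) (Fin 2 × Fin 2) F)ᵀ * G *
        (C : Matrix (Fin 2 × Fin 2) (Fin 2 × Fin 2) F) = planePair F := by
    let b := (Pi.basisFun F ι).reindex e₁
    have hbv : ∀ p, (P : Matrix ι ι F) *ᵥ ((Pi.single p 1 : Fin 3 × (Fin 2 × Fin 2) → F) ∘ e₁) =
        (b.map (Matrix.GeneralLinearGroup.toLin P).toLinearEquiv) p := fun p => by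
      rw [Basis.map_apply, Basis.reindex_apply, Pi.basisFun_apply]
      show _ = (P : Matrix ι ι F) *ᵥ _
      congr 1
      funext i
      simp [Pi.single_apply, Equiv.eq_symm_apply]
    have hsq := (plus_iff_disc hQ h2 (b.map (Matrix.GeneralLinearGroup.toLin P).toLinearEquiv)
      (m := 6) (by simp)).1 hplus
    have hmat : (Matrix.of fun i j => QuadraticMap.polar Q
        ((b.map (Matrix.GeneralLinearGroup.toLin P).toLinearEquiv) i)
        ((b.map (Matrix.GeneralLinearGroup.toLin P).toLinearEquiv) j)) = c • (G₁ ⊗ₖ G) := by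
      ext i j
      rw [Matrix.of_apply, ← hbv, ← hbv, hT', Matrix.mulVec_single_one, single_dotProduct, one_mul,
        Matrix.col_apply, Matrix.smul_apply, smul_eq_mul]
    rw [hmat, Matrix.det_smul, Matrix.det_kronecker] at hsq
    simp only [Fintype.card_prod, Fintype.card_fin] at hsq
    have hG₁0 := ((Matrix.isUnit_iff_isUnit_det _).1 hG₁u).ne_zero
    have hG0 := ((Matrix.isUnit_iff_isUnit_det _).1 hGu).ne_zero
    have hsqG : IsSquare G.det := by
      obtain ⟨r, hr⟩ := hsq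
      refine ⟨r / (c ^ 6 * G₁.det ^ 2 * G.det), ?_⟩
      field_simp
      linear_combination hr
    let R₂ : (Fin 2 × Fin 2 → F) → F := fun v => v ⬝ᵥ (G *ᵥ v)
    obtain ⟨C, hC0, hC⟩ := (CfsgLib.FiniteForms.congr_iff h2 hGs
      (show (planePair F).IsSymm by
        ext i j
        obtain ⟨i₁, i₂⟩ := i
        obtain ⟨j₁, j₂⟩ := j
        fin_cases i₁ <;> fin_cases i₂ <;> fin_cases j₁ <;> fin_cases j₂ <;>
          simp [planePair, omega2])
      hG0 (by simp [planePair, Matrix.det_kronecker, omega2, Matrix.det_fin_two])).2 (by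
        simpa [planePair, Matrix.det_kronecker, omega2, Matrix.det_fin_two] using hsqG)
    exact ⟨Matrix.GeneralLinearGroup.mkOfDetNeZero C hC0, hC⟩
  obtain ⟨X, hX⟩ : ∃ X : GL (Fin 3 × (Fin 2 × Fin 2)) F,
      (X : Matrix (Fin 3 × (Fin 2 × Fin 2)) (Fin 3 × (Fin 2 × Fin 2)) F) =
        (1 : Matrix (Fin 3) (Fin 3) F) ⊗ₖ (C : Matrix (Fin 2 × Fin 2) (Fin 2 × Fin 2) F) := by
    have hdet : ((1 : Matrix (Fin 3) (Fin 3) F) ⊗ₖ
        (C : Matrix (Fin 2 × Fin 2) (Fin 2 × Fin 2) F)).det ≠ 0 := by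
      rw [Matrix.det_kronecker, Matrix.det_one, one_pow, one_mul]
      exact pow_ne_zero _ C.det_ne_zero
    exact ⟨Matrix.GeneralLinearGroup.mkOfDetNeZero _ hdet, rfl⟩
  obtain ⟨P', hP'⟩ : ∃ P', frU e₁ P X * P = P' := ⟨_, rfl⟩
  have hP'v : ∀ z : Fin 3 × (Fin 2 × Fin 2) → F, (P' : Matrix ι ι F) *ᵥ (z ∘ e₁) =
      (P : Matrix ι ι F) *ᵥ (((X : Matrix _ _ F) *ᵥ z) ∘ e₁) := fun z => by
    rw [← hP', mul_mulVec, frU_val, frAlg_mulVec]
  let q6 : Fin 3 × Fin 2 ≃ Fin 6 := finProdFinEquiv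
  let π : Fin 3 × (Fin 2 × Fin 2) ≃ Fin 2 × Fin 6 :=
    { toFun := fun x => (x.2.1, q6 (x.1, x.2.2))
      invFun := fun y => ((q6.symm y.2).1, (y.1, (q6.symm y.2).2))
      left_inv := fun x => by simp
      right_inv := fun y => by simp }
  let M₆ : Matrix (Fin 6) (Fin 6) F := (G₁ ⊗ₖ omega2 F).submatrix q6.symm q6.symm
  have hwu : IsUnit (omega2 F) := by
    rw [Matrix.isUnit_iff_isUnit_det]; simp [omega2, Matrix.det_fin_two]
  have hwalt : ∀ x : Fin 2 → F, x ⬝ᵥ (omega2 F *ᵥ x) = 0 := fun x => by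
    simp [omega2, Matrix.mulVec, dotProduct, Fin.sum_univ_two]; ring
  have hM₆u : IsUnit M₆ := (Matrix.isUnit_submatrix_equiv q6.symm q6.symm).2 (by
    rw [Matrix.isUnit_iff_isUnit_det, Matrix.det_kronecker]
    exact (((Matrix.isUnit_iff_isUnit_det _).1 hG₁u).pow _).mul
      (((Matrix.isUnit_iff_isUnit_det _).1 hwu).pow _))
  have hM₆t : M₆ᵀ = (-1 : F) • M₆ := by
    ext i j
    have h := congrFun (congrFun (omega2_transpose (F := F)) (q6.symm i).2) (q6.symm j).2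
    rw [Matrix.transpose_apply, Matrix.smul_apply, smul_eq_mul] at h
    have h1 := congrFun (congrFun hG₁s (q6.symm i).1) (q6.symm j).1
    rw [Matrix.transpose_apply] at h1
    simp only [M₆, Matrix.transpose_apply, Matrix.submatrix_apply, Matrix.kroneckerMap_apply,
      Matrix.smul_apply, smul_eq_mul]
    rw [h, h1]; ring
  have hM₆a : ∀ x, x ⬝ᵥ (M₆ *ᵥ x) = 0 := fun x => by
    have h : x ⬝ᵥ (M₆ *ᵥ x) = x ⬝ᵥ (M₆ᵀ *ᵥ x) := by
      rw [Matrix.mulVec_transpose, Matrix.dotProduct_mulVec, dotProduct_comm]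
    rw [hM₆t, Matrix.smul_mulVec, dotProduct_smul, smul_eq_mul] at h
    exact (mul_eq_zero.1 (show (2 : F) * (x ⬝ᵥ (M₆ *ᵥ x)) = 0 by linear_combination h)).resolve_left h2
  have hgram : ∀ x y : Fin 3 × (Fin 2 × Fin 2) → F,
      QuadraticMap.polar Q ((P' : Matrix ι ι F) *ᵥ (x ∘ e₁)) ((P' : Matrix ι ι F) *ᵥ (y ∘ e₁)) =
        c * (x ⬝ᵥ ((G₁ ⊗ₖ planePair F) *ᵥ y)) := by
    intro x y
    rw [hP'v, hP'v, hT', hX, ← Matrix.vecMul_transpose, ← Matrix.dotProduct_mulVec,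
      Matrix.mulVec_mulVec, Matrix.mulVec_mulVec, ← Matrix.kroneckerMap_transpose,
      Matrix.transpose_one, ← Matrix.mul_kronecker_mul, ← Matrix.mul_kronecker_mul,
      one_mul, mul_one, hC]
  have hstr : Cfsg.Geo.IsTensorFormStructure id (QuadraticMap.polar Q)
      (Cfsg.Geo.formOfGram id (omega2 F)) (Cfsg.Geo.formOfGram id M₆) (e₁.trans π) P' := by
    refine ⟨c, hc, fun x y => ?_⟩
    rw [show Cfsg.Geo.gramMatrix (Cfsg.Geo.formOfGram id (omega2 F)) = omega2 F from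
      gramMatrix_formOfGram (σ := RingEquiv.refl F) _,
      show Cfsg.Geo.gramMatrix (Cfsg.Geo.formOfGram id M₆) = M₆ from
      gramMatrix_formOfGram (σ := RingEquiv.refl F) _]
    refine (hgram (x ∘ π) (y ∘ π)).trans ?_
    congr 1
    rw [formOfGram_eq, Function.id_comp]
    have hsub : (omega2 F ⊗ₖ M₆).submatrix π π = G₁ ⊗ₖ planePair F := by
      ext p r
      simp [π, M₆, planePair]
      ring
    rw [← hsub, Matrix.submatrix_mulVec_equiv]
    simp only [dotProduct]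
    rw [← π.sum_comp (fun i => x i * ((omega2 F ⊗ₖ M₆) *ᵥ y) i)]
    simp [Function.comp_def]
  refine ⟨e₁.trans π, P', _, _,
    isSymplectic_formOfGram hwu omega2_transpose hwalt,
    isSymplectic_formOfGram hM₆u hM₆t hM₆a, hstr, fun x₁ x₂ => ?_, fun g hg => ?_⟩
  · obtain ⟨c', -, hc'⟩ := hstr
    refine mul_left_cancel₀ h2 ?_
    rw [mul_zero, ← polar_self hQ]
    refine (hc' _ _).trans ?_
    rw [show Cfsg.Geo.gramMatrix (Cfsg.Geo.formOfGram id (omega2 F)) = omega2 F from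
      gramMatrix_formOfGram (σ := RingEquiv.refl F) _,
      show Cfsg.Geo.gramMatrix (Cfsg.Geo.formOfGram id M₆) = M₆ from
      gramMatrix_formOfGram (σ := RingEquiv.refl F) _]
    show c' * Cfsg.Geo.formOfGram id _ (pv x₁ x₂) (pv x₁ x₂) = 0
    rw [form_pv, hwalt]
    ring
  -- the stabiliser
  have h := hle hg
  rw [Cfsg.Geo.tensorProductSubgroup, map_glReindex_conj] at h
  obtain ⟨Y, ⟨A, d, hY⟩, rfl⟩ := h
  obtain ⟨d', hd'⟩ : ∃ d', (d : Matrix (Fin 4) (Fin 4) F).submatrix fp.symm fp.symm = d' := ⟨_, rfl⟩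
  obtain ⟨d'', hd''⟩ : ∃ d'', ((C⁻¹ : GL (Fin 2 × Fin 2) F) : Matrix (Fin 2 × Fin 2) (Fin 2 × Fin 2) F) *
      d' * (C : Matrix (Fin 2 × Fin 2) (Fin 2 × Fin 2) F) = d'' := ⟨_, rfl⟩
  have hCd : (C : Matrix (Fin 2 × Fin 2) (Fin 2 × Fin 2) F) * d'' =
      d' * (C : Matrix (Fin 2 × Fin 2) (Fin 2 × Fin 2) F) := by
    rw [← hd'', ← mul_assoc, ← mul_assoc, Units.mul_inv, one_mul]
  have hgY : ((frU e P Y : GL ι F) : Matrix ι ι F) =
      frAlg e₁ P ((A : Matrix (Fin 3) (Fin 3) F) ⊗ₖ d') := by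
    rw [frU_val, hY, frAlg_apply, frAlg_apply, ← hd']
    congr 2
    ext p r
    simp [e₁]
  simp only [MulEquiv.coe_toMonoidHom] at hg ⊢
  have hgv : ∀ z, ((frU e P Y : GL ι F) : Matrix ι ι F) *ᵥ ((P' : Matrix ι ι F) *ᵥ (z ∘ e₁)) =
      (P' : Matrix ι ι F) *ᵥ ((((A : Matrix (Fin 3) (Fin 3) F) ⊗ₖ d'') *ᵥ z) ∘ e₁) := fun z => by
    rw [hgY, hP'v, frAlg_mulVec, hP'v, Matrix.mulVec_mulVec, Matrix.mulVec_mulVec, hX,
      ← Matrix.mul_kronecker_mul, ← Matrix.mul_kronecker_mul, hCd, mul_one, one_mul]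
  have hsim : ((A : Matrix (Fin 3) (Fin 3) F)ᵀ * G₁ * (A : Matrix (Fin 3) (Fin 3) F)) ⊗ₖ
      (d''ᵀ * planePair F * d'') = G₁ ⊗ₖ planePair F := by
    ext i j
    have h1 := hgram ((((A : Matrix (Fin 3) (Fin 3) F) ⊗ₖ d'')) *ᵥ Pi.single i 1)
      ((((A : Matrix (Fin 3) (Fin 3) F) ⊗ₖ d'')) *ᵥ Pi.single j 1)
    rw [← hgv, ← hgv, isometry_apply (fixesPolar_of_le (omega_le Q)) (hH hg), hgram] at h1
    have h2' := mul_left_cancel₀ hc h1
    rw [Matrix.mulVec_single_one, single_dotProduct, one_mul, Matrix.col_apply] at h2'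
    rw [h2', ← Matrix.vecMul_transpose, ← Matrix.dotProduct_mulVec, Matrix.mulVec_mulVec,
      Matrix.mulVec_mulVec, ← Matrix.kroneckerMap_transpose,
      ← Matrix.mul_kronecker_mul, ← Matrix.mul_kronecker_mul]
    simp [Matrix.mulVec_single_one]
  obtain ⟨w, hw⟩ : ∃ w, (d''ᵀ * planePair F * d'') (0, 0) (1, 1) = w := ⟨_, rfl⟩
  have hA : ∀ i j, ((A : Matrix (Fin 3) (Fin 3) F)ᵀ * G₁ * (A : Matrix (Fin 3) (Fin 3) F)) i j * w =
      G₁ i j := fun i j => by
    have h := congrFun (congrFun hsim (i, (0, 0))) (j, (1, 1))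
    rw [Matrix.kroneckerMap_apply, Matrix.kroneckerMap_apply, hw] at h
    simpa [planePair, omega2] using h
  obtain ⟨i₀, j₀, hij⟩ : ∃ i j, G₁ i j ≠ 0 := by
    by_contra hcon
    push Not at hcon
    exact hG₁u.ne_zero (Matrix.ext hcon)
  have hw0 : w ≠ 0 := fun h0 => hij (by rw [← hA, h0, mul_zero])
  have hdw : d''ᵀ * planePair F * d'' = w • planePair F := Matrix.ext fun p r => by
    have h := congrFun (congrFun hsim (i₀, p)) (j₀, r)
    rw [Matrix.kroneckerMap_apply, Matrix.kroneckerMap_apply] at h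
    refine mul_left_cancel₀ hij ?_
    rw [Matrix.smul_apply, smul_eq_mul]
    linear_combination w * h - (d''ᵀ * planePair F * d'') p r * hA i₀ j₀
  have hdetA : (A : Matrix (Fin 3) (Fin 3) F).det ^ 2 * w ^ 3 = 1 := by
    have h : w • ((A : Matrix (Fin 3) (Fin 3) F)ᵀ * G₁ * (A : Matrix (Fin 3) (Fin 3) F)) = G₁ :=
      Matrix.ext fun i j => by rw [Matrix.smul_apply, smul_eq_mul, mul_comm]; exact hA i j
    have h' := congrArg Matrix.det h
    rw [Matrix.det_smul, Matrix.det_mul, Matrix.det_mul, Matrix.det_transpose, Fintype.card_fin] at h'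
    have hG₁0 := ((Matrix.isUnit_iff_isUnit_det _).1 hG₁u).ne_zero
    exact mul_right_cancel₀ hG₁0 (by linear_combination h')
  obtain ⟨a, b, hab⟩ := similitude_decompose h2 hw0 hdw
  rcases hab with hab | hab
  swap
  · -- the exchange has determinant minus one
    exfalso
    have hd2 : d'' = ((a : Matrix (Fin 2) (Fin 2) F) ⊗ₖ (b : Matrix (Fin 2) (Fin 2) F)).submatrix id
        (Equiv.prodComm (Fin 2) (Fin 2)) := by
      ext ⟨p, r⟩ ⟨i, j⟩
      simp [hab]
    have habw : (a : Matrix (Fin 2) (Fin 2) F).det * (b : Matrix (Fin 2) (Fin 2) F).det = w := by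
      rw [← hw, planePair_sim]
      simp [detPolar, hab, Matrix.det_fin_two]
      ring
    have hsign : Equiv.Perm.sign (Equiv.prodComm (Fin 2) (Fin 2)) = -1 := by decide
    have hdet := det_eq_one_of_mem_omega (hH hg)
    rw [hgY, frAlg_apply, Matrix.det_mul, Matrix.det_mul, mul_right_comm, ← Matrix.det_mul,
      Units.mul_inv, Matrix.det_one, one_mul, Matrix.det_submatrix_equiv_self,
      Matrix.det_kronecker] at hdet
    have hd' : d'.det = d''.det := by
      rw [← hd'', Matrix.det_mul, Matrix.det_mul, mul_right_comm, ← Matrix.det_mul, Units.inv_mul,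
        Matrix.det_one, one_mul]
    rw [hd', hd2, Matrix.det_permute', hsign, Matrix.det_kronecker] at hdet
    simp only [Fintype.card_prod, Fintype.card_fin, Units.val_neg, Units.val_one, Int.cast_neg,
      Int.cast_one] at hdet
    refine h2 ?_
    obtain ⟨D₁, hD₁⟩ : ∃ D, (A : Matrix (Fin 3) (Fin 3) F).det = D := ⟨_, rfl⟩
    obtain ⟨Da, hDa⟩ : ∃ D, (a : Matrix (Fin 2) (Fin 2) F).det = D := ⟨_, rfl⟩
    obtain ⟨Db, hDb⟩ : ∃ D, (b : Matrix (Fin 2) (Fin 2) F).det = D := ⟨_, rfl⟩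
    rw [hD₁, hDa, hDb] at hdet
    rw [hD₁] at hdetA
    rw [hDa, hDb] at habw
    subst habw
    linear_combination (-1 : F) * hdet - (D₁ ^ 2 * (Da * Db) ^ 3 + 1) * hdetA
  -- the new tensor decomposition
  rw [Cfsg.Geo.tensorProductSubgroup, map_glReindex_conj]
  let B₆ : Matrix (Fin 6) (Fin 6) F :=
    ((A : Matrix (Fin 3) (Fin 3) F) ⊗ₖ (b : Matrix (Fin 2) (Fin 2) F)).submatrix q6.symm q6.symm
  have hB₆ : B₆.det ≠ 0 := by
    rw [Matrix.det_submatrix_equiv_self, Matrix.det_kronecker]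
    exact mul_ne_zero (pow_ne_zero _ A.det_ne_zero) (pow_ne_zero _ b.det_ne_zero)
  have hZ : ((a : Matrix (Fin 2) (Fin 2) F) ⊗ₖ B₆).det ≠ 0 := by
    rw [Matrix.det_kronecker]
    exact mul_ne_zero (pow_ne_zero _ a.det_ne_zero) (pow_ne_zero _ hB₆)
  refine ⟨Matrix.GeneralLinearGroup.mkOfDetNeZero _ hZ,
    ⟨a, Matrix.GeneralLinearGroup.mkOfDetNeZero B₆ hB₆, rfl⟩, ?_⟩
  refine Units.ext (Matrix.toLin'.injective (LinearMap.ext fun v => ?_))
  obtain ⟨z, rfl⟩ := pullForm_surj e₁ P' v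
  simp only [Matrix.toLin'_apply, MulEquiv.coe_toMonoidHom]
  rw [hgv, frU_val]
  rw [show z ∘ e₁ = (z ∘ π.symm) ∘ (e₁.trans π) by funext i; simp, frAlg_mulVec]
  congr 1
  funext i
  show ((((a : Matrix (Fin 2) (Fin 2) F) ⊗ₖ B₆)) *ᵥ (z ∘ π.symm)) (π (e₁ i)) = _
  have hsub : (((a : Matrix (Fin 2) (Fin 2) F) ⊗ₖ B₆)).submatrix π π =
      (A : Matrix (Fin 3) (Fin 3) F) ⊗ₖ d'' := by
    ext ⟨p, q, r⟩ ⟨p', q', r'⟩
    simp [π, B₆, hab]
    ring
  rw [Function.comp_apply, ← hsub, Matrix.submatrix_mulVec_equiv]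
  rfl

end CfsgLib.Aschbacher.OrthEven
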