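import Cfsg.Agent.Lib.Aschbacher.OrthForm
import Cfsg.Agent.Lib.BilinLag
import Cfsg.Agent.Lib.MaxSub.SubspaceMaximalOrthGL

/-!
Types of quadratic forms in even dimension: totally singular halves, discriminants, decompositions.
-/

set_option autoImplicit false

namespace CfsgLib.Aschbacher

open Matrix Module

variable {F : Type*} [Field F] {ι : Type} [Fintype ι] [DecidableEq ι] {Q : (ι → F) → F}

lemma plus_top_of_singular {U : Submodule F (ι → F)} (hU : Cfsg.Geo.IsTotallySingularQuad Q U)
    (hd : 2 * finrank F U = Fintype.card ι) : Cfsg.Geo.IsPlusTypeOn Q ⊤ :=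
  ⟨U, le_top, hU, by rw [hd, finrank_top, Module.finrank_fintype_fun_eq_card]⟩

lemma plusTypeOn_of_le {W U : Submodule F (ι → F)} (hU : Cfsg.Geo.IsTotallySingularQuad Q U)
    (hle : U ≤ W) (hd : 2 * finrank F U = finrank F W) : Cfsg.Geo.IsPlusTypeOn Q W :=
  ⟨U, hle, hU, hd⟩

variable (hQ : Cfsg.Geo.IsNondegenerateQuadraticForm Q)

include hQ in
lemma tsQuad_of_tsPolar (h2 : (2 : F) ≠ 0) {W : Submodule F (ι → F)}
    (hW : Cfsg.Geo.IsTotallySingularFor (QuadraticMap.polar Q) W) :
    Cfsg.Geo.IsTotallySingularQuad Q W := fun w hw => by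
  have h := hW w hw w hw
  rw [polar_self hQ] at h
  exact (mul_eq_zero.1 h).resolve_left h2

include hQ in
lemma quad_add (u v : ι → F) : Q (u + v) = Q u + Q v + QuadraticMap.polar Q u v := by
  simp only [QuadraticMap.polar]; ring

include hQ in
lemma quad_sum_orth {κ : Type*} (s : Finset κ) (v : κ → ι → F)
    (h : ∀ a ∈ s, ∀ b ∈ s, a ≠ b → QuadraticMap.polar Q (v a) (v b) = 0) :
    Q (∑ a ∈ s, v a) = ∑ a ∈ s, Q (v a) := by
  classical
  induction s using Finset.induction_on with
  | empty =>
    have := hQ.smul 0 0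
    simpa using this
  | insert a s ha ih =>
    rw [Finset.sum_insert ha, Finset.sum_insert ha, quad_add hQ, ih fun x hx y hy =>
      h x (Finset.mem_insert_of_mem hx) y (Finset.mem_insert_of_mem hy)]
    have h0 : QuadraticMap.polar Q (v a) (∑ b ∈ s, v b) = 0 := by
      let L : (ι → F) →ₗ[F] F :=
        { toFun := fun y => QuadraticMap.polar Q (v a) y
          map_add' := fun x y => hQ.polar_bilinear.add_right _ x y
          map_smul' := fun c x => by simpa using hQ.polar_bilinear.smul_right c (v a) x }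
      show L (∑ b ∈ s, v b) = 0
      rw [map_sum]
      exact Finset.sum_eq_zero fun b hb => h a (Finset.mem_insert_self a s) b
        (Finset.mem_insert_of_mem hb) fun e => ha (e ▸ hb)
    rw [h0, add_zero]

/-- The singular vectors of a polar-singular subspace in characteristic two. -/
def singPart (h2 : (2 : F) = 0) {W : Submodule F (ι → F)}
    (hW : Cfsg.Geo.IsTotallySingularFor (QuadraticMap.polar Q) W) : Submodule F (ι → F) where
  carrier := {w | w ∈ W ∧ Q w = 0}
  add_mem' {a b} ha hb := ⟨W.add_mem ha.1 hb.1, by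
    have h := hW a ha.1 b hb.1
    simp only [QuadraticMap.polar, ha.2, hb.2, sub_zero] at h
    exact h⟩
  zero_mem' := ⟨W.zero_mem, by
    have := hW 0 W.zero_mem 0 W.zero_mem
    simp only [QuadraticMap.polar, add_zero] at this
    linear_combination this + Q 0 * h2⟩
  smul_mem' c a ha := ⟨W.smul_mem c ha.1, by rw [hQ.smul, ha.2, mul_zero]⟩

lemma mem_singPart {h2 : (2 : F) = 0} {W : Submodule F (ι → F)}
    {hW : Cfsg.Geo.IsTotallySingularFor (QuadraticMap.polar Q) W} {w : ι → F} :
    w ∈ singPart hQ h2 hW ↔ w ∈ W ∧ Q w = 0 := Iff.rfl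

lemma singPart_finrank [Finite F] (h2 : (2 : F) = 0) {W : Submodule F (ι → F)}
    (hW : Cfsg.Geo.IsTotallySingularFor (QuadraticMap.polar Q) W) :
    finrank F W ≤ finrank F (singPart hQ h2 hW) + 1 := by
  by_cases hall : ∀ w ∈ W, Q w = 0
  · have : W ≤ singPart hQ h2 hW := fun w hw => ⟨hw, hall w hw⟩
    have := Submodule.finrank_mono this
    omega
  push Not at hall
  obtain ⟨w₁, hw₁, hQ₁⟩ := hall
  have hle : W ≤ Submodule.span F {w₁} ⊔ singPart hQ h2 hW := by
    intro w hw
    obtain ⟨r, hr⟩ := CfsgLib.FiniteForms.sqrt_charTwo h2 (Q w / Q w₁)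
    have hmem : w + r • w₁ ∈ singPart hQ h2 hW := by
      refine ⟨W.add_mem hw (W.smul_mem r hw₁), ?_⟩
      rw [quad_add hQ, hQ.smul, hW _ hw _ (W.smul_mem r hw₁), sq, ← hr, div_mul_cancel₀ _ hQ₁]
      linear_combination Q w * h2
    have : w = (-r) • w₁ + (w + r • w₁) := by module
    rw [this]
    exact Submodule.add_mem_sup (Submodule.smul_mem _ _ (Submodule.mem_span_singleton_self w₁)) hmem
  have h := (Submodule.finrank_mono hle).trans (Submodule.finrank_add_le_finrank_add_finrank _ _)
  rw [finrank_span_singleton (fun h0 => hQ₁ (by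
    have := hQ.smul 0 0
    rw [h0]
    simpa using this))] at h
  omega

include hQ in
/-- A polar-singular minimal invariant subspace of dimension at least two is totally singular. -/
lemma quad_zero_of_minInv [Finite F] {A : Subgroup (GL ι F)} (hA : A ≤ Cfsg.isometryGroup F Q)
    {S : Submodule F (ι → F)} (hS : MinInv A S) (h2d : 2 ≤ finrank F S)
    (hts : Cfsg.Geo.IsTotallySingularFor (QuadraticMap.polar Q) S) :
    Cfsg.Geo.IsTotallySingularQuad Q S := by
  by_cases h2 : (2 : F) = 0
  swap
  · exact tsQuad_of_tsPolar hQ h2 hts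
  have hle : singPart hQ h2 hts ≤ S := fun w hw => hw.1
  have hinv : Inv A (singPart hQ h2 hts) := fun a ha w hw =>
    ⟨hS.inv a ha w hw.1, by rw [mem_isometryGroup.1 (hA ha)]; exact hw.2⟩
  rcases hS.min _ hle hinv with h | h
  · have h1 := singPart_finrank hQ h2 hts
    rw [h, finrank_bot] at h1
    omega
  · intro w hw
    have : w ∈ singPart hQ h2 hts := by rw [h]; exact hw
    exact this.2

include hQ in
/-- Two polar-singular halves permuted by an irreducible group are totally singular. -/
lemma pair_totallySingular [Finite F] {H : Subgroup (GL ι F)} (hH : H ≤ Cfsg.isometryGroup F Q)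
    (hirr : Irr H) {k : ℕ} (hk : 2 ≤ k) {D : Fin 2 → Submodule F (ι → F)}
    (hD : Cfsg.Geo.IsMDecomposition k D)
    (hts : ∀ i, Cfsg.Geo.IsTotallySingularFor (QuadraticMap.polar Q) (D i))
    (hle : H ≤ Cfsg.Geo.decompositionStabilizer D) :
    ∀ i, Cfsg.Geo.IsTotallySingularQuad Q (D i) := by
  by_cases h2 : (2 : F) = 0
  swap
  · exact fun i => tsQuad_of_tsPolar hQ h2 (hts i)
  let U : Fin 2 → Submodule F (ι → F) := fun i => singPart hQ h2 (hts i)
  have hUD : ∀ i, U i ≤ D i := fun i w hw => hw.1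
  have hinv : Inv H (⨆ i, U i) := by
    intro h hh w hw
    obtain ⟨σ, hσ⟩ := hle hh
    refine (show (⨆ i, U i).map (Matrix.toLin' (h : Matrix ι ι F)) ≤ ⨆ i, U i from ?_)
      ⟨w, hw, Matrix.toLin'_apply _ _⟩
    rw [Submodule.map_iSup]
    refine iSup_le fun i => le_trans ?_ (le_iSup U (σ i))
    rintro _ ⟨u, hu, rfl⟩
    exact ⟨hσ i ▸ Submodule.mem_map_of_mem hu.1, by
      rw [Matrix.toLin'_apply, mem_isometryGroup.1 (hH hh)]; exact hu.2⟩
  rcases irr_iff.1 hirr _ hinv with h | h
  · have h1 := singPart_finrank hQ h2 (hts 0)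
    have h0 : U 0 = ⊥ := le_bot_iff.1 (h ▸ le_iSup U 0)
    rw [show singPart hQ h2 (hts 0) = ⊥ from h0, finrank_bot, hD.finrank_eq] at h1
    omega
  · intro i w hw
    have hmem : w ∈ U i := by
      have hsup : (⨆ j, U j) = U i ⊔ U (1 - i) := by
        refine le_antisymm (iSup_le fun j => ?_) (sup_le (le_iSup U i) (le_iSup U _))
        fin_cases i <;> fin_cases j <;> simp
      obtain ⟨a, ha, b, hb, hab⟩ := Submodule.mem_sup.1
        (show w ∈ U i ⊔ U (1 - i) by rw [← hsup, h]; exact Submodule.mem_top)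
      have hbi : b ∈ D i := by rw [← add_sub_cancel_left a b, hab]; exact sub_mem hw (hUD i ha)
      have hne : i ≠ 1 - i := by fin_cases i <;> decide
      have hb0 := Submodule.disjoint_def.1 (hD.indep.pairwiseDisjoint hne) b hbi (hUD _ hb)
      rwa [← hab, hb0, add_zero]
    exact hmem.2

section disc

variable [Finite F]

include hQ in
/-- The type through the discriminant. -/
theorem plus_iff_disc (h2 : (2 : F) ≠ 0) {m : ℕ} {κ : Type*} [Fintype κ] [DecidableEq κ]
    (b : Basis κ F (ι → F)) (hm : Fintype.card κ = 2 * m) :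
    Cfsg.Geo.IsPlusTypeOn Q ⊤ ↔
      IsSquare ((-1 : F) ^ m * (Matrix.of fun i j => QuadraticMap.polar Q (b i) (b j)).det) := by
  classical
  haveI : Fintype F := Fintype.ofFinite F
  obtain ⟨R, rfl, hR⟩ := CfsgLib.MaxSub.Orth.exists_form hQ
  have hmat : LinearMap.BilinForm.toMatrix b (QuadraticMap.polarBilin R) =
      Matrix.of fun i j => QuadraticMap.polar R (b i) (b j) := by
    ext i j
    simp [LinearMap.BilinForm.toMatrix_apply]
  have hdet : (LinearMap.BilinForm.toMatrix b (QuadraticMap.polarBilin R)).det ≠ 0 :=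
    CfsgLib.BilinLag.det_ne_zero b hR
  rw [← hmat, ← CfsgLib.BilinLag.hasLag_iff h2 b hm _
    ⟨fun x y => by simp [QuadraticMap.polar_comm]⟩ hdet]
  have hcard : Fintype.card ι = 2 * m := by
    rw [← hm, ← Module.finrank_eq_card_basis b, Module.finrank_fintype_fun_eq_card]
  constructor
  · rintro ⟨U, -, hU, hd⟩
    rw [finrank_top, Module.finrank_fintype_fun_eq_card, hcard] at hd
    refine ⟨U, by omega, fun x hx y hy => ?_⟩
    simp [QuadraticMap.polar, hU x hx, hU y hy, hU _ (U.add_mem hx hy)]
  · rintro ⟨X, hXd, hX⟩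
    exact plus_top_of_singular (tsQuad_of_tsPolar hQ h2 fun x hx y hy => by simpa using hX x hx y hy)
      (by rw [hXd, hcard])

omit [Fintype ι] [DecidableEq ι] [Finite F] in
lemma isSquare_sq_mul {x y : F} (hx : IsSquare x) (hy : IsSquare y) : IsSquare (x * y) := hx.mul hy

include hQ in
/-- The type of an orthogonal sum of isometric subspaces through the discriminant of one of them. -/
theorem plus_iff_blocks (h2 : (2 : F) ≠ 0) {t k m : ℕ} {D : Fin t → Submodule F (ι → F)}
    (hD : Cfsg.Geo.IsOrthogonalMDecomposition Q k D) (hm : t * k = 2 * m) (i₀ : Fin t)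
    (b₀ : Basis (Fin k) F (D i₀)) :
    Cfsg.Geo.IsPlusTypeOn Q ⊤ ↔ IsSquare ((-1 : F) ^ m *
      (Matrix.of fun a c => QuadraticMap.polar Q (b₀ a : ι → F) (b₀ c)).det ^ t) := by
  classical
  choose e he using fun i => hD.isometric i₀ i
  let bs : ∀ i, Basis (Fin k) F (D i) := fun i => b₀.map (e i)
  have hI : DirectSum.IsInternal D :=
    DirectSum.isInternal_submodule_of_iSupIndep_of_iSup_eq_top hD.decomp.decomp.indep
      hD.decomp.decomp.iSup_eq_top
  let b := (hI.collectedBasis bs).reindex
    ((Equiv.sigmaEquivProd (Fin t) (Fin k)).trans (Equiv.prodComm _ _))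
  rw [plus_iff_disc hQ h2 b (m := m) (by simp; rw [mul_comm]; exact hm)]
  have hb : ∀ p : Fin k × Fin t, b p = (e p.2 (b₀ p.1) : ι → F) := fun p => by
    simp [b, bs, DirectSum.IsInternal.collectedBasis_coe]
    rfl
  have hmat : (Matrix.of fun i j => QuadraticMap.polar Q (b i) (b j)) =
      Matrix.blockDiagonal fun _ : Fin t =>
        Matrix.of fun a c => QuadraticMap.polar Q (b₀ a : ι → F) (b₀ c) := by
    ext ⟨a, i⟩ ⟨c, j⟩
    rw [Matrix.of_apply, hb, hb, Matrix.blockDiagonal_apply]
    split_ifs with hij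
    · subst hij
      show QuadraticMap.polar Q _ _ = QuadraticMap.polar Q _ _
      simp only [QuadraticMap.polar]
      rw [← Submodule.coe_add, ← map_add, he, he, he, Submodule.coe_add]
    · exact hD.decomp.orthogonal i j hij _ (e i (b₀ a)).2 _ (e j (b₀ c)).2
  rw [hmat, Matrix.det_blockDiagonal, Finset.prod_const, Finset.card_univ, Fintype.card_fin]

include hQ in
/-- An even number of isometric blocks with `(-1)^m` a square gives plus type. -/
theorem plus_of_even_blocks {t k m : ℕ} {D : Fin t → Submodule F (ι → F)}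
    (hD : Cfsg.Geo.IsOrthogonalMDecomposition Q k D) (ht : Even t) (hm : t * k = 2 * m)
    (hsq : IsSquare ((-1 : F) ^ m)) : Cfsg.Geo.IsPlusTypeOn Q ⊤ := by
  classical
  have ht2 := hD.decomp.decomp.two_le
  by_cases h2 : (2 : F) = 0
  swap
  · rw [plus_iff_blocks hQ h2 hD hm ⟨0, by omega⟩
      (Module.finBasisOfFinrankEq F _ (hD.decomp.decomp.finrank_eq _))]
    obtain ⟨s, rfl⟩ := ht
    exact hsq.mul ⟨_, pow_add _ s s⟩
  -- characteristic two: graphs of isometries
  obtain ⟨s, hs⟩ := ht
  let i : Fin s → Fin t := fun a => ⟨a, by omega⟩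
  let j : Fin s → Fin t := fun a => ⟨s + a, by omega⟩
  choose e he using fun a => hD.isometric (i a) (j a)
  let L : ((a : Fin s) → D (i a)) →ₗ[F] (ι → F) :=
    ∑ a, ((D (i a)).subtype + (D (j a)).subtype.comp (e a).toLinearMap).comp (LinearMap.proj a)
  have hL : ∀ x, L x = ∑ a, ((x a : ι → F) + (e a (x a) : ι → F)) := fun x => by simp [L]
  have hne : ∀ a b : Fin s, i a ≠ j b := fun a b h => by
    have := congrArg Fin.val h
    simp only [i, j] at this
    omega
  have hii : ∀ a b : Fin s, a ≠ b → i a ≠ i b := fun a b h h' => h (by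
    simpa [i, Fin.ext_iff] using h')
  have hjj : ∀ a b : Fin s, a ≠ b → j a ≠ j b := fun a b h h' => h (by
    simpa [j, Fin.ext_iff] using h')
  have hB := hQ.polar_bilinear
  refine plus_top_of_singular (U := LinearMap.range L) ?_ ?_
  · rintro _ ⟨x, rfl⟩
    rw [hL, quad_sum_orth hQ]
    · refine Finset.sum_eq_zero fun a _ => ?_
      rw [quad_add hQ, he, hD.decomp.orthogonal _ _ (hne a a) _ (x a).2 _ (e a (x a)).2]
      linear_combination Q (x a : ι → F) * h2
    · intro a _ b _ hab
      rw [hB.add_left, hB.add_right, hB.add_right,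
        hD.decomp.orthogonal _ _ (hii a b hab) _ (x a).2 _ (x b).2,
        hD.decomp.orthogonal _ _ (hne a b) _ (x a).2 _ (e b (x b)).2,
        hD.decomp.orthogonal _ _ (hne b a).symm _ (e a (x a)).2 _ (x b).2,
        hD.decomp.orthogonal _ _ (hjj a b hab) _ (e a (x a)).2 _ (e b (x b)).2]
      ring
  · have hinj : Function.Injective L := by
      rw [injective_iff_map_eq_zero]
      intro x hx
      funext a
      refine Subtype.ext ?_
      by_contra h0
      obtain ⟨-, y, hy, hne'⟩ := hD.decomp.nondegenerate (i a) _ (x a).2 (fun h => h0 h)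
      refine hne' ?_
      let P : (ι → F) →ₗ[F] F :=
        { toFun := fun v => QuadraticMap.polar Q v y
          map_add' := fun u v => hB.add_left u v y
          map_smul' := fun c v => by simpa using hB.smul_left c v y }
      have h := congrArg P hx
      rw [hL, map_sum, map_zero, Finset.sum_eq_single a ?_ (fun h => absurd (Finset.mem_univ a) h)] at h
      · change QuadraticMap.polar Q (_ + _) y = 0 at h
        rwa [hB.add_left, hD.decomp.orthogonal _ _ (hne a a).symm _ (e a (x a)).2 _ hy, add_zero] at h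
      · intro b _ hba
        show QuadraticMap.polar Q (_ + _) y = 0
        rw [hB.add_left, hD.decomp.orthogonal _ _ (hii b a hba) _ (x b).2 _ hy,
          hD.decomp.orthogonal _ _ (hne a b).symm _ (e b (x b)).2 _ hy, add_zero]
    rw [LinearMap.finrank_range_of_inj hinj, Module.finrank_pi_fintype]
    simp only [hD.decomp.decomp.finrank_eq, Finset.sum_const, Finset.card_univ, Fintype.card_fin,
      smul_eq_mul]
    have := mDecomposition_mul_eq hD.decomp.decomp
    rw [← this, hs]
    ring

end disc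

end CfsgLib.Aschbacher
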