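import Cfsg.Agent.Lib.Aschbacher.OrthEven.Tensor

/-!
The tensor cube of a plane: the form has plus type.
-/

set_option autoImplicit false

namespace CfsgLib.Aschbacher

open Matrix Module

open scoped Kronecker

variable {F : Type*} [Field F] {ι : Type} [Fintype ι] [DecidableEq ι] {Q : (ι → F) → F}

lemma pureVec_update_add {t m : ℕ} (v : Fin t → Fin m → F) (i : Fin t) (y z : Fin m → F) :
    pureVec (Function.update v i (y + z)) =
      pureVec (Function.update v i y) + pureVec (Function.update v i z) := by
  funext x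
  have key : ∀ w : Fin m → F, (∏ j, Function.update v i w j (x j)) =
      w (x i) * ∏ j ∈ Finset.univ.erase i, v j (x j) := fun w => by
    rw [← Finset.mul_prod_erase Finset.univ _ (Finset.mem_univ i), Function.update_self]
    congr 1
    exact Finset.prod_congr rfl fun j hj => by
      rw [Function.update_of_ne (Finset.ne_of_mem_erase hj)]
  simp only [pureVec, Pi.add_apply, key, add_mul]

lemma pureVec_update_smul {t m : ℕ} (v : Fin t → Fin m → F) (i : Fin t) (c : F) (y : Fin m → F) :
    pureVec (Function.update v i (c • y)) = c • pureVec (Function.update v i y) := by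
  funext x
  have key : ∀ w : Fin m → F, (∏ j, Function.update v i w j (x j)) =
      w (x i) * ∏ j ∈ Finset.univ.erase i, v j (x j) := fun w => by
    rw [← Finset.mul_prod_erase Finset.univ _ (Finset.mem_univ i), Function.update_self]
    congr 1
    exact Finset.prod_congr rfl fun j hj => by
      rw [Function.update_of_ne (Finset.ne_of_mem_erase hj)]
  simp only [pureVec, Pi.smul_apply, smul_eq_mul, key, mul_assoc]

/-- The cube of two points as a product. -/
def cubeEquiv : (Fin 3 → Fin 2) ≃ Fin 2 × (Fin 2 × Fin 2) where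
  toFun v := (v 0, v 1, v 2)
  invFun p := ![p.1, p.2.1, p.2.2]
  left_inv v := by funext i; fin_cases i <;> rfl
  right_inv p := rfl

/-- A tensor cube of a plane in a quadratic space of dimension eight forces plus type. -/
theorem plus_of_cube [Fintype F] (hQ : Cfsg.Geo.IsNondegenerateQuadraticForm Q)
    {H : Subgroup (GL ι F)} (hH : H ≤ Cfsg.isometryGroup F Q) (hirr : Irr H)
    {e : ι ≃ (Fin 3 → Fin 2)} {P : GL ι F} {G : Matrix (Fin 2) (Fin 2) F} {c : F} (hc : c ≠ 0)
    (hGt : Gᵀ = G)
    (hpull : ∀ x y, pullForm e P (QuadraticMap.polar Q) x y =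
      c * Cfsg.Geo.formOfGram id (pureMat fun _ => G) x y)
    (helem : ∀ g ∈ H, ∃ (A : Fin 3 → GL (Fin 2) F) (σ : Equiv.Perm (Fin 3)),
      g = frU e P (pureGL A * permGL 2 F σ)) :
    Cfsg.Geo.IsPlusTypeOn Q ⊤ := by
  classical
  set Φ := frameEquiv e P with hΦ
  have hgram : ∀ p r : Fin 3 → Fin 2,
      QuadraticMap.polar Q (Φ (Pi.single p 1)) (Φ (Pi.single r 1)) = c * ∏ i, G (p i) (r i) := by
    intro p r
    refine (hpull _ _).trans ?_
    have h := congrFun (congrFun (gramMatrix_formOfGram (σ := RingEquiv.refl F)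
      (pureMat fun _ : Fin 3 => G)) p) r
    rw [← pureMat_apply (fun _ => G) p r, ← h]
    rfl
  have hcard : Fintype.card ι = 8 := by rw [Fintype.card_congr e]; simp
  by_cases h2 : (2 : F) = 0
  swap
  · rw [plus_iff_disc hQ h2 ((Pi.basisFun F (Fin 3 → Fin 2)).map Φ) (m := 4) (by simp)]
    have hmat : (Matrix.of fun p r => QuadraticMap.polar Q
        (((Pi.basisFun F (Fin 3 → Fin 2)).map Φ) p) (((Pi.basisFun F (Fin 3 → Fin 2)).map Φ) r)) =
        c • (G ⊗ₖ (G ⊗ₖ G)).submatrix cubeEquiv cubeEquiv := by
      ext p r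
      simp [hgram, cubeEquiv, Fin.prod_univ_three, mul_assoc]
      exact Or.inl rfl
    rw [hmat, Matrix.det_smul, Matrix.det_submatrix_equiv_self, Matrix.det_kronecker,
      Matrix.det_kronecker]
    refine ⟨c ^ 4 * G.det ^ 2 * (G.det ^ 2 * G.det ^ 2), ?_⟩
    simp only [Fintype.card_fun, Fintype.card_fin, Fintype.card_prod]
    ring
  have hd : ∀ a, G a a = 0 := fun a => by
    have h := hgram (fun _ => a) (fun _ => a)
    rw [polar_self hQ, h2, zero_mul, Finset.prod_const, Finset.card_univ, Fintype.card_fin] at h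
    exact eq_zero_of_pow_eq_zero ((mul_eq_zero.1 h.symm).resolve_left hc)
  have halt := dot_self_eq_zero h2 hGt hd
  have hpol : ∀ v w : Fin 3 → Fin 2 → F, QuadraticMap.polar Q (Φ (pureVec v)) (Φ (pureVec w)) =
      c * ∏ i, (v i ⬝ᵥ (G *ᵥ w i)) := fun v w => by
    refine (hpull _ _).trans ?_
    rw [formOfGram_eq, Function.id_comp, pureMat_mulVec, pureVec_dot]
  have hzero : ∀ p, Q (Φ (Pi.single p 1)) = 0 := by
    intro p
    refine quad_zero_of_basis hQ h2 (by omega) hH hirr Φ (Set.range fun v => Φ (pureVec v))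
      (fun p => ⟨_, congrArg Φ (single_eq_pureVec p).symm⟩) ?_ ?_ _
      ⟨_, congrArg Φ (single_eq_pureVec p).symm⟩
    · rintro E hadd hsm hb _ ⟨v, rfl⟩
      have slot : ∀ (i : Fin 3) (v : Fin 3 → Fin 2 → F),
          (∀ a, E (Φ (pureVec (Function.update v i (Pi.single a 1)))) = 0) →
            E (Φ (pureVec v)) = 0 := by
        intro i v h
        let L : (Fin 2 → F) →+ F := AddMonoidHom.mk'
          (fun y => E (Φ (pureVec (Function.update v i y)))) fun y z => by
            rw [pureVec_update_add, map_add, hadd]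
            rw [hpol]
            obtain ⟨j, hj⟩ : ∃ j : Fin 3, j ≠ i := exists_ne i
            rw [Finset.prod_eq_zero (Finset.mem_univ j) (by
              rw [Function.update_of_ne hj, Function.update_of_ne hj]; exact halt _), mul_zero]
        have hL : L (v i) = 0 := by
          rw [pi_eq_sum_univ' (v i), map_sum]
          refine Finset.sum_eq_zero fun a _ => ?_
          show E (Φ (pureVec (Function.update v i (v i a • Pi.single a 1)))) = 0
          rw [pureVec_update_smul, map_smul, hsm, h, mul_zero]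
        simpa [L] using hL
      refine slot 0 v fun a => slot 1 _ fun b => slot 2 _ fun d => ?_
      rw [← hb ![a, b, d], single_eq_pureVec ![a, b, d]]
      congr 3
    · rintro g hg _ ⟨v, rfl⟩
      obtain ⟨A, σ, rfl⟩ := helem g hg
      refine ⟨fun i => (A i : Matrix (Fin 2) (Fin 2) F) *ᵥ v (σ.symm i), ?_⟩
      show Φ _ = _ *ᵥ Φ _
      rw [frU_val]
      show Φ _ = frAlg e P (pureMat (fun i => (A i : Matrix (Fin 2) (Fin 2) F)) * permMat 2 F σ) *ᵥ _
      rw [hΦ, frameEquiv_apply, frameEquiv_apply, frAlg_mulVec, ← Matrix.mulVec_mulVec, permMat_mulVec, pureMat_mulVec]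
  -- the half space
  let emb : (Fin 2 × Fin 2) → (Fin 3 → Fin 2) := fun q => cubeEquiv.symm (0, q)
  have hemb : Function.Injective emb := fun a b h => by
    simpa using cubeEquiv.symm.injective h
  let b := (Pi.basisFun F (Fin 3 → Fin 2)).map Φ
  refine plus_top_of_singular (U := Submodule.span F (Set.range (b ∘ emb))) ?_ ?_
  · intro w hw
    obtain ⟨x, rfl⟩ := (Submodule.mem_span_range_iff_exists_fun F).1 hw
    rw [quad_sum_orth hQ]
    · refine Finset.sum_eq_zero fun q _ => ?_
      simp [b, hQ.smul, hzero]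
    · intro p _ r _ _
      rw [hQ.polar_bilinear.smul_left, hQ.polar_bilinear.smul_right]
      simp only [b, Function.comp_apply, Module.Basis.map_apply, Pi.basisFun_apply, hgram]
      rw [Finset.prod_eq_zero (Finset.mem_univ (0 : Fin 3)) (by
        show G (emb p 0) (emb r 0) = 0
        simp [emb, cubeEquiv]
        exact hd 0)]
      ring
  · rw [finrank_span_eq_card (b.linearIndependent.comp emb hemb), hcard]
    simp

end CfsgLib.Aschbacher
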