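import Cfsg.Agent.Lib.Aschbacher.OrthProperGeneral
import Cfsg.Agent.Lib.MaxSub.SubspaceMaximalOrthGL

/-!
`Ω` in any characteristic is not contained in the geometric subgroups, dimension at least five.
-/

set_option autoImplicit false

namespace CfsgLib.Aschbacher.OrthEven

open Matrix Module
open CfsgLib.MaxSub.Orth Eichler

variable {F : Type*} [Field F] [Fintype F] {ι : Type} [Fintype ι] [DecidableEq ι] {Q : (ι → F) → F}
  (hQ : Cfsg.Geo.IsNondegenerateQuadraticForm Q)

/-- All Siegel transformations lie in `Ω`. -/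
theorem siegel_mem (hn : 5 ≤ Fintype.card ι) {u a : ι → F} (h : SiegelPair Q u a) :
    siegel hQ h ∈ Cfsg.Geo.omegaGL Q := by
  by_cases hu : u = 0
  · have : siegel hQ h = 1 := Units.ext (Matrix.toLin'.injective (LinearMap.ext fun y => by
      subst hu
      have h0 : ∀ v, QuadraticMap.polar Q v 0 = 0 := fun v => by
        simpa using hQ.polar_bilinear.smul_right 0 v 0
      rw [Matrix.toLin'_apply, siegel_mulVec' hQ h, h0]
      simp))
    rw [this]; exact one_mem _
  obtain ⟨R, hRe, hR⟩ := exists_form hQ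
  have hu0 : R u = 0 := by rw [hRe]; exact h.sing
  have hau : QuadraticMap.polar R u a = 0 := by
    rw [hRe, QuadraticMap.polar_comm]; exact h.orth
  obtain ⟨g, hg⟩ := exists_eich R hu0 hau
  have hfd : 5 ≤ finrank F (ι → F) := by rw [Module.finrank_fintype_fun_eq_card]; exact hn
  have hmem := OmegaSimple.eich_mem R hR hfd hu hu0 hau hg
  have heq : toMat R g = siegel hQ h := Units.ext (Matrix.toLin'.injective (LinearMap.ext fun y => by
    rw [Matrix.toLin'_apply, Matrix.toLin'_apply, toMat_mulVec, hg, siegel_mulVec' hQ h, hRe,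
      QuadraticMap.polar_comm Q u y, QuadraticMap.polar_comm Q a y]
    module))
  rw [← heq, ← hRe, omegaGL_eq hR hn]
  exact Subgroup.mem_map_of_mem _ hmem

include hQ in
theorem exists_siegel_moving_subspace (hn : 5 ≤ Fintype.card ι) {W : Submodule F (ι → F)}
    (h0 : W ≠ ⊥) (h1 : W ≠ ⊤) :
    ∃ (u a : ι → F) (h : SiegelPair Q u a), siegel hQ h ∉ Cfsg.Geo.subspaceStabilizer W := by
  obtain ⟨R, hRe, hR⟩ := exists_form hQ
  have hfd : 5 ≤ finrank F (ι → F) := by rw [Module.finrank_fintype_fun_eq_card]; exact hn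
  have hne := not_le_St hR hfd h0 h1
  rw [Subgroup.closure_le] at hne
  obtain ⟨g, hg, hgW⟩ := Set.not_subset.1 hne
  obtain ⟨u, v, c, hu, hv, huv, hs⟩ := hg
  have he := (sieg_eich R hv g).1 hs
  have h : SiegelPair Q u (c • v) := ⟨by rw [← hRe]; exact hu, by
    rw [hQ.polar_bilinear.smul_left, ← hRe, QuadraticMap.polar_comm, huv, mul_zero]⟩
  refine ⟨u, c • v, h, fun hstab => hgW ?_⟩
  have heq : toMat R g = siegel hQ h := Units.ext (Matrix.toLin'.injective (LinearMap.ext fun y => by
    rw [Matrix.toLin'_apply, Matrix.toLin'_apply, toMat_mulVec, he, siegel_mulVec' hQ h, hRe,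
      QuadraticMap.polar_comm Q u y, QuadraticMap.polar_comm Q (c • v) y]
    module))
  exact toMat_mem_stab.1 (heq ▸ hstab)

include hQ in
theorem not_le_subspaceStabilizer (hn : 5 ≤ Fintype.card ι) {W : Submodule F (ι → F)}
    (h0 : W ≠ ⊥) (h1 : W ≠ ⊤) : ¬ Cfsg.Geo.omegaGL Q ≤ Cfsg.Geo.subspaceStabilizer W := fun hle => by
  obtain ⟨u, a, h, hnot⟩ := exists_siegel_moving_subspace hQ hn h0 h1
  exact hnot (hle (siegel_mem hQ hn h))

include hQ in
theorem hasGoodVectors (hn : 5 ≤ Fintype.card ι) : HasGoodVectors Q := by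
  intro b hb
  obtain ⟨R, hRe, hR⟩ := exists_form hQ
  have hfd : 5 ≤ finrank F (ι → F) := by rw [Module.finrank_fintype_fun_eq_card]; exact hn
  obtain ⟨e₀, he₀0, he₀⟩ := FiniteForms.exists_singular R (by omega)
  obtain ⟨u, hu, hue, hub⟩ := OmegaSimple.singular_avoid' R hR (by omega) he₀0 he₀ hb
  have hu0 : u ≠ 0 := fun h => hub (by rw [h, QuadraticMap.polar_zero_left])
  obtain ⟨f, -, -, -, hval, -⟩ := pair_data (Q := R) (P := (⊤ : Submodule F (ι → F)))
    (fun x _ h => hR.1 x fun y => h y trivial) (by rw [finrank_top]; exact hfd)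
    Submodule.mem_top hu0 hu
  refine ⟨u, by rw [← hRe]; exact hu, by rw [← hRe, QuadraticMap.polar_comm]; exact hub, fun c => ?_⟩
  obtain ⟨a, -, -, hua, -, hQa⟩ := hval c
  exact ⟨a, by rw [← hRe, QuadraticMap.polar_comm]; exact hua, by rw [← hRe]; exact hQa⟩

include hQ in
/-- A singular vector with two perpendicular vectors that are not perpendicular to each other. -/
theorem exists_triple (hn : 5 ≤ Fintype.card ι) : ∃ u a b : ι → F, u ≠ 0 ∧ Q u = 0 ∧
    QuadraticMap.polar Q a u = 0 ∧ QuadraticMap.polar Q b u = 0 ∧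
    QuadraticMap.polar Q a b = 1 := by
  obtain ⟨R, hRe, hR⟩ := exists_form hQ
  have hfd : 5 ≤ finrank F (ι → F) := by rw [Module.finrank_fintype_fun_eq_card]; exact hn
  obtain ⟨u, hu0, hu⟩ := FiniteForms.exists_singular R (by omega)
  obtain ⟨f, -, -, -, -, a, -, b, -, ha, hb, hab⟩ := pair_data (Q := R)
    (P := (⊤ : Submodule F (ι → F)))
    (fun x _ h => hR.1 x fun y => h y trivial) (by rw [finrank_top]; exact hfd)
    Submodule.mem_top hu0 hu
  refine ⟨u, a, b, hu0, ?_, ?_, ?_, ?_⟩ <;> rw [← hRe]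
  · exact hu
  · rw [QuadraticMap.polar_comm]; exact ha
  · rw [QuadraticMap.polar_comm]; exact hb
  · exact hab

include hQ in
theorem not_le_blockStabilizer (hn : 5 ≤ Fintype.card ι) {t k : ℕ} (hk : 3 ≤ k)
    {D : Fin t → Submodule F (ι → F)} (hD : Cfsg.Geo.IsMDecomposition k D) :
    ¬ Cfsg.Geo.omegaGL Q ≤ Cfsg.Geo.decompositionStabilizer D := by
  intro hle
  let i₀ : Fin t := ⟨0, by have := hD.two_le; omega⟩
  let i₁ : Fin t := ⟨1, by have := hD.two_le; omega⟩
  have h01 : i₁ ≠ i₀ := by simp [i₀, i₁, Fin.ext_iff]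
  have hne : ∀ i, D i ≠ ⊥ := fun i h => by
    have := hD.finrank_eq i
    rw [h, finrank_bot] at this
    omega
  have hWt : D i₀ ≠ ⊤ := fun h => by
    have h2 := hD.indep.pairwiseDisjoint h01
    simp only [Function.onFun, h, disjoint_top] at h2
    exact hne i₁ h2
  obtain ⟨u, a, h, hnot⟩ := exists_siegel_moving_subspace hQ hn (hne i₀) hWt
  obtain ⟨σ, hσ⟩ := hle (siegel_mem hQ hn h)
  obtain ⟨⟨x, hx⟩, hx0, hxu, hxa⟩ := exists_perp_kernel ((polarDual hQ u).comp (D i₀).subtype)
    ((polarDual hQ a).comp (D i₀).subtype) (by rw [hD.finrank_eq]; omega)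
  have hfix : x ∈ D (σ i₀) := by
    rw [← hσ i₀]
    exact ⟨x, hx, by rw [Matrix.toLin'_apply]; exact siegel_fix hQ h hxu hxa⟩
  have hi : σ i₀ = i₀ := by
    by_contra hc
    exact hx0 (Subtype.ext (Submodule.disjoint_def.1 (hD.indep.pairwiseDisjoint hc) x hfix hx))
  have hmap := hσ i₀
  rw [hi] at hmap
  refine hnot fun v => ⟨fun hv => hmap.le ⟨v, hv, Matrix.toLin'_apply _ _⟩, fun hv => ?_⟩
  obtain ⟨w, hw, hwv⟩ := hmap.symm.le hv
  rw [Matrix.toLin'_apply] at hwv
  rwa [mulVec_injective _ hwv] at hw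

include hQ in
/-- Fields of any degree greater than one. -/
theorem not_le_subalgebraNormalizer (hn : 5 ≤ Fintype.card ι) {r : ℕ}
    {K : Subalgebra F (Matrix ι ι F)} (hK : Cfsg.Geo.IsFieldSubalgebra r K) (hr : 2 ≤ r) :
    ¬ Cfsg.Geo.omegaGL Q ≤ Cfsg.Geo.subalgebraNormalizer K := by
  classical
  intro hle
  have : Nonempty ι := Fintype.card_pos_iff.1 (by omega)
  have hB := hQ.polar_bilinear
  obtain ⟨u, a, b, hu0, hu, hau, hbu, hab⟩ := exists_triple hQ hn
  -- Siegel transformations centralise `K`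
  have hcomm : ∀ {c : ι → F} (h : SiegelPair Q u c), ∀ k ∈ K,
      (siegel hQ h : Matrix ι ι F) * k = k * (siegel hQ h : Matrix ι ι F) := by
    intro c h k hk
    obtain ⟨g, hg⟩ : ∃ g, siegel hQ h = g := ⟨_, rfl⟩
    have hgm : g ∈ Cfsg.Geo.subalgebraNormalizer K := hg ▸ hle (siegel_mem hQ hn h)
    rw [hg]
    obtain ⟨k', hk'⟩ : ∃ k', (g : Matrix ι ι F) * k * ((g⁻¹ : GL ι F) : Matrix ι ι F) = k' :=
      ⟨_, rfl⟩
    have hkK : k' ∈ K := hk' ▸ (hgm k).1 hk
    have hgk : (g : Matrix ι ι F) * k = k' * (g : Matrix ι ι F) := by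
      rw [← hk', mul_assoc, ← Units.val_mul, inv_mul_cancel, Units.val_one, mul_one]
    suffices k' = k by rw [hgk, this]
    obtain ⟨x, hx0, hxu, hxc, hku, hkc⟩ : ∃ x : ι → F, x ≠ 0 ∧ QuadraticMap.polar Q x u = 0 ∧
        QuadraticMap.polar Q x c = 0 ∧ QuadraticMap.polar Q (k *ᵥ x) u = 0 ∧
        QuadraticMap.polar Q (k *ᵥ x) c = 0 := by
      let L := (((polarDual hQ u).prod (polarDual hQ c)).prod
        (((polarDual hQ u).prod (polarDual hQ c)).comp (Matrix.toLin' k)))
      have hker : LinearMap.ker L ≠ ⊥ := by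
        intro hb
        have h1 := L.finrank_range_add_finrank_ker
        have h3 := Submodule.finrank_le (LinearMap.range L)
        rw [hb, finrank_bot, Module.finrank_fintype_fun_eq_card] at h1
        simp only [finrank_prod, finrank_self] at h3
        omega
      obtain ⟨x, hx, hx0⟩ := Submodule.exists_mem_ne_zero_of_ne_bot hker
      simp only [L, LinearMap.mem_ker, LinearMap.prod_apply, Function.prod_apply, Prod.mk_eq_zero,
        LinearMap.comp_apply, Matrix.toLin'_apply] at hx
      exact ⟨x, hx0, hx.1.1, hx.1.2, hx.2.1, hx.2.2⟩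
    by_contra hc
    refine hx0 (fieldSubalgebra_mulVec_eq_zero hK (sub_mem hkK hk) (sub_ne_zero.2 hc) ?_)
    have h1 := congrArg (fun M => M *ᵥ x) hgk
    simp only [← Matrix.mulVec_mulVec, ← hg, siegel_fix hQ h hxu hxc, siegel_fix hQ h hku hkc] at h1
    rw [Matrix.sub_mulVec, ← h1, sub_self]
  -- hence `K u` lies in every `⟨u, c⟩`
  have hKu : ∀ {c : ι → F}, QuadraticMap.polar Q c u = 0 →
      (∃ d, QuadraticMap.polar Q d u = 0 ∧ QuadraticMap.polar Q c d ≠ 0) → ∀ k ∈ K, ∃ α β : F,
      k *ᵥ u = α • u + β • c := by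
    intro c hc ⟨d, hd, hcd⟩ k hk
    have h : SiegelPair Q u c := ⟨hu, hc⟩
    let y : ι → F := (-(QuadraticMap.polar Q c d)⁻¹) • d
    have hy : (siegel hQ h : Matrix ι ι F) *ᵥ y - y = u := by
      rw [siegel_mulVec' hQ h, hB.smul_left, hd, hB.smul_left, QuadraticMap.polar_comm Q d c,
        mul_zero, mul_zero, neg_mul, inv_mul_cancel₀ hcd]
      module
    have h1 : k *ᵥ u = (siegel hQ h : Matrix ι ι F) *ᵥ (k *ᵥ y) - k *ᵥ y := by
      rw [Matrix.mulVec_mulVec, hcomm h k hk, ← Matrix.mulVec_mulVec, ← Matrix.mulVec_sub, hy]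
    rw [siegel_mulVec' hQ h] at h1
    exact ⟨-(QuadraticMap.polar Q (k *ᵥ y) c + Q c * QuadraticMap.polar Q (k *ᵥ y) u),
      QuadraticMap.polar Q (k *ᵥ y) u, h1.trans (by module)⟩
  have hba : QuadraticMap.polar Q b a ≠ 0 := by
    rw [QuadraticMap.polar_comm, hab]; exact one_ne_zero
  -- the second coefficient vanishes
  have hline : ∀ k ∈ K, ∃ α : F, k *ᵥ u = α • u := by
    intro k hk
    obtain ⟨α, β, h1⟩ := hKu hau ⟨b, hbu, by rw [hab]; exact one_ne_zero⟩ k hk
    obtain ⟨α', β', h2⟩ := hKu hbu ⟨a, hau, hba⟩ k hk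
    have huu : QuadraticMap.polar Q u u = 0 := by rw [polar_self hQ, hu, mul_zero]
    by_cases hb' : β' = 0
    · exact ⟨α', by rw [h2, hb']; module⟩
    by_cases ha' : β = 0
    · exact ⟨α, by rw [h1, ha']; module⟩
    exfalso
    -- `b` lies in `⟨u, a⟩`
    obtain ⟨γ, δ, hbe⟩ : ∃ γ δ : F, b = γ • u + δ • a := by
      refine ⟨(α - α') / β', β / β', ?_⟩
      have h3 : β' • b = (α - α') • u + β • a := by
        rw [h1] at h2
        linear_combination (norm := module) -(1 : F) • h2
      calc b = β'⁻¹ • (β' • b) := by rw [smul_smul, inv_mul_cancel₀ hb', one_smul]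
        _ = _ := by rw [h3, div_eq_inv_mul, div_eq_inv_mul]; module
    have e1 : (1 : F) = δ * (2 * Q a) := by
      rw [← polar_self hQ, ← hab, hbe, hB.add_right, hB.smul_right, hB.smul_right, hau, mul_zero,
        zero_add]
    -- choose other representatives
    have hb2 : QuadraticMap.polar Q b b = δ := by
      have : QuadraticMap.polar Q b b = δ * QuadraticMap.polar Q a b := by
        conv_lhs => arg 2; rw [hbe]
        rw [hB.add_left, hB.smul_left, hB.smul_left, QuadraticMap.polar_comm Q u b, hbu, mul_zero,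
          zero_add]
      rw [this, hab, mul_one]
    obtain ⟨z, hzu, hza, hz0⟩ : ∃ z, QuadraticMap.polar Q z u = 0 ∧ QuadraticMap.polar Q z a = 0 ∧
        z ∉ Submodule.span F ({u, a} : Set (ι → F)) := by
      by_contra hcon
      push Not at hcon
      let L := (polarDual hQ u).prod (polarDual hQ a)
      have hle' : LinearMap.ker L ≤ Submodule.span F (↑({u, a} : Finset (ι → F)) : Set (ι → F)) := by
        intro z hz
        simp only [L, LinearMap.mem_ker, LinearMap.prod_apply, Function.prod_apply,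
          Prod.mk_eq_zero] at hz
        simpa using hcon z hz.1 hz.2
      have h3 := (Submodule.finrank_mono hle').trans
        ((finrank_span_finset_le_card _).trans Finset.card_le_two)
      have h4 := L.finrank_range_add_finrank_ker
      have h5 := Submodule.finrank_le (LinearMap.range L)
      rw [finrank_prod, finrank_self] at h5
      rw [Module.finrank_fintype_fun_eq_card] at h4
      omega
    have hc3 : QuadraticMap.polar Q (b + z) u = 0 := by rw [hB.add_left, hbu, hzu, add_zero]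
    have hc4 : QuadraticMap.polar Q (b + z) a ≠ 0 := by rw [hB.add_left, hza, add_zero]; exact hba
    obtain ⟨α'', β'', h6⟩ := hKu hc3 ⟨a, hau, hc4⟩ k hk
    by_cases h'' : β'' = 0
    · rw [h'', zero_smul, add_zero, h1] at h6
      have h7 : β • a = (α'' - α) • u := by linear_combination (norm := module) (1 : F) • h6
      have h8 := congrArg (fun v => QuadraticMap.polar Q v a) h7
      simp only [hB.smul_left, QuadraticMap.polar_comm Q u a, hau, mul_zero, polar_self hQ] at h8
      rcases mul_eq_zero.1 h8 with h | h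
      · exact ha' h
      · rw [h, mul_zero] at e1
        exact one_ne_zero e1
    refine hz0 ?_
    have hmem : (β'' : F) • z ∈ Submodule.span F ({u, a} : Set (ι → F)) := by
      rw [h1, hbe] at h6
      have : β'' • z = (α - α'' - β'' * γ) • u + (β - β'' * δ) • a := by
        linear_combination (norm := module) -(1 : F) • h6
      rw [this]
      exact add_mem (Submodule.smul_mem _ _ (Submodule.subset_span (by simp)))
        (Submodule.smul_mem _ _ (Submodule.subset_span (by simp)))
    exact (Submodule.smul_mem_iff _ h'').1 hmem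
  -- contradiction with the degree
  let φ : K →ₗ[F] (ι → F) := ((Matrix.mulVecBilin F F).flip u).comp K.val.toLinearMap
  have hinj : Function.Injective φ := by
    rw [injective_iff_map_eq_zero]
    intro x hx
    by_contra hx0
    exact hu0 (fieldSubalgebra_mulVec_eq_zero hK x.2 (fun he => hx0 (Subtype.ext he)) hx)
  have hrange : LinearMap.range φ ≤ Submodule.span F {u} := by
    rintro _ ⟨⟨k, hk⟩, rfl⟩
    obtain ⟨α, hα⟩ := hline k hk
    exact Submodule.mem_span_singleton.2 ⟨α, hα.symm⟩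
  have h1 := Submodule.finrank_mono hrange
  rw [LinearMap.finrank_range_of_inj hinj, hK.finrank_eq, finrank_span_singleton hu0] at h1
  omega

include hQ in
theorem not_le_subfieldSubgroup (hn : 5 ≤ Fintype.card ι) {F₀ : Subfield F} {r : ℕ}
    (hr : r.Prime) (hc : Fintype.card F = Nat.card F₀ ^ r) (P : GL ι F) :
    ¬ Cfsg.Geo.omegaGL Q ≤ Cfsg.Geo.subfieldSubgroup F₀ P := by
  classical
  intro hle
  have : Nonempty ι := Fintype.card_pos_iff.1 (by omega)
  have hB := hQ.polar_bilinear
  obtain ⟨p, hchar⟩ := CharP.exists F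
  obtain ⟨f, hpp, -⟩ := FiniteField.card F p
  haveI : Fact p.Prime := ⟨hpp⟩
  obtain ⟨u, a, b, hu0, hu, hau, hbu, hab⟩ := exists_triple hQ hn
  -- Siegel elements become rational
  have hent : ∀ {c : ι → F} (h : SiegelPair Q u c) i j,
      ((P⁻¹ * siegel hQ h * P : GL ι F) : Matrix ι ι F) i j ∈ F₀ := by
    intro c h
    obtain ⟨X, hX, hXe⟩ := hle (siegel_mem hQ hn h)
    have hXeq : X = P⁻¹ * siegel hQ h * P := by rw [← hXe]; simp [mul_assoc]
    rw [← hXeq]
    obtain ⟨M', ⟨M, rfl⟩, s, hs, hms⟩ := Subgroup.mem_sup_of_normal_right.1 hX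
    obtain ⟨d, hd⟩ := (Cfsg.Geo.mem_scalars_iff s).1 hs
    have hk : ∀ k : ℕ, ∃ h' : SiegelPair Q u ((k : F) • c), siegel hQ h ^ k = siegel hQ h' := by
      intro k
      induction k with
      | zero =>
        refine ⟨h.smul hQ _, Units.ext (Matrix.toLin'.injective (LinearMap.ext fun y => ?_))⟩
        have : QuadraticMap.polar Q y 0 = 0 := by simpa using hB.smul_right 0 y 0
        simp [siegel_mulVec' hQ, this, quad_zero hQ]
      | succ k ih =>
        obtain ⟨hk', he⟩ := ih
        refine ⟨h.smul hQ _, ?_⟩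
        rw [pow_succ, he, siegel_mul hQ]
        congr 1
        push_cast
        module
    have hpow : siegel hQ h ^ p = 1 := by
      obtain ⟨h0, he⟩ := hk p
      obtain ⟨hz, he'⟩ := hk 0
      rw [he, ← pow_zero (siegel hQ h), he']
      congr 2
      rw [CharP.cast_eq_zero, Nat.cast_zero]
    have hpow' : (Matrix.GeneralLinearGroup.map (F₀.subtype : F₀ →+* F) M * s) ^ p = 1 := by
      rw [hms, hXeq, show P⁻¹ * siegel hQ h * P = MulAut.conj P⁻¹ (siegel hQ h) by simp,
        ← map_pow, hpow, map_one]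
    rw [Commute.mul_pow (by exact (scalars_comm hs _).symm), ← map_pow] at hpow'
    have hval' := congrArg Units.val hpow'
    rw [Units.val_mul, Units.val_pow_eq_pow_val s, hd, smul_pow, one_pow, Matrix.mul_smul, mul_one,
      Units.val_one] at hval'
    have h00 := congrFun (congrFun hval' (Classical.arbitrary ι)) (Classical.arbitrary ι)
    rw [Matrix.smul_apply, smul_eq_mul, Matrix.one_apply_eq] at h00
    have hdp : (d : F) ^ p ∈ F₀ := by
      rw [eq_inv_of_mul_eq_one_left h00]
      exact F₀.inv_mem (Subtype.prop _)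
    have hd0 : (d : F) ∈ F₀ := by
      refine mem_of_pow_card_eq ((frobenius_inj F p) ?_)
      rw [frobenius_def, frobenius_def, ← pow_mul, mul_comm, pow_mul]
      haveI : Fintype F₀ := Fintype.ofFinite _
      rw [Nat.card_eq_fintype_card]
      exact congrArg Subtype.val (FiniteField.pow_card (⟨(d : F) ^ p, hdp⟩ : F₀))
    intro i j
    rw [← hms, Units.val_mul, hd, Matrix.mul_smul, mul_one, Matrix.smul_apply, smul_eq_mul]
    exact F₀.mul_mem hd0 (Subtype.prop _)
  -- a non-zero entry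
  set u' := ((P⁻¹ : GL ι F) : Matrix ι ι F) *ᵥ u with hu'
  obtain ⟨i, hi⟩ : ∃ i, u' i ≠ 0 := by
    by_contra hcon
    push Not at hcon
    exact hu0 (mulVec_injective P⁻¹ (show _ *ᵥ u = _ *ᵥ 0 by
      rw [Matrix.mulVec_zero]; exact funext hcon))
  obtain ⟨j, hj⟩ : ∃ j, QuadraticMap.polar Q ((P : Matrix ι ι F) *ᵥ Pi.single j 1) u ≠ 0 := by
    by_contra hcon
    push Not at hcon
    obtain ⟨⟨x, hx⟩, -⟩ := hQ.nondegenerate u hu0
    refine hx ?_
    let L : (ι → F) →ₗ[F] F :=
      { toFun := fun y => QuadraticMap.polar Q ((P : Matrix ι ι F) *ᵥ y) u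
        map_add' := fun x y => by rw [Matrix.mulVec_add, hB.add_left]
        map_smul' := fun c x => by rw [Matrix.mulVec_smul, hB.smul_left, RingHom.id_apply, smul_eq_mul] }
    have hL : L = 0 := (Pi.basisFun F ι).ext fun j => by
      rw [Pi.basisFun_apply]; exact hcon j
    have := LinearMap.congr_fun hL (((P⁻¹ : GL ι F) : Matrix ι ι F) *ᵥ x)
    simpa [L, mulVec_inv_cancel] using this
  set k := QuadraticMap.polar Q ((P : Matrix ι ι F) *ᵥ Pi.single j 1) u * u' i with hk
  have hk0 : k ≠ 0 := mul_ne_zero hj hi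
  -- products of two differences
  have hts : ∀ t s : F, t * s * k ∈ F₀ := by
    intro t s
    have hta : SiegelPair Q u (t • a) := (SiegelPair.mk hu hau).smul hQ t
    have hsb : SiegelPair Q u (s • b) := (SiegelPair.mk hu hbu).smul hQ s
    set N₁ := ((P⁻¹ * siegel hQ hta * P : GL ι F) : Matrix ι ι F) - 1
    set N₂ := ((P⁻¹ * siegel hQ hsb * P : GL ι F) : Matrix ι ι F) - 1
    have hN : ∀ (M : GL ι F), (∀ i j, (M : Matrix ι ι F) i j ∈ F₀) →
        ∀ i j, ((M : Matrix ι ι F) - 1) i j ∈ F₀ := fun M hM i j => by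
      rw [Matrix.sub_apply, Matrix.one_apply]
      exact F₀.sub_mem (hM i j) (by split_ifs; exacts [F₀.one_mem, F₀.zero_mem])
    have hmem : (N₁ * N₂) i j ∈ F₀ := by
      rw [Matrix.mul_apply]
      exact F₀.sum_mem fun l _ => F₀.mul_mem (hN _ (hent hta) i l) (hN _ (hent hsb) l j)
    have hval : (N₁ * N₂) i j = -(t * s * k) := by
      have hNx : ∀ {c : ι → F} (h : SiegelPair Q u c) (x : ι → F),
          (((P⁻¹ * siegel hQ h * P : GL ι F) : Matrix ι ι F) - 1) *ᵥ x =
            ((P⁻¹ : GL ι F) : Matrix ι ι F) *ᵥ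
              (QuadraticMap.polar Q ((P : Matrix ι ι F) *ᵥ x) u • c -
                (QuadraticMap.polar Q ((P : Matrix ι ι F) *ᵥ x) c +
                  Q c * QuadraticMap.polar Q ((P : Matrix ι ι F) *ᵥ x) u) • u) := by
        intro c h x
        rw [Matrix.sub_mulVec, Matrix.one_mulVec, mul_mulVec, mul_mulVec, siegel_mulVec' hQ h,
          add_sub_assoc, Matrix.mulVec_add, inv_mulVec_cancel, add_sub_cancel_left]
      have huu : QuadraticMap.polar Q u u = 0 := by rw [polar_self hQ, hu, mul_zero]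
      have h1 : (N₁ * N₂) i j = ((N₁ * N₂) *ᵥ Pi.single j 1) i := by
        rw [Matrix.mulVec_single_one]; rfl
      rw [h1, ← Matrix.mulVec_mulVec, hNx hsb, hNx hta, mulVec_inv_cancel]
      simp only [sub_eq_add_neg, ← neg_smul, hB.add_left, hB.smul_left, hB.smul_right, huu, hbu,
        QuadraticMap.polar_comm Q u a, hau, QuadraticMap.polar_comm Q b a, hab, mul_zero, add_zero,
        zero_smul, zero_add, mul_one, Matrix.mulVec_smul, Pi.smul_apply, smul_eq_mul]
      rw [← hu', hk]
      ring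
    rw [hval] at hmem
    simpa using F₀.neg_mem hmem
  have hk1 : k ∈ F₀ := by simpa using hts 1 1
  have hall : ∀ x : F, x ∈ F₀ := fun x => by
    have := F₀.div_mem (hts x 1) hk1
    rwa [mul_one, mul_div_cancel_right₀ _ hk0] at this
  have hcard : Nat.card F₀ = Fintype.card F := by
    rw [← Nat.card_eq_fintype_card]
    exact Nat.card_congr (Equiv.subtypeUnivEquiv hall)
  rw [← hcard] at hc
  have h1 : 1 < Nat.card F₀ := hcard ▸ Fintype.one_lt_card
  exact hr.one_lt.ne (Nat.pow_right_injective h1 ((pow_one (Nat.card F₀)).trans hc))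

end CfsgLib.Aschbacher.OrthEven
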