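import Cfsg.Agent.Lib.Aschbacher.OrthEven.General
import Cfsg.Agent.Lib.Aschbacher.OrthEven.Proper
import Cfsg.Agent.Lib.Aschbacher.MaximalPrime
import Cfsg.Agent.Lib.FiniteForms.WittBasis

/-!
Shapes of the geometric structures in even dimension: parities, and structures forcing plus type.
-/

set_option autoImplicit false

namespace CfsgLib.Aschbacher.OrthEven

open Matrix Module

variable {F : Type*} [Field F] {ι : Type} [Fintype ι] [DecidableEq ι] {Q : (ι → F) → F}

lemma not_maximal_of_between {G : Type*} [Group G] {S H X : Subgroup G}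
    (hH : Cfsg.Geo.IsMaximalIn S H) (hle : H ≤ X) (hK : ∃ K, X ⊓ S < K ∧ K < S) : False := by
  obtain ⟨K, h1, h2⟩ := hK
  have hHX : H ≤ X ⊓ S := le_inf hle hH.1.le
  rcases hH.2 K (hHX.trans h1.le) h2.le with h | h
  · exact absurd (h ▸ h1) (not_lt_of_ge hHX)
  · exact h2.ne h

lemma omega_le (Q : (ι → F) → F) : Cfsg.Geo.omegaGL Q ≤ Cfsg.isometryGroup F Q := by
  rintro _ ⟨g, -, rfl⟩
  exact g.2

lemma two_eq_zero_of_not_odd [Fintype F] (h : ¬ Odd (Fintype.card F)) : (2 : F) = 0 := by
  by_contra h2
  refine h (Nat.odd_iff.2 (FiniteField.odd_card_of_char_ne_two fun hc => h2 ?_))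
  haveI : CharP F 2 := ringChar.of_eq hc
  exact CharTwo.two_eq_zero

lemma not_odd_of_two_eq_zero [Fintype F] (h2 : (2 : F) = 0) : ¬ Odd (Fintype.card F) := by
  haveI : CharP F 2 := (CharP.charP_iff_prime_eq_zero Nat.prime_two).2 (by exact_mod_cast h2)
  rw [Nat.not_odd_iff]
  exact FiniteField.even_card_of_char_two (ringChar.eq F 2)

lemma odd_of_two_ne_zero [Fintype F] (h2 : (2 : F) ≠ 0) : Odd (Fintype.card F) := by
  by_contra h
  exact h2 (two_eq_zero_of_not_odd h)

variable (hQ : Cfsg.Geo.IsNondegenerateQuadraticForm Q)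

include hQ in
/-- Non-degenerate subspaces of odd dimension need odd order. -/
lemma odd_card_of_odd_dim [Fintype F] {W : Submodule F (ι → F)}
    (hnd : Cfsg.Geo.IsNondegenerateOn (QuadraticMap.polar Q) W) (hodd : Odd (finrank F W)) :
    Odd (Fintype.card F) := by
  refine odd_of_two_ne_zero fun h2 => Nat.not_even_iff_odd.2 hodd ?_
  exact even_finrank_of_alternating hQ.polar_bilinear
    (fun v => by rw [polar_self hQ, h2, zero_mul]) _ W rfl fun w hw hw0 => (hnd w hw hw0).2

/-- A tensor product with a plane factor and singular pure tensors has plus type. -/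
theorem plus_of_pure_singular {b : ℕ} (e : ι ≃ Fin 2 × Fin b) (P : GL ι F)
    (hpure : ∀ (x₁ : Fin 2 → F) (x₂ : Fin b → F),
      Q ((P : Matrix ι ι F) *ᵥ ((fun p : Fin 2 × Fin b => x₁ p.1 * x₂ p.2) ∘ e)) = 0) :
    Cfsg.Geo.IsPlusTypeOn Q ⊤ := by
  let L₀ : (Fin b → F) →ₗ[F] (ι → F) :=
      { toFun := fun y => (fun p : Fin 2 × Fin b => (Pi.single 0 1 : Fin 2 → F) p.1 * y p.2) ∘ e
        map_add' := fun x y => funext fun i => mul_add _ _ _
        map_smul' := fun c x => by
          funext i
          simp only [Pi.smul_apply, Function.comp_apply, smul_eq_mul, RingHom.id_apply]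
          ring }
  let L : (Fin b → F) →ₗ[F] (ι → F) := (Matrix.toLin' (P : Matrix ι ι F)).comp L₀
  have hinj : Function.Injective L := by
    intro y z h
    have h' := mulVec_injective P (show (P : Matrix ι ι F) *ᵥ _ = (P : Matrix ι ι F) *ᵥ _ by
      simpa [L, L₀] using h)
    funext j
    have := congrFun h' (e.symm (0, j))
    simpa using this
  refine plus_top_of_singular (U := LinearMap.range L) ?_ ?_
  · rintro _ ⟨y, rfl⟩
    simpa [L, L₀] using hpure _ y
  · rw [LinearMap.finrank_range_of_inj hinj, Module.finrank_fintype_fun_eq_card, Fintype.card_fin,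
      Fintype.card_congr e, Fintype.card_prod, Fintype.card_fin, Fintype.card_fin]

include hQ in
/-- A structure over a subfield of index two gives plus type. -/
theorem plus_of_subfield_two [Fintype F] (heven : Even (Fintype.card ι)) [Nonempty ι]
    {F₀ : Subfield F} {P : GL ι F} {ζ : F} (hc : Fintype.card F = Nat.card F₀ ^ 2) (hζ : ζ ≠ 0)
    (hP : Cfsg.Geo.IsQuadFormRationalStructure (fun v => ζ * Q v) F₀ P) :
    Cfsg.Geo.IsPlusTypeOn Q ⊤ := by
  classical
  obtain ⟨m, hm⟩ := heven
  have hm1 : 1 ≤ m := by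
    have : 0 < Fintype.card ι := Fintype.card_pos
    omega
  obtain ⟨R₁, hR₁, hR₁nd⟩ := CfsgLib.MaxSub.Orth.exists_form hQ
  let R : QuadraticForm F (ι → F) := ζ • R₁
  have hR : ∀ v, R v = ζ * Q v := fun v => by simp [R, ← hR₁]
  let E : (ι → F₀) →+ (ι → F) :=
    AddMonoidHom.mk' (fun u => (P : Matrix ι ι F) *ᵥ fun j => (u j : F)) fun u w => by
      rw [← Matrix.mulVec_add]; rfl
  have hEs : ∀ (c : F₀) u, E (c • u) = (c : F) • E u := fun c u => by
    simp only [E, AddMonoidHom.mk'_apply]
    rw [← Matrix.mulVec_smul]; rfl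
  have hmem : ∀ u, R (E u) ∈ F₀ := fun u => by
    rw [hR]; exact hP _ fun j => (u j).2
  let R₀ : QuadraticForm F₀ (ι → F₀) := QuadraticMap.ofPolar (fun u => ⟨R (E u), hmem u⟩)
    (fun a u => Subtype.ext (by
      show R (E (a • u)) = (a : F) * (a : F) * R (E u)
      rw [hEs, QuadraticMap.map_smul, smul_eq_mul]))
    (fun u u' w => Subtype.ext (by
      have := QuadraticMap.polar_add_left R (E u) (E u') (E w)
      simp only [QuadraticMap.polar, ← map_add] at this
      simp only [QuadraticMap.polar, Subfield.coe_sub, Subfield.coe_add]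
      exact this))
    (fun a u w => Subtype.ext (by
      have := QuadraticMap.polar_smul_left R (a : F) (E u) (E w)
      simp only [QuadraticMap.polar, ← hEs, ← map_add, smul_eq_mul] at this
      simp only [QuadraticMap.polar, Subfield.coe_sub, smul_eq_mul, Subfield.coe_mul]
      exact this))
  have hR₀ : ∀ u, ((R₀ u : F₀) : F) = R (E u) := fun u => rfl
  have hpol : ∀ u w, ((QuadraticMap.polar R₀ u w : F₀) : F) = QuadraticMap.polar R (E u) (E w) :=
    fun u w => by simp only [QuadraticMap.polar, Subfield.coe_sub, hR₀, map_add]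
  have hnd : CfsgLib.FiniteForms.PolarNondeg R₀ := by
    intro x hx
    have h0 : E x = 0 := by
      by_contra h0
      obtain ⟨-, y, hy⟩ := hQ.nondegenerate _ h0
      let L : (ι → F) →ₗ[F] F := (QuadraticMap.polarBilin R).flip (E x) |>.comp
        (Matrix.toLin' (P : Matrix ι ι F))
      have hL : L = 0 := (Pi.basisFun F ι).ext fun j => by
        have h := congrArg (fun z : F₀ => (z : F)) (hx (Pi.single j 1))
        simp only [hpol] at h
        simp only [L, LinearMap.comp_apply, Pi.basisFun_apply, Matrix.toLin'_apply,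
          LinearMap.flip_apply, QuadraticMap.polarBilin_apply_apply, LinearMap.zero_apply]
        rw [QuadraticMap.polar_comm]
        have he : E (Pi.single j 1) = (P : Matrix ι ι F) *ᵥ Pi.single j 1 := by
          simp only [E, AddMonoidHom.mk'_apply]
          congr 1
          funext k
          by_cases h : k = j
          · subst h; simp
          · simp [Pi.single_eq_of_ne h]
        rw [he] at h
        exact h
      have h := LinearMap.congr_fun hL (((P⁻¹ : GL ι F) : Matrix ι ι F) *ᵥ y)
      simp only [L, LinearMap.comp_apply, Matrix.toLin'_apply, mulVec_inv_cancel,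
        LinearMap.flip_apply, QuadraticMap.polarBilin_apply_apply, LinearMap.zero_apply] at h
      have : ζ * QuadraticMap.polar Q (E x) y = 0 := by
        rw [← h, QuadraticMap.polar_comm Q]
        simp only [QuadraticMap.polar, hR]; ring
      exact hy ((mul_eq_zero.1 this).resolve_left hζ)
    funext j
    have h1 : (fun l => ((x l : F₀) : F)) = (0 : ι → F) :=
      mulVec_injective P (show (P : Matrix ι ι F) *ᵥ _ = (P : Matrix ι ι F) *ᵥ 0 by
        rw [Matrix.mulVec_zero]; exact h0)
    exact Subtype.ext (congrFun h1 j)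
  -- a totally singular half for the scaled form
  suffices h : ∃ U : Submodule F (ι → F), (∀ v ∈ U, R v = 0) ∧ finrank F U = m by
    obtain ⟨U, hU, hd⟩ := h
    refine plus_top_of_singular (U := U) (fun v hv => ?_) (by rw [hd, hm]; ring)
    exact (mul_eq_zero.1 ((hR v).symm.trans (hU v hv))).resolve_left hζ
  haveI : Finite F₀ := Finite.of_injective _ Subtype.val_injective
  have hlift : ∀ {k : ℕ} {e f : Fin k → ι → F₀}, CfsgLib.FiniteForms.HypFam R₀ e f →
      CfsgLib.FiniteForms.HypFam R (E ∘ e) (E ∘ f) := fun {k e f} h =>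
    ⟨fun i => by simp [← hR₀, h.qe], fun i => by simp [← hR₀, h.qf],
      fun i j => by simp only [Function.comp_apply, ← hpol, h.ef]; split_ifs <;> rfl,
      fun i j => by simp [← hpol, h.ee], fun i j => by simp [← hpol, h.ff]⟩
  rcases CfsgLib.FiniteForms.even_dichotomy hnd hm1
    (by rw [Module.finrank_fintype_fun_eq_card, hm]; ring) with
    ⟨e, f, h⟩ | ⟨e, f, x, y, h, hx, hy, hQx, hxy, hroot, -⟩
  · refine ⟨Submodule.span F (Set.range (E ∘ e)), fun v hv => ?_, ?_⟩
    · obtain ⟨c, rfl⟩ := (Submodule.mem_span_range_iff_exists_fun F).1 hv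
      exact CfsgLib.FiniteForms.quad_sum_eq_zero _ _ _ (hlift h).qe (hlift h).ee
    · have hli : LinearIndependent F (E ∘ e) :=
        (hlift h).linearIndependent.comp Sum.inl Sum.inl_injective
      rw [finrank_span_eq_card hli, Fintype.card_fin]
  -- the anisotropic plane becomes hyperbolic
  obtain ⟨t, ht⟩ : ∃ t : F, t ^ 2 + t + ((R₀ y : F₀) : F) = 0 := by
    let p : Polynomial F₀ := Polynomial.X ^ 2 + Polynomial.X + Polynomial.C (R₀ y)
    have hdeg : p.natDegree = 2 := by
      simp only [p]
      compute_degree!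
    have hp : Irreducible p := by
      refine Polynomial.irreducible_of_degree_le_three_of_not_isRoot ?_ ?_
      · rw [hdeg]; simp
      · intro r hr
        exact hroot r (by simpa [p] using hr)
    haveI := Fact.mk hp
    have hmon : p.Monic := by
      simp only [p]
      monicity!
    let pb := AdjoinRoot.powerBasis' hmon
    have hfK : finrank F₀ (AdjoinRoot p) = 2 := by
      rw [pb.finrank, AdjoinRoot.powerBasis'_dim, hdeg]
    have hfF : finrank F₀ F = 2 := by
      haveI : Fintype F₀ := Fintype.ofFinite _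
      have h1 := Module.card_eq_pow_finrank (K := F₀) (V := F)
      rw [hc, Nat.card_eq_fintype_card] at h1
      exact (Nat.pow_right_injective (Fintype.one_lt_card (α := F₀)) h1).symm
    obtain ⟨φ⟩ := FiniteField.nonempty_algHom_of_finrank_dvd (F := F₀) (K := AdjoinRoot p) (L := F)
      (by rw [hfK, hfF])
    refine ⟨φ (AdjoinRoot.root p), ?_⟩
    have h : Polynomial.aeval (AdjoinRoot.root p) p = 0 := by
      rw [AdjoinRoot.aeval_eq, AdjoinRoot.mk_self]
    have h' : Polynomial.aeval (φ (AdjoinRoot.root p)) p = 0 := by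
      rw [Polynomial.aeval_algHom_apply, h, map_zero]
    simp only [p, map_add, map_pow, Polynomial.aeval_X, Polynomial.aeval_C] at h'
    exact h'
  set z := E y + t • E x with hz
  have hxye : ∀ i, QuadraticMap.polar R z (E (e i)) = 0 ∧ QuadraticMap.polar R z (E (f i)) = 0 := by
    intro i
    obtain ⟨hxe, hxf⟩ := CfsgLib.FiniteForms.mem_famPerp.mp hx
    obtain ⟨hye, hyf⟩ := CfsgLib.FiniteForms.mem_famPerp.mp hy
    simp [hz, QuadraticMap.polar_add_left, QuadraticMap.polar_smul_left, ← hpol,
      QuadraticMap.polar_comm R₀ y (e i), QuadraticMap.polar_comm R₀ x (e i),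
      QuadraticMap.polar_comm R₀ y (f i), QuadraticMap.polar_comm R₀ x (f i), hxe, hxf, hye, hyf]
  have hRz : R z = 0 := by
    have h1 : ((R₀ x : F₀) : F) = 1 := by rw [hQx]; rfl
    have h2 : ((QuadraticMap.polar R₀ x y : F₀) : F) = 1 := by rw [hxy]; rfl
    rw [hz, QuadraticMap.map_add R, QuadraticMap.map_smul, QuadraticMap.polar_smul_right,
      QuadraticMap.polar_comm R (E y), ← hpol, h2, ← hR₀, ← hR₀, h1, smul_eq_mul, smul_eq_mul]
    linear_combination ht
  have hz0 : z ≠ 0 := by
    intro h0
    have hsx : QuadraticMap.polar R z (E x) = 1 + t * 2 := by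
      rw [hz, QuadraticMap.polar_add_left, QuadraticMap.polar_smul_left, QuadraticMap.polar_self,
        QuadraticMap.polar_comm R (E y), ← hpol, hxy, ← hR₀, hQx]
      simp [mul_comm]
    rw [h0] at hsx
    simp only [QuadraticMap.polar_zero_left] at hsx
    have ht0 : t ∈ F₀ := by
      have h2 : (2 : F) ≠ 0 := fun h2 => by simp [h2] at hsx
      have : t = -(1 / 2) := by field_simp; linear_combination -hsx
      rw [this]
      exact F₀.neg_mem (F₀.div_mem F₀.one_mem (by
        rw [← one_add_one_eq_two]; exact F₀.add_mem F₀.one_mem F₀.one_mem))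
    exact hroot ⟨t, ht0⟩ (Subtype.ext (by simpa using ht))
  refine ⟨Submodule.span F (Set.range (Sum.elim (E ∘ e) fun _ : Fin 1 => z)), fun v hv => ?_, ?_⟩
  · obtain ⟨c, rfl⟩ := (Submodule.mem_span_range_iff_exists_fun F).1 hv
    refine CfsgLib.FiniteForms.quad_sum_eq_zero _ _ _ ?_ ?_
    · rintro (i | i)
      · exact (hlift h).qe i
      · exact hRz
    · rintro (i | i) (j | j)
      · exact (hlift h).ee i j
      · show QuadraticMap.polar R (E (e i)) z = 0
        rw [QuadraticMap.polar_comm]; exact (hxye i).1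
      · exact (hxye j).1
      · show QuadraticMap.polar R z z = 0
        rw [QuadraticMap.polar_self, hRz, nsmul_zero]
  · rw [finrank_span_eq_card, Fintype.card_sum, Fintype.card_fin, Fintype.card_fin]
    · omega
    refine LinearIndependent.sum_type ((hlift h).linearIndependent.comp Sum.inl Sum.inl_injective)
      (linearIndependent_unique_iff.2 hz0) ?_
    rw [Submodule.disjoint_def]
    intro w hw hwz
    obtain ⟨c, rfl⟩ := (Submodule.mem_span_range_iff_exists_fun F).1 hw
    simp only [Set.range_const, Submodule.mem_span_singleton] at hwz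
    obtain ⟨d, hd⟩ := hwz
    refine Finset.sum_eq_zero fun j _ => ?_
    have h1 := congrArg (fun v => QuadraticMap.polarBilin R v (E (f j))) hd
    simp [QuadraticMap.polarBilin_apply_apply, map_sum, (hxye j).2] at h1
    have hef : ∀ a, QuadraticMap.polar R (E (e a)) (E (f j)) = if a = j then 1 else 0 :=
      fun a => (hlift h).ef a j
    simp [hef] at h1
    simp [← h1]

end CfsgLib.Aschbacher.OrthEven
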