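import Cfsg.Agent.Lib.Aschbacher.OrthEven.Basic

/-!
Tensor decompositions of a quadratic form in even dimension.
-/

set_option autoImplicit false

namespace CfsgLib.Aschbacher

open Matrix Module

open scoped Kronecker

variable {F : Type*} [Field F] {ι κ : Type} [Fintype ι] [DecidableEq ι] [Fintype κ] [DecidableEq κ]

/-- The linear equivalence of a frame. -/
def frameEquiv (e : ι ≃ κ) (P : GL ι F) : (κ → F) ≃ₗ[F] (ι → F) where
  toFun x := (P : Matrix ι ι F) *ᵥ (x ∘ e)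
  invFun u := (((P⁻¹ : GL ι F) : Matrix ι ι F) *ᵥ u) ∘ e.symm
  map_add' x y := by rw [← Matrix.mulVec_add]; rfl
  map_smul' c x := by rw [RingHom.id_apply, ← Matrix.mulVec_smul]; rfl
  left_inv x := by
    simp only [inv_mulVec_cancel, Function.comp_assoc, e.self_comp_symm, Function.comp_id]
  right_inv u := by
    simp only [Function.comp_assoc, e.symm_comp_self, Function.comp_id, mulVec_inv_cancel]

lemma frameEquiv_apply (e : ι ≃ κ) (P : GL ι F) (x : κ → F) :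
    frameEquiv e P x = (P : Matrix ι ι F) *ᵥ (x ∘ e) := rfl

variable {Q : (ι → F) → F} {H : Subgroup (GL ι F)}

/-- In characteristic two, vectors generated from a basis by sums of perpendicular vectors and
permuted by an irreducible group of isometries are singular. -/
theorem quad_zero_of_basis [Finite F] (hQ : Cfsg.Geo.IsNondegenerateQuadraticForm Q)
    (h2 : (2 : F) = 0) (hn : 2 ≤ Fintype.card ι) (hH : H ≤ Cfsg.isometryGroup F Q) (hirr : Irr H)
    (Φ : (κ → F) ≃ₗ[F] (ι → F)) (S : Set (ι → F)) (hb : ∀ p, Φ (Pi.single p 1) ∈ S)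
    (hgen : ∀ E : (ι → F) → F, (∀ u v, QuadraticMap.polar Q u v = 0 → E (u + v) = E u + E v) →
      (∀ (c : F) u, E (c • u) = c ^ 2 * E u) → (∀ p, E (Φ (Pi.single p 1)) = 0) →
      ∀ s ∈ S, E s = 0)
    (hS : ∀ g ∈ H, ∀ s ∈ S, (g : Matrix ι ι F) *ᵥ s ∈ S) : ∀ s ∈ S, Q s = 0 := by
  classical
  let D : (ι → F) → F := fun u => ∑ p, (Φ.symm u) p ^ 2 * Q (Φ (Pi.single p 1))
  have hDadd : ∀ u v, D (u + v) = D u + D v := fun u v => by
    simp only [D, map_add, Pi.add_apply, ← Finset.sum_add_distrib]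
    refine Finset.sum_congr rfl fun p _ => ?_
    linear_combination (Φ.symm u p * Φ.symm v p * Q (Φ (Pi.single p 1))) * h2
  have hDsm : ∀ (c : F) u, D (c • u) = c ^ 2 * D u := fun c u => by
    simp only [D, map_smul, Pi.smul_apply, smul_eq_mul, Finset.mul_sum, mul_pow, mul_assoc]
  have hDb : ∀ p, D (Φ (Pi.single p 1)) = Q (Φ (Pi.single p 1)) := fun p => by
    simp only [D, LinearEquiv.symm_apply_apply]
    rw [Finset.sum_eq_single p (fun r _ hr => by simp [hr]) (by simp)]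
    simp
  have hQD : ∀ s ∈ S, Q s = D s := fun s hs => by
    refine sub_eq_zero.1 (hgen (fun u => Q u - D u) (fun u v h => ?_) (fun c u => ?_)
      (fun p => by rw [hDb, sub_self]) s hs)
    · show Q (u + v) - D (u + v) = Q u - D u + (Q v - D v)
      rw [quad_add hQ, h, hDadd]; ring
    · show Q (c • u) - D (c • u) = c ^ 2 * (Q u - D u)
      rw [hQ.smul, hDsm]; ring
  have hDinv : ∀ g ∈ H, ∀ u, D ((g : Matrix ι ι F) *ᵥ u) = D u := by
    intro g hg u
    let δ : (ι → F) →+ F := AddMonoidHom.mk' (fun x => D ((g : Matrix ι ι F) *ᵥ x) - D x)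
      fun x y => by simp only [Matrix.mulVec_add, hDadd]; ring
    refine sub_eq_zero.1 (show δ u = 0 from ?_)
    rw [← Φ.apply_symm_apply u, pi_eq_sum_univ' (Φ.symm u), map_sum, map_sum]
    refine Finset.sum_eq_zero fun p _ => ?_
    show D ((g : Matrix ι ι F) *ᵥ Φ (_ • Pi.single p 1)) - D (Φ (_ • Pi.single p 1)) = 0
    rw [map_smul, Matrix.mulVec_smul, hDsm, hDsm, hDb, ← hQD _ (hS g hg _ (hb p)),
      mem_isometryGroup.1 (hH hg), sub_self]
  intro s hs
  rw [hQD s hs]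
  exact additive_square_eq_zero hn hirr D hDadd hDsm hDinv s

/-- A pure tensor of two vectors. -/
def pv {a b : ℕ} (x : Fin a → F) (y : Fin b → F) : Fin a × Fin b → F := fun p => x p.1 * y p.2

lemma kron_mulVec_pv {a b : ℕ} (c : Matrix (Fin a) (Fin a) F) (d : Matrix (Fin b) (Fin b) F)
    (x : Fin a → F) (y : Fin b → F) : (c ⊗ₖ d) *ᵥ pv x y = pv (c *ᵥ x) (d *ᵥ y) := by
  funext p
  simp only [pv, Matrix.mulVec, dotProduct, Matrix.kroneckerMap_apply, Fintype.sum_prod_type,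
    Finset.sum_mul, Finset.mul_sum]
  rw [Finset.sum_comm]
  exact Finset.sum_congr rfl fun i _ => Finset.sum_congr rfl fun j _ => by ring

lemma form_pv {a b : ℕ} (G₁ : Matrix (Fin a) (Fin a) F) (G₂ : Matrix (Fin b) (Fin b) F)
    (x x' : Fin a → F) (y y' : Fin b → F) :
    Cfsg.Geo.formOfGram id (G₁ ⊗ₖ G₂) (pv x y) (pv x' y') =
      (x ⬝ᵥ (G₁ *ᵥ x')) * (y ⬝ᵥ (G₂ *ᵥ y')) := by
  rw [formOfGram_eq, Function.id_comp, kron_mulVec_pv]
  simp only [pv, dotProduct, Fintype.sum_prod_type, Finset.sum_mul, Finset.mul_sum]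
  rw [Finset.sum_comm]
  exact Finset.sum_congr rfl fun i _ => Finset.sum_congr rfl fun j _ => by ring

lemma single_eq_pv {a b : ℕ} (p : Fin a × Fin b) :
    (Pi.single p 1 : Fin a × Fin b → F) = pv (Pi.single p.1 1) (Pi.single p.2 1) := by
  funext r
  by_cases h : r = p
  · subst h; simp [pv]
  · rw [Pi.single_eq_of_ne h]
    rcases not_and_or.1 (fun hh : r.1 = p.1 ∧ r.2 = p.2 => h (Prod.ext hh.1 hh.2)) with h' | h' <;>
      simp [pv, h']

/-- A symmetric matrix with zero diagonal gives an alternating form in characteristic two. -/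
lemma dot_self_eq_zero {k : ℕ} (h2 : (2 : F) = 0) {G : Matrix (Fin k) (Fin k) F} (hs : Gᵀ = G)
    (hd : ∀ i, G i i = 0) (x : Fin k → F) : x ⬝ᵥ (G *ᵥ x) = 0 := by
  let φ : (Fin k → F) →+ F := AddMonoidHom.mk' (fun y => y ⬝ᵥ (G *ᵥ y)) fun y z => by
    have hsw : y ⬝ᵥ (G *ᵥ z) = z ⬝ᵥ (G *ᵥ y) := by
      rw [dotProduct_comm, ← Matrix.vecMul_transpose, ← Matrix.dotProduct_mulVec, hs]
    rw [Matrix.mulVec_add, add_dotProduct, dotProduct_add, dotProduct_add, hsw]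
    linear_combination (z ⬝ᵥ (G *ᵥ y)) * h2
  show φ x = 0
  rw [pi_eq_sum_univ' x, map_sum]
  refine Finset.sum_eq_zero fun i _ => ?_
  show (x i • Pi.single i 1) ⬝ᵥ (G *ᵥ (x i • Pi.single i 1)) = 0
  rw [Matrix.mulVec_smul, smul_dotProduct, dotProduct_smul, Matrix.mulVec_single_one,
    single_dotProduct, one_mul, Matrix.col_apply, hd, smul_zero, smul_zero]

open Cfsg.Geo in
/-- A stabilised decomposition as a tensor product of two symplectic forms, pure tensors singular. -/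
def HasAltTensor (Q : (ι → F) → F) (H : Subgroup (GL ι F)) : Prop :=
  ∃ (a b : ℕ) (e : ι ≃ Fin a × Fin b) (P : GL ι F) (f₁ : (Fin a → F) → (Fin a → F) → F)
    (f₂ : (Fin b → F) → (Fin b → F) → F), 2 ≤ a ∧ a ≤ b ∧ IsSymplecticForm f₁ ∧
    IsSymplecticForm f₂ ∧ IsTensorFormStructure id (QuadraticMap.polar Q) f₁ f₂ e P ∧
    (∀ (x₁ : Fin a → F) (x₂ : Fin b → F),
      Q ((P : Matrix ι ι F) *ᵥ ((fun p : Fin a × Fin b => x₁ p.1 * x₂ p.2) ∘ e)) = 0) ∧
    H ≤ tensorProductSubgroup a b e P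

open Cfsg.Geo in
/-- A stabilised decomposition as a tensor product of two symmetric forms. -/
def HasSymTensor (Q : (ι → F) → F) (H : Subgroup (GL ι F)) : Prop :=
  ∃ (a b : ℕ) (e : ι ≃ Fin a × Fin b) (P : GL ι F) (f₁ : (Fin a → F) → (Fin a → F) → F)
    (f₂ : (Fin b → F) → (Fin b → F) → F), (2 : F) ≠ 0 ∧ 3 ≤ a ∧ a ≤ b ∧ IsSymmetricForm f₁ ∧
    IsSymmetricForm f₂ ∧ IsTensorFormStructure id (QuadraticMap.polar Q) f₁ f₂ e P ∧
    H ≤ tensorProductSubgroup a b e P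

variable (hQ : Cfsg.Geo.IsNondegenerateQuadraticForm Q)

lemma isSymplectic_formOfGram {k : ℕ} {G : Matrix (Fin k) (Fin k) F} (hu : IsUnit G)
    (hG : Gᵀ = (-1 : F) • G) (halt : ∀ x, x ⬝ᵥ (G *ᵥ x) = 0) :
    Cfsg.Geo.IsSymplecticForm (Cfsg.Geo.formOfGram id G) := by
  have hr := isRefl_formOfGram hu (neg_ne_zero.2 one_ne_zero) hG
  refine ⟨hr.bilinear, fun v w => ?_, fun v => by rw [formOfGram_eq, Function.id_comp]; exact halt v,
    hr.nondeg⟩
  rw [hr.swap w v]; simp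

omit hQ in
lemma isSymmetric_formOfGram' {k : ℕ} {G : Matrix (Fin k) (Fin k) F} (hu : IsUnit G)
    (hG : Gᵀ = G) : Cfsg.Geo.IsSymmetricForm (Cfsg.Geo.formOfGram id G) := by
  have hr := isRefl_formOfGram hu (α := (1 : F)) one_ne_zero (hG.trans (one_smul F G).symm)
  refine ⟨hr.bilinear, fun u v => ?_, hr.nondeg⟩
  rw [hr.swap v u]; simp

lemma TensorForm.structure' {f : (ι → F) → (ι → F) → F} {a b : ℕ} {e : ι ≃ Fin a × Fin b}
    {P : GL ι F} {G₁ : Matrix (Fin a) (Fin a) F} {G₂ : Matrix (Fin b) (Fin b) F}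
    (T : TensorForm f H e P G₁ G₂) : Cfsg.Geo.IsTensorFormStructure id f
      (Cfsg.Geo.formOfGram id G₁) (Cfsg.Geo.formOfGram id G₂) e P := by
  refine ⟨1, one_ne_zero, fun x y => ?_⟩
  have hg₁ : Cfsg.Geo.gramMatrix (Cfsg.Geo.formOfGram id G₁) = G₁ :=
    gramMatrix_formOfGram (σ := RingEquiv.refl F) G₁
  have hg₂ : Cfsg.Geo.gramMatrix (Cfsg.Geo.formOfGram id G₂) = G₂ :=
    gramMatrix_formOfGram (σ := RingEquiv.refl F) G₂
  rw [hg₁, hg₂, one_mul]
  exact T.pull x y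

include hQ in
/-- Two alternating factors: pure tensors are singular. -/
theorem pure_singular [Finite F] (hn : 2 ≤ Fintype.card ι) (hH : H ≤ Cfsg.isometryGroup F Q)
    (hirr : Irr H) {a b : ℕ} {e : ι ≃ Fin a × Fin b} {P : GL ι F}
    {G₁ : Matrix (Fin a) (Fin a) F} {G₂ : Matrix (Fin b) (Fin b) F}
    (T : TensorForm (QuadraticMap.polar Q) H e P G₁ G₂) (h₁ : ∀ x, x ⬝ᵥ (G₁ *ᵥ x) = 0)
    (h₂ : ∀ y, y ⬝ᵥ (G₂ *ᵥ y) = 0) (x : Fin a → F) (y : Fin b → F) :
    Q ((P : Matrix ι ι F) *ᵥ (pv x y ∘ e)) = 0 := by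
  have hpol : ∀ x x' y y', QuadraticMap.polar Q (frameEquiv e P (pv x y))
      (frameEquiv e P (pv x' y')) = (x ⬝ᵥ (G₁ *ᵥ x')) * (y ⬝ᵥ (G₂ *ᵥ y')) :=
    fun x x' y y' => (T.pull _ _).trans (form_pv G₁ G₂ x x' y y')
  by_cases h2 : (2 : F) = 0
  swap
  · have h := hpol x x y y
    rw [polar_self hQ, h₁, zero_mul] at h
    exact (mul_eq_zero.1 h).resolve_left h2
  refine quad_zero_of_basis hQ h2 hn hH hirr (frameEquiv e P)
    {s | ∃ x y, s = frameEquiv e P (pv x y)} (fun p => ⟨_, _, by rw [single_eq_pv]⟩) ?_ ?_ _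
    ⟨x, y, rfl⟩
  · rintro E hadd hsm hb _ ⟨x, y, rfl⟩
    let L : (Fin a → F) → (Fin b → F) →+ F := fun x => AddMonoidHom.mk'
      (fun y => E (frameEquiv e P (pv x y))) fun y z => by
        rw [← hadd _ _ (by rw [hpol, h₁, zero_mul]), ← map_add]
        congr 2; funext p; simp [pv, mul_add]
    let R : (Fin b → F) → (Fin a → F) →+ F := fun y => AddMonoidHom.mk'
      (fun x => E (frameEquiv e P (pv x y))) fun x z => by
        rw [← hadd _ _ (by rw [hpol, h₂, mul_zero]), ← map_add]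
        congr 2; funext p; simp [pv, add_mul]
    have hR : ∀ j x, R (Pi.single j 1) x = 0 := by
      intro j x
      rw [pi_eq_sum_univ' x, map_sum]
      refine Finset.sum_eq_zero fun i _ => ?_
      show E (frameEquiv e P (pv (x i • Pi.single i 1) (Pi.single j 1))) = 0
      rw [show pv (x i • Pi.single i 1) (Pi.single j 1) = x i • (Pi.single (i, j) 1 : Fin a × Fin b → F) by
        rw [single_eq_pv]; funext p; simp [pv, mul_assoc], map_smul, hsm, hb, mul_zero]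
    show L x y = 0
    rw [pi_eq_sum_univ' y, map_sum]
    refine Finset.sum_eq_zero fun j _ => ?_
    show E (frameEquiv e P (pv x (y j • Pi.single j 1))) = 0
    rw [show pv x (y j • Pi.single j 1) = y j • pv x (Pi.single j 1) by
      funext p; simp [pv, mul_left_comm], map_smul, hsm, show E _ = 0 from hR j x, mul_zero]
  · rintro g hg _ ⟨x, y, rfl⟩
    obtain ⟨c, d, -, -, -, hgX, -, -⟩ := T.elem g hg
    refine ⟨(c : Matrix (Fin a) (Fin a) F) *ᵥ x, (d : Matrix (Fin b) (Fin b) F) *ᵥ y, ?_⟩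
    rw [frameEquiv_apply, frameEquiv_apply, hgX, frAlg_mulVec, kron_mulVec_pv]

include hQ in
/-- In characteristic two the partner of an alternating factor is alternating. -/
theorem alt_partner [Finite F] (h2 : (2 : F) = 0) (hirr : Irr H) {a b : ℕ} (ha : 2 ≤ a)
    (hb : 2 ≤ b) {e : ι ≃ Fin a × Fin b} {P : GL ι F}
    {G₁ : Matrix (Fin a) (Fin a) F} {G₂ : Matrix (Fin b) (Fin b) F}
    (T : TensorForm (QuadraticMap.polar Q) H e P G₁ G₂) (hs₂ : G₂ᵀ = G₂) :
    ∀ j, G₂ j j = 0 := by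
  classical
  let φ : (Fin b → F) →+ F := AddMonoidHom.mk' (fun y => y ⬝ᵥ (G₂ *ᵥ y)) fun y z => by
    have hsw : y ⬝ᵥ (G₂ *ᵥ z) = z ⬝ᵥ (G₂ *ᵥ y) := by
      rw [dotProduct_comm, ← Matrix.vecMul_transpose, ← Matrix.dotProduct_mulVec, hs₂]
    rw [Matrix.mulVec_add, add_dotProduct, dotProduct_add, dotProduct_add, hsw]
    linear_combination (z ⬝ᵥ (G₂ *ᵥ y)) * h2
  have hφsm : ∀ (c : F) y, φ (c • y) = c * c * φ y := fun c y => by
    show (c • y) ⬝ᵥ (G₂ *ᵥ (c • y)) = c * c * (y ⬝ᵥ (G₂ *ᵥ y))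
    rw [Matrix.mulVec_smul, smul_dotProduct, dotProduct_smul, smul_eq_mul, smul_eq_mul, mul_assoc]
  by_contra hcon
  push Not at hcon
  obtain ⟨j₀, hj₀⟩ := hcon
  let W₂ : Submodule F (Fin b → F) :=
    { carrier := {y | φ y = 0}
      add_mem' := fun {x y} (hx : φ x = 0) (hy : φ y = 0) => by
        show φ (x + y) = 0
        rw [map_add, hx, hy, add_zero]
      zero_mem' := map_zero φ
      smul_mem' := fun c y (hy : φ y = 0) => by
        show φ (c • y) = 0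
        rw [hφsm, hy, mul_zero] }
  have hsingle : φ (Pi.single j₀ 1) = G₂ j₀ j₀ := by
    show _ ⬝ᵥ (G₂ *ᵥ _) = _
    rw [Matrix.mulVec_single_one, single_dotProduct, one_mul]; rfl
  obtain ⟨w, hw, hw0⟩ : ∃ w, φ w = 0 ∧ w ≠ 0 := by
    obtain ⟨j₁, hj₁⟩ : ∃ j₁ : Fin b, j₁ ≠ j₀ := by
      have : Nontrivial (Fin b) := Fin.nontrivial_iff_two_le.2 hb
      exact exists_ne j₀
    obtain ⟨r, hr⟩ := CfsgLib.FiniteForms.sqrt_charTwo h2 (φ (Pi.single j₁ 1) / G₂ j₀ j₀)
    refine ⟨r • Pi.single j₀ 1 + Pi.single j₁ 1, ?_, fun h => ?_⟩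
    · rw [map_add, hφsm, hsingle, ← hr, div_mul_cancel₀ _ hj₀]
      linear_combination φ (Pi.single j₁ 1) * h2
    · simpa [hj₁] using congrFun h j₁
  have hlt : W₂ < ⊤ := lt_top_iff_ne_top.2 fun h => hj₀ (by
    rw [← hsingle]; exact (show Pi.single j₀ 1 ∈ W₂ by rw [h]; exact Submodule.mem_top))
  obtain ⟨ψ, hψ0, hψ⟩ := W₂.exists_le_ker_of_lt_top hlt
  let W : Submodule F (ι → F) :=
    Submodule.span F {s | ∃ x y, φ y = 0 ∧ s = frameEquiv e P (pv x y)}
  have hWinv : Inv H W := by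
    intro g hg u hu
    obtain ⟨c, d, -, v, -, hgX, -, hd⟩ := T.elem g hg
    refine Submodule.span_induction (p := fun u _ => (g : Matrix ι ι F) *ᵥ u ∈ W) ?_ ?_ ?_ ?_ hu
    · rintro _ ⟨x, y, hy, rfl⟩
      refine Submodule.subset_span ⟨(c : Matrix (Fin a) (Fin a) F) *ᵥ x,
        (d : Matrix (Fin b) (Fin b) F) *ᵥ y, ?_, ?_⟩
      · show (_ *ᵥ y) ⬝ᵥ (G₂ *ᵥ (_ *ᵥ y)) = 0
        rw [Matrix.mulVec_mulVec, ← Matrix.vecMul_transpose, ← Matrix.dotProduct_mulVec,
          Matrix.mulVec_mulVec, ← mul_assoc, hd, Matrix.smul_mulVec, dotProduct_smul]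
        exact mul_eq_zero_of_right v hy
      · rw [frameEquiv_apply, frameEquiv_apply, hgX, frAlg_mulVec, kron_mulVec_pv]
    · simp
    · intro x y _ _ hx hy; rw [Matrix.mulVec_add]; exact add_mem hx hy
    · intro c x _ hx; rw [Matrix.mulVec_smul]; exact W.smul_mem c hx
  let i₀ : Fin a := ⟨0, by omega⟩
  rcases irr_iff.1 hirr W hWinv with h | h
  · have hmem : frameEquiv e P (pv (Pi.single i₀ 1) w) ∈ W :=
      Submodule.subset_span ⟨_, _, hw, rfl⟩
    rw [h, Submodule.mem_bot] at hmem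
    have h0 := (frameEquiv e P).injective (hmem.trans (map_zero (frameEquiv e P)).symm)
    exact hw0 (funext fun j => by simpa [pv] using congrFun h0 (i₀, j))
  · obtain ⟨z, hz⟩ : ∃ z, ψ z ≠ 0 := by
      by_contra hc
      push Not at hc
      exact hψ0 (LinearMap.ext hc)
    let Λ : (ι → F) →ₗ[F] F :=
      ψ.comp ((LinearMap.funLeft F F fun j => (i₀, j)).comp (frameEquiv e P).symm.toLinearMap)
    have hker : W ≤ LinearMap.ker Λ := Submodule.span_le.2 (by
      rintro _ ⟨x, y, hy, rfl⟩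
      show ψ ((LinearMap.funLeft F F fun j => (i₀, j)) ((frameEquiv e P).symm _)) = 0
      rw [LinearEquiv.symm_apply_apply]
      rw [show (LinearMap.funLeft F F fun j => (i₀, j)) (pv x y) = x i₀ • y from rfl, map_smul,
        show ψ y = 0 from hψ (show y ∈ W₂ from hy), smul_zero])
    apply hz
    have h1 : frameEquiv e P (pv (Pi.single i₀ 1) z) ∈ LinearMap.ker Λ :=
      hker (by rw [h]; exact Submodule.mem_top)
    change ψ ((LinearMap.funLeft F F fun j => (i₀, j)) ((frameEquiv e P).symm _)) = 0 at h1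
    rw [LinearEquiv.symm_apply_apply] at h1
    rw [← h1]
    congr 1
    funext j
    simp [LinearMap.funLeft, pv]

include hQ in
/-- A stabilised tensor decomposition gives one of the two tensor classes, a field or a pair. -/
theorem tensor_classes [Fintype F] (hn : 6 ≤ Fintype.card ι) (hH : H ≤ Cfsg.isometryGroup F Q)
    (hirr : Irr H) {a : ℕ} (ha : 2 ≤ a) (han : a < Fintype.card ι)
    {E : Fin a → Fin a → Matrix ι ι F} (hE : IsUnits E)
    (hEadj : ∀ k l, (isRefl_polarForm hQ).adj (E k l) ∈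
      Submodule.span F (Set.range fun p : Fin a × Fin a => E p.1 p.2))
    (hHn : ∀ g ∈ H, ∀ k l, (g : Matrix ι ι F) * E k l *
      ((g⁻¹ : GL ι F) : Matrix ι ι F) ∈
      Submodule.span F (Set.range fun p : Fin a × Fin a => E p.1 p.2)) :
    HasAltTensor Q H ∨ HasSymTensor Q H ∨ HasSelfAdjointField Q H ∨ HasUnitaryField Q H ∨
    ∃ (k : ℕ) (D : Fin 2 → Submodule F (ι → F)), 2 * k = Fintype.card ι ∧
      Cfsg.Geo.IsMDecomposition k D ∧ (∀ i, Cfsg.Geo.IsTotallySingularQuad Q (D i)) ∧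
      H ≤ Cfsg.Geo.decompositionStabilizer D := by
  classical
  have : Nonempty ι := Fintype.card_pos_iff.1 (by omega)
  have hf := isRefl_polarForm hQ
  have hfix := fixesPolar_of_le hH
  obtain ⟨b, e, P, G₁, G₂, α, β, hb0, hcard, hu₁, hu₂, hpull, hαβ, hG₁, hG₂, hle, helem⟩ :=
    tensor_frame_form hf hE hEadj hfix hHn
  rw [show G₁.map (RingEquiv.refl F) = G₁ from Matrix.map_id _] at hG₁
  rw [show G₂.map (RingEquiv.refl F) = G₂ from Matrix.map_id _] at hG₂
  have hb : 2 ≤ b := by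
    by_contra h
    obtain rfl : b = 1 := by omega
    omega
  have T : TensorForm (QuadraticMap.polar Q) H e P G₁ G₂ :=
    ⟨hu₁, hu₂, hpull, hle, fun g hg => by
      obtain ⟨c, d, u, v, huv, hgX, hc, hd⟩ := helem g hg
      exact ⟨c, d, u, v, huv, hgX, by rwa [show (c : Matrix (Fin a) (Fin a) F).map (RingEquiv.refl F) =
        (c : Matrix (Fin a) (Fin a) F) from Matrix.map_id _] at hc,
        by rwa [show (d : Matrix (Fin b) (Fin b) F).map (RingEquiv.refl F) =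
        (d : Matrix (Fin b) (Fin b) F) from Matrix.map_id _] at hd⟩⟩
  have : NeZero a := ⟨by omega⟩
  have hα2 : α * α = 1 := by
    have h := congrArg Matrix.transpose hG₁
    rw [Matrix.transpose_transpose, Matrix.transpose_smul, hG₁, smul_smul] at h
    exact (smul_cancel_matrix hu₁.ne_zero (h.symm.trans (one_smul F G₁).symm))
  obtain rfl : β = α := by
    have h := congrArg (fun x => α * x) hαβ
    simp only [← mul_assoc, hα2, one_mul, mul_one] at h
    exact h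
  -- both factors alternating
  have keyAlt : ∀ {a b : ℕ} {e : ι ≃ Fin a × Fin b} {P : GL ι F} {G₁ : Matrix (Fin a) (Fin a) F}
      {G₂ : Matrix (Fin b) (Fin b) F}, 2 ≤ a → a ≤ b →
      TensorForm (QuadraticMap.polar Q) H e P G₁ G₂ → G₁ᵀ = (-1 : F) • G₁ → G₂ᵀ = (-1 : F) • G₂ →
      (∀ x, x ⬝ᵥ (G₁ *ᵥ x) = 0) → (∀ y, y ⬝ᵥ (G₂ *ᵥ y) = 0) → HasAltTensor Q H := by
    intro a b e P G₁ G₂ ha hab T hG₁ hG₂ h₁ h₂
    exact ⟨a, b, e, P, _, _, ha, hab, isSymplectic_formOfGram T.unit₁ hG₁ h₁,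
      isSymplectic_formOfGram T.unit₂ hG₂ h₂, T.structure',
      fun x y => pure_singular hQ (by omega) hH hirr T h₁ h₂ x y, T.le⟩
  have bothAlt : β = -1 → (∀ x, x ⬝ᵥ (G₁ *ᵥ x) = 0) → (∀ y, y ⬝ᵥ (G₂ *ᵥ y) = 0) →
      HasAltTensor Q H := by
    rintro rfl h₁ h₂
    rcases le_total a b with hab | hab
    · exact keyAlt ha hab T hG₁ hG₂ h₁ h₂
    · exact keyAlt hb hab T.swap hG₂ hG₁ h₂ h₁
  by_cases h2 : (2 : F) = 0
  · have hm1 : (-1 : F) = 1 := by linear_combination -h2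
    have hα1 : β = 1 := (mul_self_eq_one_iff.1 hα2).elim id fun h => h.trans hm1
    have hs₁ : G₁ᵀ = G₁ := by rw [hG₁, hα1, one_smul]
    have hs₂ : G₂ᵀ = G₂ := by rw [hG₂, hα1, one_smul]
    have hdiag : ∀ i j, G₁ i i * G₂ j j = 0 := by
      intro i j
      have h0 : pullForm e P (QuadraticMap.polar Q) (Pi.single (i, j) 1) (Pi.single (i, j) 1) = 0 := by
        show QuadraticMap.polar Q _ _ = 0
        rw [polar_self hQ, h2, zero_mul]
      rw [hpull] at h0
      have h1 := congrFun (congrFun (gramMatrix_formOfGram (σ := RingEquiv.refl F)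
        (Matrix.kroneckerMap (· * ·) G₁ G₂)) (i, j)) (i, j)
      exact h1.symm.trans h0
    obtain ⟨hd₁, hd₂⟩ : (∀ i, G₁ i i = 0) ∧ ∀ j, G₂ j j = 0 := by
      by_cases hd : ∀ i, G₁ i i = 0
      · exact ⟨hd, alt_partner hQ h2 hirr ha hb T hs₂⟩
      · push Not at hd
        obtain ⟨i, hi⟩ := hd
        have hd₂ : ∀ j, G₂ j j = 0 := fun j => (mul_eq_zero.1 (hdiag i j)).resolve_left hi
        exact ⟨alt_partner hQ h2 hirr hb ha T.swap hs₁, hd₂⟩
    exact Or.inl (bothAlt (hα1.trans hm1.symm) (dot_self_eq_zero h2 hs₁ hd₁)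
      (dot_self_eq_zero h2 hs₂ hd₂))
  rcases mul_self_eq_one_iff.1 hα2 with rfl | rfl
  swap
  · have halt : ∀ {k : ℕ} {G : Matrix (Fin k) (Fin k) F}, Gᵀ = (-1 : F) • G →
        ∀ x, x ⬝ᵥ (G *ᵥ x) = 0 := by
      intro k G hG x
      have h1 : x ⬝ᵥ (G *ᵥ x) = -(x ⬝ᵥ (G *ᵥ x)) := by
        conv_lhs => rw [Matrix.dotProduct_mulVec, ← Matrix.mulVec_transpose, hG, Matrix.smul_mulVec,
          smul_dotProduct, dotProduct_comm]
        simp
      exact (mul_eq_zero.1 (show (2 : F) * (x ⬝ᵥ (G *ᵥ x)) = 0 by linear_combination h1)).resolve_left h2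
    exact Or.inl (bothAlt rfl (halt hG₁) (halt hG₂))
  rw [one_smul] at hG₁ hG₂
  -- a plane factor
  have keyPlane : ∀ {a : ℕ} {e : ι ≃ Fin a × Fin 2} {P : GL ι F} {G₁ : Matrix (Fin a) (Fin a) F}
      {G₂ : Matrix (Fin 2) (Fin 2) F}, TensorForm (QuadraticMap.polar Q) H e P G₁ G₂ → G₂ᵀ = G₂ →
      HasSelfAdjointField Q H ∨ HasUnitaryField Q H ∨
      ∃ (k : ℕ) (D : Fin 2 → Submodule F (ι → F)), 2 * k = Fintype.card ι ∧
        Cfsg.Geo.IsMDecomposition k D ∧ (∀ i, Cfsg.Geo.IsTotallySingularQuad Q (D i)) ∧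
        H ≤ Cfsg.Geo.decompositionStabilizer D := by
    intro a e P G₁ G₂ T hs
    rcases T.plane hf h2 hfix hs with ⟨k, D, hk, hD, hts, hle⟩ | ⟨K, hK, hadj, -, hle⟩
    · exact Or.inr (Or.inr ⟨k, D, hk, hD, fun i => tsQuad_of_tsPolar hQ h2 (hts i), hle⟩)
    · refine (field_classes hQ (by omega) hH hirr hK (by omega) (fun k hk => ?_) hle).imp id Or.inl
      obtain ⟨k', hk', h⟩ := hadj k hk
      rwa [hf.adj_eq h]
  rcases Nat.lt_or_ge a 3 with ha3 | ha3
  · obtain rfl : a = 2 := by omega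
    exact Or.inr (Or.inr (keyPlane T.swap hG₁))
  rcases Nat.lt_or_ge b 3 with hb3 | hb3
  · obtain rfl : b = 2 := by omega
    exact Or.inr (Or.inr (keyPlane T hG₂))
  refine Or.inr (Or.inl ?_)
  rcases le_total a b with hab | hab
  · exact ⟨a, b, e, P, _, _, h2, ha3, hab, isSymmetric_formOfGram' hu₁ hG₁,
      isSymmetric_formOfGram' hu₂ hG₂, T.structure', hle⟩
  · exact ⟨b, a, _, P, _, _, h2, hb3, hab, isSymmetric_formOfGram' hu₂ hG₂,
      isSymmetric_formOfGram' hu₁ hG₁, T.swap.structure', T.swap.le⟩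

end CfsgLib.Aschbacher
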